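import Cfsg.Prelude.Def_MonsterType
import Cfsg.Agent.MonsterU.ChartOf
import Cfsg.Agent.MonsterU.Fused
import Cfsg.Agent.Lib.GenFitting
set_option linter.all false

/-!
# Groups of Monster type: the chart (helper819)

`chart_of` : `IsOfMonsterType z Q` gives a chart `Chart (Q.map subtype) z eta pi` where `pi` is the given identification
`C(z)/Q ≃ Co1` and `eta` is the inverse of the given map `ψ`.  `type_four_iff`, `type_two_iff` : the conjugates of `z`
in `Q`, different from `z`, are the elements of type 4; the other involutions are the elements of type 2.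
`conj_of_type` : elements of `Q` of the same type are conjugate under `C(z)`.
-/

set_option autoImplicit false

namespace Cfsg.Agent.H819.Base

open Cfsg Cfsg.Spor Cfsg.Agent.MonsterU Cfsg.Agent.MonsterU.Lam2 Cfsg.Agent.MonsterU.Ch
open Cfsg.Agent.Co2Type.Quad Cfsg.Agent.LargeExtra.Base

section

variable {G : Type*} [Group G] {z : G}

theorem mem_map {Q : Subgroup (Subgroup.centralizer ({z} : Set G))} {g : G} :
    g ∈ Q.map (Subgroup.centralizer ({z} : Set G)).subtype ↔
      ∃ hg : g ∈ Subgroup.centralizer ({z} : Set G), (⟨g, hg⟩ : Subgroup.centralizer ({z} : Set G)) ∈ Q := by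
  constructor
  · rintro ⟨x, hx, rfl⟩
    exact ⟨x.2, hx⟩
  · rintro ⟨hg, h⟩
    exact ⟨⟨g, hg⟩, h, rfl⟩

/-- the hypotheses give `Large` -/
theorem large_of [Finite G] {Q : Subgroup (Subgroup.centralizer ({z} : Set G))} [Q.Normal] {w : ℕ}
    (hs : IsExtraspecialCentralizerSetting z Q w) : Large (Q.map (Subgroup.centralizer ({z} : Set G)).subtype) z := by
  obtain ⟨hz, hF, hE, -, -⟩ := hs
  refine Ch.large_of_raw z hz Q hE ?_
  have h := Cfsg.Agent.Lib.GenFitting.centralizer_genFitting_le (G := ↥(Subgroup.centralizer ({z} : Set G)))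
  rw [hF] at h
  exact h

/-- **The chart of a group of Monster type**, compatible with the given data. -/
theorem chart_of_iso [Finite G] {Q : Subgroup (Subgroup.centralizer ({z} : Set G))} [hn : Q.Normal]
    (hs : IsExtraspecialCentralizerSetting z Q 12)
    {e : (Subgroup.centralizer ({z} : Set G)) ⧸ Q ≃* Spor.Co1} {ψ : leechLattice → Q ⧸ Subgroup.center Q}
    (hψ : IsLeechModTwoIso Q e ψ) :
    ∃ eta : G → L2, Chart (Q.map (Subgroup.centralizer ({z} : Set G)).subtype) z eta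
        (e.toMonoidHom.comp (QuotientGroup.mk' Q)) ∧
      ∀ (q : Q) (v : leechLattice), eta ((q : Subgroup.centralizer ({z} : Set G)) : G) = cl v ↔
        ψ v = QuotientGroup.mk q := by
  classical
  have hL := large_of hs
  obtain ⟨hadd, hsurj, hker, hconj⟩ := hψ
  have hψ0 : ψ 0 = 1 := (hker 0).2 ⟨0, by simp⟩
  have hneg : ∀ v, ψ (-v) = (ψ v)⁻¹ := fun v => by
    have := hadd (-v) v
    rw [neg_add_cancel, hψ0] at this
    exact eq_inv_of_mul_eq_one_left this.symm
  have hψeq : ∀ v w, ψ v = ψ w ↔ cl v = cl w := by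
    intro v w
    rw [cl_eq]
    have h1 : ψ v = ψ w ↔ ψ (v - w) = 1 := by
      rw [sub_eq_add_neg, hadd, hneg, mul_inv_eq_one]
    rw [h1, hker]
    constructor
    · rintro ⟨u, hu⟩; exact ⟨u, by rw [hu, two_nsmul]⟩
    · rintro ⟨u, hu⟩; exact ⟨u, by rw [hu, two_nsmul]⟩
  choose f hf using hsurj
  let sec : Q → leechLattice := fun q => f (QuotientGroup.mk q)
  have hsec : ∀ q : Q, ψ (sec q) = QuotientGroup.mk q := fun q => hf _
  let eta : G → L2 := fun g =>
    if h : ∃ hg : g ∈ Subgroup.centralizer ({z} : Set G), (⟨g, hg⟩ : Subgroup.centralizer ({z} : Set G)) ∈ Q then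
      cl (sec ⟨⟨g, h.1⟩, h.2⟩) else 0
  have heta : ∀ q : Q, eta ((q : Subgroup.centralizer ({z} : Set G)) : G) = cl (sec q) := by
    intro q
    have h : ∃ hg : ((q : Subgroup.centralizer ({z} : Set G)) : G) ∈ Subgroup.centralizer ({z} : Set G),
      (⟨((q : Subgroup.centralizer ({z} : Set G)) : G), hg⟩ : Subgroup.centralizer ({z} : Set G)) ∈ Q :=
      ⟨q.1.2, q.2⟩
    exact dif_pos h
  have hkey : ∀ (q : Q) (v : leechLattice), eta ((q : Subgroup.centralizer ({z} : Set G)) : G) = cl v ↔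
        ψ v = QuotientGroup.mk q := by
    intro q v
    rw [heta, ← hψeq, hsec]
    exact eq_comm
  have hQfin : Finite Q := inferInstance
  have hcen : ∀ q : Q, (QuotientGroup.mk q : Q ⧸ Subgroup.center Q) = 1 ↔
      (((q : Subgroup.centralizer ({z} : Set G)) : G) = 1 ∨ ((q : Subgroup.centralizer ({z} : Set G)) : G) = z) := by
    intro q
    rw [QuotientGroup.eq_one_iff]
    constructor
    · intro hq
      refine hL.cent _ ⟨q, q.2, rfl⟩ ?_
      rintro _ ⟨y, hy, rfl⟩
      have := Subgroup.mem_center_iff.1 hq ⟨y, hy⟩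
      exact (congrArg (fun y : Q => ((y : Subgroup.centralizer ({z} : Set G)) : G)) this).symm
    · rintro (hq | hq)
      · have : q = 1 := Subtype.ext (Subtype.ext hq)
        rw [this]; exact Subgroup.one_mem _
      · rw [Subgroup.mem_center_iff]
        intro y
        apply Subtype.ext
        apply Subtype.ext
        show ((y : Subgroup.centralizer ({z} : Set G)) : G) * ((q : Subgroup.centralizer ({z} : Set G)) : G) =
          ((q : Subgroup.centralizer ({z} : Set G)) : G) * ((y : Subgroup.centralizer ({z} : Set G)) : G)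
        rw [hq]; exact hL.comm_z _ ⟨y, y.2, rfl⟩
  refine ⟨eta, ?_, hkey⟩
  refine ⟨hL, inferInstance, ?_, ?_, ?_, ?_, ?_⟩
  · rintro _ ⟨x, hx, rfl⟩ _ ⟨y, hy, rfl⟩
    have h1 := heta ⟨x, hx⟩
    have h2 := heta ⟨y, hy⟩
    have h3 : eta (((⟨x, hx⟩ : Q) * ⟨y, hy⟩ : Q) : Subgroup.centralizer ({z} : Set G)) =
        cl (sec ⟨x, hx⟩ + sec ⟨y, hy⟩) := by
      rw [hkey, hadd, hsec, hsec]
      rfl
    have h4 : eta ((x : G) * y) = cl (sec ⟨x, hx⟩ + sec ⟨y, hy⟩) := h3
    show eta ((x : G) * y) = eta (x : G) + eta (y : G)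
    rw [h4, map_add]
    exact congrArg₂ (· + ·) h1.symm h2.symm
  · rintro _ ⟨x, hx, rfl⟩
    have h1 := hkey ⟨x, hx⟩ 0
    rw [map_zero, hψ0] at h1
    refine h1.trans ?_
    rw [eq_comm]
    exact hcen ⟨x, hx⟩
  · intro v
    obtain ⟨w, rfl⟩ := cl_surjective v
    obtain ⟨q, hq⟩ := QuotientGroup.mk_surjective (ψ w)
    exact ⟨_, ⟨q, q.2, rfl⟩, (hkey q w).2 hq.symm⟩
  · rintro c _ ⟨x, hx, rfl⟩
    obtain ⟨g, hg⟩ := QuotientGroup.mk_surjective (e (QuotientGroup.mk c))
    have h1 := hconj c g hg (sec ⟨x, hx⟩) ⟨x, hx⟩ (hsec _)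
    have h2 := (hkey _ _).2 h1
    have h3 : eta ((c : G) * x * (c : G)⁻¹) = cl (g • sec ⟨x, hx⟩) := h2
    have h4 : eta (x : G) = cl (sec ⟨x, hx⟩) := heta ⟨x, hx⟩
    show eta ((c : G) * x * (c : G)⁻¹) = e (QuotientGroup.mk c) • eta (x : G)
    rw [h3, h4, ← hg]
    rfl
  · exact e.surjective.comp (QuotientGroup.mk'_surjective Q)

/-- **The chart of a group of Monster type.** -/
theorem chart_of [Finite G] {Q : Subgroup (Subgroup.centralizer ({z} : Set G))} [hn : Q.Normal]
    (hM : IsOfMonsterType z Q) :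
    ∃ (eta : G → L2) (pi : Subgroup.centralizer ({z} : Set G) →* Co1),
      Chart (Q.map (Subgroup.centralizer ({z} : Set G)).subtype) z eta pi := by
  obtain ⟨hs, e, ψ, hψ⟩ := hM
  obtain ⟨eta, h, -⟩ := chart_of_iso hs hψ
  exact ⟨eta, _, h⟩

/-- the conjugate of `z` in `Q` -/
theorem fused_of {Q : Subgroup (Subgroup.centralizer ({z} : Set G))} [hn : Q.Normal]
    (hM : IsOfMonsterType z Q) :
    ∃ g : G, g * z * g⁻¹ ∈ Q.map (Subgroup.centralizer ({z} : Set G)).subtype ∧ g * z * g⁻¹ ≠ z := by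
  obtain ⟨⟨-, -, -, -, g, h1, h2⟩, -⟩ := hM
  exact ⟨g, mem_map.2 h1, h2⟩

end

/-! ### types and conjugacy -/

section chart

variable {G : Type*} [Group G] {Q : Subgroup G} {z : G} {eta : G → L2}
  {pi : Subgroup.centralizer ({z} : Set G) →* Co1}

/-- elements of `Q` over the same vector `≠ 0` are conjugate under `Q` -/
theorem conj_of_eta (h : Chart Q z eta pi) {s t : G} (hs : s ∈ Q) (ht : t ∈ Q) (h0 : eta s ≠ 0)
    (hst : eta s = eta t) : ∃ q ∈ Q, q * s * q⁻¹ = t := by
  rcases (h.eta_eq hs ht).1 hst with rfl | h1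
  · exact ⟨1, Q.one_mem, by group⟩
  · have ht1 : s ≠ 1 := fun h2 => h0 (by rw [h2]; exact h.eta_one)
    have htz : s ≠ z := fun h2 => h0 (by rw [h2]; exact h.eta_z)
    obtain ⟨q, hq, hqs⟩ := exists_not_comm h.large hs ht1 htz
    refine ⟨q, hq, ?_⟩
    have e1 : q * s * q⁻¹ = s * z := by
      have hqz : q * z = z * q := h.large.comm_z q hq
      rw [hqs]
      calc s * q * z * q⁻¹ = s * (q * z) * q⁻¹ := by group
        _ = s * z := by rw [hqz]; group
    rw [e1, h1]
    calc t * z * z = t * (z * z) := by group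
      _ = t := by rw [h.large.z_sq, mul_one]

/-- **Elements of `Q` of the same type are conjugate under `C(z)`.** -/
theorem conj_of_type (h : Chart Q z eta pi) {n : ℤ} (hn : n = 2 ∨ n = 3 ∨ n = 4) {s t : G} (hs : s ∈ Q) (ht : t ∈ Q)
    (h1 : IsType n (eta s)) (h2 : IsType n (eta t)) : ∃ c : G, c * z = z * c ∧ c * s * c⁻¹ = t := by
  obtain ⟨g, hg⟩ := IsType.trans hn h1 h2
  obtain ⟨c, hc⟩ := h.pi_surj (QuotientGroup.mk g)
  have hcs : (c : G) * s * (c : G)⁻¹ ∈ Q := h.large.conj_mem _ (Subgroup.mem_centralizer_singleton_iff.1 c.2) s hs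
  have h3 : eta ((c : G) * s * (c : G)⁻¹) = eta t := by
    rw [h.eta_conj c s hs, hc, mk_smul, hg]
  have h0 : eta ((c : G) * s * (c : G)⁻¹) ≠ 0 := by
    rw [h3]
    intro h4
    rw [h4] at h2
    obtain ⟨v, hv, hv0⟩ := h2
    obtain ⟨u, rfl⟩ := cl_eq_zero.1 hv0
    by_cases hu : u = 0
    · rw [hu] at hv
      have : sqNorm ((2 • (0 : leechLattice) : leechLattice) : GolayPt → ℤ) = 0 := by
        rw [nsmul_zero, sqNorm]
        exact Finset.sum_eq_zero fun i _ => by rw [AddSubgroup.coe_zero, Pi.zero_apply]; norm_num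
      omega
    · have h5 : (32 : ℤ) ≤ sqNorm (u : GolayPt → ℤ) :=
        Cfsg.Agent.S0391.result u u.2 (fun h => hu (Subtype.ext h))
      have h6 : sqNorm ((2 • u : leechLattice) : GolayPt → ℤ) = 4 * sqNorm (u : GolayPt → ℤ) := by
        rw [sqNorm, sqNorm, Finset.mul_sum]
        refine Finset.sum_congr rfl fun i _ => ?_
        rw [AddSubgroup.coe_nsmul, Pi.smul_apply, nsmul_eq_mul]
        push_cast; ring
      omega
  obtain ⟨q, hq, hqt⟩ := conj_of_eta h hcs ht h0 h3
  refine ⟨q * c, ?_, ?_⟩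
  · have h4 : (c : G) * z = z * c := Subgroup.mem_centralizer_singleton_iff.1 c.2
    rw [mul_assoc, h4, ← mul_assoc, h.large.comm_z q hq, mul_assoc]
  · rw [← hqt]; group

/-- the zero class has no type 2, 3, 4 -/
theorem ne_zero_of_type {n : ℤ} (hn : n = 2 ∨ n = 3 ∨ n = 4) {x : L2} (hx : IsType n x) : x ≠ 0 := by
  rintro rfl
  obtain ⟨v, hv, hv0⟩ := hx
  obtain ⟨u, rfl⟩ := cl_eq_zero.1 hv0
  by_cases hu : u = 0
  · rw [hu] at hv
    have : sqNorm ((2 • (0 : leechLattice) : leechLattice) : GolayPt → ℤ) = 0 := by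
      rw [nsmul_zero, sqNorm]
      exact Finset.sum_eq_zero fun i _ => by rw [AddSubgroup.coe_zero, Pi.zero_apply]; norm_num
    omega
  · have h5 : (32 : ℤ) ≤ sqNorm (u : GolayPt → ℤ) :=
      Cfsg.Agent.S0391.result u u.2 (fun h => hu (Subtype.ext h))
    have h6 : sqNorm ((2 • u : leechLattice) : GolayPt → ℤ) = 4 * sqNorm (u : GolayPt → ℤ) := by
      rw [sqNorm, sqNorm, Finset.mul_sum]
      refine Finset.sum_congr rfl fun i _ => ?_
      rw [AddSubgroup.coe_nsmul, Pi.smul_apply, nsmul_eq_mul]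
      push_cast; ring
    omega

/-- **The conjugates of `z` in `Q - {z}` are the elements of type 4** (when `z` is not weakly closed in `Q`). -/
theorem type_four_iff [Finite G] (h : Chart Q z eta pi) (hf : ∃ g : G, g * z * g⁻¹ ∈ Q ∧ g * z * g⁻¹ ≠ z) {s : G}
    (hs : s ∈ Q) : IsType 4 (eta s) ↔ IsConj z s ∧ s ≠ z := by
  constructor
  · intro h4
    obtain ⟨g, hg1, hg2⟩ := hf
    have h5 := Fused.type_four_of_conj h hg1 hg2
    obtain ⟨c, hcz, hc⟩ := conj_of_type h (Or.inr (Or.inr rfl)) hg1 hs h5 h4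
    refine ⟨isConj_iff.2 ⟨c * g, ?_⟩, ?_⟩
    · rw [← hc]; group
    · rintro rfl
      exact ne_zero_of_type (Or.inr (Or.inr rfl)) h4 h.eta_z
  · rintro ⟨hc, hne⟩
    obtain ⟨g, rfl⟩ := isConj_iff.1 hc
    exact Fused.type_four_of_conj h hs hne

/-- **The involutions of `Q` not conjugate to `z` are the elements of type 2.** -/
theorem type_two_iff [Finite G] (h : Chart Q z eta pi) (hf : ∃ g : G, g * z * g⁻¹ ∈ Q ∧ g * z * g⁻¹ ≠ z) {s : G}
    (hs : s ∈ Q) : IsType 2 (eta s) ↔ orderOf s = 2 ∧ ¬ IsConj z s := by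
  constructor
  · intro h2
    have h0 := ne_zero_of_type (Or.inl rfl) h2
    refine ⟨orderOf_eq_prime ?_ ?_, ?_⟩
    · rw [pow_two, h.sq_one hs, qf_of_type h2]; rfl
    · rintro rfl; exact h0 h.eta_one
    · intro hc
      obtain ⟨g, rfl⟩ := isConj_iff.1 hc
      by_cases hne : g * z * g⁻¹ = z
      · rw [hne] at h0; exact h0 h.eta_z
      · exact Fused.not_type_two h hs hne h2
  · rintro ⟨ho, hc⟩
    have hsq : s * s = 1 := by rw [← pow_two, ← ho]; exact pow_orderOf_eq_one s
    rcases type_cases (eta s) with h0 | h2 | h3 | h4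
    · rcases (h.eta_zero s hs).1 h0 with rfl | rfl
      · rw [orderOf_one] at ho; exact absurd ho (by norm_num)
      · exact absurd (IsConj.refl s) hc
    · exact h2
    · exfalso
      have h5 := (h.sq_one hs).1 hsq
      rw [qf_of_type h3] at h5
      revert h5; decide
    · exact absurd ((type_four_iff h hf hs).1 h4).1 hc

end chart

end Cfsg.Agent.H819.Base
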