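import Cfsg.Agent.H383.Cube.DC_m3
import Cfsg.Agent.H49.Four.TEight_m3
import Cfsg.Agent.H237.EvenFi
import Cfsg.Agent.FastGrp
import Cfsg.Agent.Prune
set_option linter.all false
prune_inst 0x7f00000000000000000000000000000000000000000000000000000000000000000000000000000000000000000000000000000000000000000000000000000000000000000000000000000000000000003fffffffffffffffffffffffffffbeffbdffffffff
open scoped Cfsg.Agent.FastGrp

/-!
# `CubeBound` for `Fi24'` (helper819, for S5721/S5718)
-/

set_option autoImplicit false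

namespace Cfsg.Agent.H819.CubeFi24

open Subgroup Cfsg Cfsg.Spor Cfsg.Agent.H383.Cube Cfsg.Agent.H819.CubeGen
open Cfsg.Agent.R08 Cfsg.Agent.R08.FiTwentyFour Cfsg.Agent.R08.TetBasic Cfsg.Agent.R08.TetTwo
open Cfsg.Agent.H816.OutInv (outer_cases Tri3)

theorem conj_injective : Function.Injective (MulAut.conjNormal : Fi24 →* MulAut (commutator Fi24)) := by
  rw [injective_iff_map_eq_one]
  intro a ha
  have h1 : a ∈ centralizer ((commutator Fi24 : Subgroup Fi24) : Set Fi24) := by
    rw [mem_centralizer_iff]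
    intro b hb
    have h2 := congrArg (fun f : MulAut (commutator Fi24) => ((f ⟨b, hb⟩ : commutator Fi24) : Fi24)) ha
    simp only [MulAut.conjNormal_apply, MulAut.one_apply] at h2
    exact (mul_inv_eq_iff_eq_mul.1 h2).symm
  rw [Cfsg.Agent.H816.Fin24.centralizer_commutator] at h1
  exact h1

theorem conj_surjective : Function.Surjective (MulAut.conjNormal : Fi24 →* MulAut (commutator Fi24)) := by
  have := finite_Fi24
  obtain ⟨e⟩ := Cfsg.Agent.H816.Fin24.fi24_mulAut
  have h : Nat.card Fi24 = Nat.card (MulAut (commutator Fi24)) := Nat.card_congr e.toEquiv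
  have : Finite (MulAut (commutator Fi24)) := Finite.of_equiv _ e.toEquiv
  exact ((Nat.bijective_iff_injective_and_card _).2 ⟨conj_injective, h⟩).2

/-- the members of `Fi24'` commuting with `t` -/
abbrev CF (t : Fi24) : Subgroup Fi24 := commutator Fi24 ⊓ centralizer ({t} : Set Fi24)

theorem conj_ne {g x y : Fi24} (h1 : x ≠ y) : g * x * g⁻¹ ≠ g * y * g⁻¹ :=
    fun h2 => h1 (mul_left_cancel (mul_right_cancel h2))

theorem conj_com {g x y : Fi24} (h1 : Commute x y) : Commute (g * x * g⁻¹) (g * y * g⁻¹) := by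
  calc g * x * g⁻¹ * (g * y * g⁻¹) = g * (x * y) * g⁻¹ := by group
    _ = g * (y * x) * g⁻¹ := by rw [h1.eq]
    _ = g * y * g⁻¹ * (g * x * g⁻¹) := by group

theorem fx {g x : Fi24} (h1 : g ∈ centralizer ({x} : Set Fi24)) : g * x * g⁻¹ = x := by
  rw [mem_centralizer_singleton_iff] at h1
  rw [h1]; group

theorem card_one {a : Fi24} (ha : a ∈ L) : 4089470473293000000 ≤ Nat.card ↥(CF a) := by
  have := finite_Fi24
  have H := TetBigInst.hyp
  have h1 := card_le_orbit (commutator Fi24) a L (fun m _ => H.conj a ha m)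
  rw [H.n0, card_commutator] at h1
  change 4089470473293000000 ≤ Nat.card ↥(commutator Fi24 ⊓ centralizer ({a} : Set Fi24))
  omega

theorem card_pair {a b : Fi24} (ha : a ∈ L) (hb : b ∈ L) (hab : a ≠ b) (cab : Commute a b) :
    129123503000000 ≤ Nat.card ↥(commutator Fi24 ⊓ centralizer ({a} : Set Fi24) ⊓ centralizer ({b} : Set Fi24)) := by
  have := finite_Fi24
  have H := TetBigInst.hyp
  have h1 := card_one ha
  have h2 := card_le_orbit (commutator Fi24 ⊓ centralizer ({a} : Set Fi24)) b {x | x ∈ L ∧ x ≠ a ∧ Commute x a} (by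
    rintro m ⟨-, hm⟩
    have e := fx hm
    refine ⟨H.conj b hb m, ?_, ?_⟩
    · have := conj_ne (g := m) hab.symm
      rwa [e] at this
    · have := conj_com (g := m) cab.symm
      rwa [e] at this)
  rw [H.n1 a ha] at h2
  change 4089470473293000000 ≤ Nat.card ↥(commutator Fi24 ⊓ centralizer ({a} : Set Fi24)) at h1
  omega

theorem card_tri {a b c : Fi24} (h : Tri3 a b c) :
    36787000000 ≤ Nat.card ↥(commutator Fi24 ⊓ centralizer ({a} : Set Fi24) ⊓ centralizer ({b} : Set Fi24) ⊓
      centralizer ({c} : Set Fi24)) := by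
  have := finite_Fi24
  have H := TetBigInst.hyp
  have h1 := card_pair h.ha h.hb h.nab h.ab
  have h3 := card_le_orbit (commutator Fi24 ⊓ centralizer ({a} : Set Fi24) ⊓ centralizer ({b} : Set Fi24)) c
    {x | x ∈ L ∧ x ≠ a ∧ x ≠ b ∧ Commute x a ∧ Commute x b} (by
    rintro m ⟨⟨-, hm⟩, hm'⟩
    have e := fx hm
    have e' := fx hm'
    refine ⟨H.conj c h.hc m, ?_, ?_, ?_, ?_⟩
    · have := conj_ne (g := m) h.nac.symm
      rwa [e] at this
    · have := conj_ne (g := m) h.nbc.symm
      rwa [e'] at this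
    · have := conj_com (g := m) h.ac.symm
      rwa [e] at this
    · have := conj_com (g := m) h.bc.symm
      rwa [e'] at this)
  rw [H.n2 a h.ha b h.hb h.nab h.ab] at h3
  omega

theorem card_tet {s : Fi24} (hs : s ∈ commutator Fi24) {a b c d : Fi24} (h : IsTet L s a b c d) :
    160526499840 ≤ Nat.card ↥(CF s) := by
  have := finite_Fi24
  obtain ⟨g, hg⟩ := CTwoTab.FiTF.conj_tet (t := ⟨s, hs⟩) h
  have hg' : s = (g : Fi24) * KFacts.FiTF.Defs.z * (g : Fi24)⁻¹ := congrArg Subtype.val hg
  have h1 : Nat.card ↥(centralizer ({s} : Set Fi24)) = 321052999680 := by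
    rw [← Cfsg.Agent.KFacts.FiTF.Order.card]
    refine Nat.card_congr ((MulAut.conj (g : Fi24)).symm.toEquiv.subtypeEquiv ?_)
    intro x
    rw [mem_centralizer_singleton_iff, hg']
    change _ ↔ (MulAut.conj (g : Fi24)).symm x ∈ centralizer ({KFacts.FiTF.Defs.z} : Set Fi24)
    rw [mem_centralizer_singleton_iff, MulAut.conj_symm_apply]
    constructor
    · intro h2
      calc (g : Fi24)⁻¹ * x * g * KFacts.FiTF.Defs.z = (g : Fi24)⁻¹ * (x * (g * KFacts.FiTF.Defs.z * (g : Fi24)⁻¹)) * g := by
            group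
        _ = (g : Fi24)⁻¹ * (g * KFacts.FiTF.Defs.z * (g : Fi24)⁻¹ * x) * g := by rw [h2]
        _ = _ := by group
    · intro h2
      calc x * (g * KFacts.FiTF.Defs.z * (g : Fi24)⁻¹) = g * ((g : Fi24)⁻¹ * x * g * KFacts.FiTF.Defs.z) * (g : Fi24)⁻¹ := by
            group
        _ = g * (KFacts.FiTF.Defs.z * ((g : Fi24)⁻¹ * x * g)) * (g : Fi24)⁻¹ := by rw [h2]
        _ = _ := by group
  have h2 := card_mul_index ((commutator Fi24).subgroupOf (centralizer ({s} : Set Fi24)))
  have h3 : ((commutator Fi24).subgroupOf (centralizer ({s} : Set Fi24))).index ∣ 2 := by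
    have := relIndex_dvd_index_of_normal (commutator Fi24) (centralizer ({s} : Set Fi24))
    rwa [index_commutator] at this
  have h4 : Nat.card ↥((commutator Fi24).subgroupOf (centralizer ({s} : Set Fi24))) = Nat.card ↥(CF s) := by
    rw [← inf_subgroupOf_right]
    exact Nat.card_congr (subgroupOfEquivOfLe inf_le_right).toEquiv
  rw [h4, h1] at h2
  have h5 := Nat.le_of_dvd (by norm_num) h3
  have h6 : Nat.card ↥(CF s) * ((commutator Fi24).subgroupOf (centralizer ({s} : Set Fi24))).index ≤
    Nat.card ↥(CF s) * 2 := Nat.mul_le_mul_left _ h5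
  omega

theorem card_CF {t : Fi24} (ht : t * t = 1) (ht1 : t ≠ 1) : 36787000000 ≤ Nat.card ↥(CF t) := by
  have := finite_Fi24
  by_cases h : t ∈ commutator Fi24
  · rcases OddHalf.D4.Spor.FiTF.facts.invol t h ht ht1 with ⟨a, ha, b, hb, nab, cab, rfl⟩ | ⟨a, b, c, d, h3⟩
    · have h2 : 36787000000 ≤ Nat.card ↥(commutator Fi24 ⊓ centralizer ({a} : Set Fi24) ⊓ centralizer ({b} : Set Fi24)) :=
        (card_pair ha hb nab cab).trans' (by norm_num)
      refine h2.trans (card_le_of_le ?_)
      rintro x ⟨⟨h0, hx1⟩, hx2⟩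
      refine ⟨h0, ?_⟩
      replace hx1 := mem_centralizer_singleton_iff.1 hx1
      replace hx2 := mem_centralizer_singleton_iff.1 hx2
      refine mem_centralizer_singleton_iff.2 ?_
      rw [← mul_assoc, hx1, mul_assoc, hx2, mul_assoc]
    · exact (card_tet h h3).trans' (by norm_num)
  · rcases outer_cases h ht with h1 | ⟨a, b, c, h1, rfl⟩
    · exact (card_one h1).trans' (by norm_num)
    · refine (card_tri h1).trans (card_le_of_le ?_)
      rintro x ⟨⟨⟨h0, hx1⟩, hx2⟩, hx3⟩
      refine ⟨h0, ?_⟩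
      replace hx1 := mem_centralizer_singleton_iff.1 hx1
      replace hx2 := mem_centralizer_singleton_iff.1 hx2
      replace hx3 := mem_centralizer_singleton_iff.1 hx3
      refine mem_centralizer_singleton_iff.2 ?_
      calc x * (a * b * c) = (x * a) * b * c := by group
        _ = a * (x * b) * c := by rw [hx1]; group
        _ = a * b * (x * c) := by rw [hx2]; group
        _ = a * b * c * x := by rw [hx3]; group

theorem cube_fi24 : CubeBound (commutator Fi24) := by
  have := finite_Fi24
  intro α hα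
  obtain ⟨t, rfl⟩ := conj_surjective α
  have ht : t * t = 1 := by
    apply conj_injective
    rw [map_mul, map_one, ← pow_two, ← hα, pow_orderOf_eq_one]
  have ht1 : t ≠ 1 := by
    rintro rfl
    rw [map_one, orderOf_one] at hα
    omega
  have h1 := card_CF ht ht1
  have h2 : Nat.card ↥(CF t) = Nat.card {x : commutator Fi24 // MulAut.conjNormal t x = x} := by
    refine Nat.card_congr
      { toFun := fun x => ⟨⟨x, x.2.1⟩, ?_⟩
        invFun := fun x => ⟨x.1, x.1.2, ?_⟩
        left_inv := fun x => rfl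
        right_inv := fun x => rfl }
    · have h3 := x.2.2
      apply Subtype.ext
      rw [MulAut.conjNormal_apply]
      have h4 : (x : Fi24) * t = t * x := mem_centralizer_singleton_iff.1 h3
      change t * (x : Fi24) * t⁻¹ = x
      rw [← h4]; group
    · have h3 := congrArg Subtype.val x.2
      rw [MulAut.conjNormal_apply] at h3
      change (x.1 : Fi24) ∈ centralizer ({t} : Set Fi24)
      rw [mem_centralizer_singleton_iff]
      exact (mul_inv_eq_iff_eq_mul.1 h3).symm
  rw [card_commutator, ← h2]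
  calc 1255205709190661721292800 < 36787000000 ^ 3 := by norm_num
    _ ≤ _ := Nat.pow_le_pow_left h1 3

theorem cube_Fi24' {G : Type*} [Group G] (h : Cfsg.Spor.IsoFi24' G) : CubeBound G := by
  obtain ⟨e⟩ := h
  exact CubeBound.congr e.symm cube_fi24

end Cfsg.Agent.H819.CubeFi24
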