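import Cfsg.Prelude.Def_MonsterType
import Cfsg.Agent.LargeExtra.Nine.ToCent
import Cfsg.Agent.LThreeMB.FStar
set_option linter.all false

/-!
# The extraspecial-centralizer setting from `Large` (helper819)

`Large P t` (elementwise description of a large extraspecial 2-subgroup `P` of `C_X(t)`), a homomorphism of `C_X(t)` onto a
group without nontrivial normal 2-subgroups, with kernel `P`, and a conjugate of `t` in `P` give the hypothesis
`IsExtraspecialCentralizerSetting t P w`.
-/

set_option autoImplicit false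

namespace Cfsg.Agent.H819.Setting

open Cfsg Cfsg.Agent.Co2Type.Quad
open Subgroup (centralizer)

section

variable {X : Type*} [Group X] [Finite X] {P : Subgroup X} {t : X}

/-- `F*(C(t)) = P` -/
theorem genFitting_of (L : Large P t) {K : Type*} [Group K] (ρ : ↥(centralizer ({t} : Set X)) →* K)
    (hρ : Function.Surjective ρ) (hk : ρ.ker = P.subgroupOf (centralizer ({t} : Set X)))
    (hO : ∀ N : Subgroup K, N.Normal → IsPGroup 2 ↥N → N = ⊥) :
    generalizedFittingSubgroup ↥(centralizer ({t} : Set X)) = P.subgroupOf (centralizer ({t} : Set X)) := by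
  have hn := LargeExtra.Nine.ToCent.normal L
  refine LThreeMB.genFitting_eq _ ?_ (LargeExtra.Nine.ToCent.centralizer_le L) ?_
  · exact (LargeExtra.Base.isPGroup L).of_injective
      (Subgroup.subgroupOfEquivOfLe (LargeExtra.Nine.ToCent.le_cent L)).toMonoidHom
      (Subgroup.subgroupOfEquivOfLe (LargeExtra.Nine.ToCent.le_cent L)).injective
  · intro N hN hN2
    rw [← hk]
    have h1 := hO (N.map ρ) (Subgroup.Normal.map hN ρ hρ) (hN2.map ρ)
    exact (Subgroup.map_eq_bot_iff _).1 h1

/-- **The setting.** -/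
theorem setting_of (L : Large P t) {w : ℕ} (hw : w ≠ 0) (hcard : Nat.card ↥P = 2 ^ (2 * w + 1))
    (hF : generalizedFittingSubgroup ↥(centralizer ({t} : Set X)) = P.subgroupOf (centralizer ({t} : Set X)))
    (hfus : ∃ g : X, g * t * g⁻¹ ∈ P ∧ g * t * g⁻¹ ≠ t) :
    IsExtraspecialCentralizerSetting t (P.subgroupOf (centralizer ({t} : Set X))) w := by
  have h2 : Nat.card ↥P ≠ 2 := by
    rw [hcard]
    intro h
    have h3 : (2 : ℕ) ^ (2 * w + 1) = 2 ^ 1 := by rw [h, pow_one]
    have h4 := Nat.pow_right_injective (le_refl 2) h3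
    omega
  refine ⟨?_, hF, LargeExtra.Nine.ToCent.isExtraspecial L h2, ?_, ?_⟩
  · exact orderOf_eq_prime (by rw [pow_two, L.z_sq]) L.z_ne
  · rw [LargeExtra.Nine.ToCent.card_subgroupOf L, hcard]
  · obtain ⟨g, hg, hne⟩ := hfus
    exact ⟨g, ⟨LargeExtra.Nine.ToCent.le_cent L hg, Subgroup.mem_subgroupOf.2 hg⟩, hne⟩

omit [Finite X] in
/-- the quotient -/
theorem exists_equiv {K : Type*} [Group K] (ρ : ↥(centralizer ({t} : Set X)) →* K)
    (hρ : Function.Surjective ρ) (hk : ρ.ker = P.subgroupOf (centralizer ({t} : Set X)))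
    [(P.subgroupOf (centralizer ({t} : Set X))).Normal] :
    ∃ e : ↥(centralizer ({t} : Set X)) ⧸ P.subgroupOf (centralizer ({t} : Set X)) ≃* K,
      ∀ c, e (QuotientGroup.mk c) = ρ c := by
  refine ⟨(QuotientGroup.quotientMulEquivOfEq hk.symm).trans (QuotientGroup.quotientKerEquivOfSurjective ρ hρ), ?_⟩
  intro c
  rfl

end

end Cfsg.Agent.H819.Setting
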