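import Cfsg.Agent.H819.Frame
import Cfsg.Agent.H819.Setting
import Cfsg.Agent.MFive.Rho
set_option linter.all false

/-!
# Fusion of `z` in the centralizer of an element of order 3 or 5, and the setting for `C_G(x)/⟨x⟩` (helper819)

`exists_comm` : `τ` acts on `⟨z, y⟩` as a cycle `z → y → z y`, and `τ x τ⁻¹` is conjugate in `C(z, y)` to a power of `x`,
`x` of prime order `p`, `3 ∤ p - 1`: some `d` commuting with `x` maps `z` to `y` or `z y`.
`setting_of_fus` : the extraspecial-centralizer setting for `C_G(x)/⟨x⟩`.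
-/

set_option autoImplicit false

namespace Cfsg.Agent.H819.Fus

open Cfsg Cfsg.Spor Cfsg.Agent.MonsterU Cfsg.Agent.MonsterU.Lam2 Cfsg.Agent.MonsterU.Ch
open Cfsg.Agent.Co2Type.Quad Cfsg.Agent.H819.Base Cfsg.Agent.H819.Frame
open Cfsg.Agent.LThreeMB (fr XX Zx mk exists_mk mk_eq_one mk_mul mk_congr conj_comm Faith tt PB mem_PB)
open Cfsg.Agent.MonsterU.CoFrameL2 (f0 F)
open Subgroup (centralizer zpowers mem_centralizer_singleton_iff)

section

variable {G : Type*} [Group G]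

theorem conj_zpow_iter {τ x : G} {i : ℤ} (h : τ * x * τ⁻¹ = x ^ i) (n : ℕ) :
    τ ^ n * x * (τ ^ n)⁻¹ = x ^ (i ^ n) := by
  induction n with
  | zero => simp
  | succ n ih =>
    calc τ ^ (n + 1) * x * (τ ^ (n + 1))⁻¹ = τ ^ n * (τ * x * τ⁻¹) * (τ ^ n)⁻¹ := by
          rw [pow_succ]; group
      _ = (τ ^ n * x * (τ ^ n)⁻¹) ^ i := by rw [h, conj_zpow]
      _ = x ^ (i ^ (n + 1)) := by rw [ih, ← zpow_mul, pow_succ]

/-- `τ ^ (p - 1)` centralizes `x` -/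
theorem comm_pow {p : ℕ} (hp : p.Prime) {τ x : G} (hx : orderOf x = p) {i : ℤ} (h : τ * x * τ⁻¹ = x ^ i) :
    τ ^ (p - 1) * x = x * τ ^ (p - 1) := by
  have : Fact p.Prime := ⟨hp⟩
  have h1 := conj_zpow_iter h (p - 1)
  have hi : ¬ (p : ℤ) ∣ i := by
    rintro ⟨k, rfl⟩
    have h2 : x ^ ((p : ℤ) * k) = 1 := by rw [zpow_mul, zpow_natCast, ← hx, pow_orderOf_eq_one, one_zpow]
    rw [h2] at h
    have h3 : x = 1 := by
      calc x = τ⁻¹ * (τ * x * τ⁻¹) * τ := by group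
        _ = 1 := by rw [h]; group
    rw [h3, orderOf_one] at hx
    exact hp.one_lt.ne hx
  have h2 : i ^ (p - 1) ≡ 1 [ZMOD p] := by
    rw [← ZMod.intCast_eq_intCast_iff]
    push_cast
    apply ZMod.pow_card_sub_one_eq_one
    intro h3
    exact hi ((ZMod.intCast_zmod_eq_zero_iff_dvd i p).1 h3)
  have h3 : x ^ (i ^ (p - 1)) = x := by
    obtain ⟨k, hk⟩ := h2.symm.dvd
    have h4 : i ^ (p - 1) = 1 + p * k := by rw [← hk]; ring
    rw [h4, zpow_add, zpow_one, zpow_mul, zpow_natCast, ← hx, pow_orderOf_eq_one, one_zpow, mul_one]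
  rw [h3] at h1
  exact mul_inv_eq_iff_eq_mul.1 h1

end

section

variable {G : Type*} [Group G] {P : Subgroup G} {z y : G} {eta : G → L2}
  {pi : Subgroup.centralizer ({z} : Set G) →* Co1}

/-- the powers of a cycle of `z, y, z y` -/
theorem cycle (hyy : y * y = 1) (hzy : z * y = y * z) {τ : G} (τz : τ * z * τ⁻¹ = y)
    (τy : τ * y * τ⁻¹ = z * y) : τ ^ 2 * z * (τ ^ 2)⁻¹ = z * y ∧ τ ^ 4 * z * (τ ^ 4)⁻¹ = y := by
  have h1 : τ ^ 2 * z * (τ ^ 2)⁻¹ = z * y := by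
    calc τ ^ 2 * z * (τ ^ 2)⁻¹ = τ * (τ * z * τ⁻¹) * τ⁻¹ := by rw [pow_two]; group
      _ = z * y := by rw [τz, τy]
  have h2 : τ * (z * y) * τ⁻¹ = z := by
    calc τ * (z * y) * τ⁻¹ = (τ * z * τ⁻¹) * (τ * y * τ⁻¹) := by group
      _ = y * (z * y) := by rw [τz, τy]
      _ = z := by rw [← mul_assoc, ← hzy, mul_assoc, hyy, mul_one]
  refine ⟨h1, ?_⟩
  calc τ ^ 4 * z * (τ ^ 4)⁻¹ = τ * (τ * (τ ^ 2 * z * (τ ^ 2)⁻¹) * τ⁻¹) * τ⁻¹ := by
        rw [show (4 : ℕ) = 2 + 2 from rfl, pow_add, pow_two]; group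
    _ = y := by rw [h1, h2, τz]

/-- **Fusion in the centralizer of `x`.** -/
theorem exists_comm (h : Chart P z eta pi) (hyP : y ∈ P) (hy : eta y = f0) {τ : G} (τz : τ * z * τ⁻¹ = y)
    (τy : τ * y * τ⁻¹ = z * y) {p : ℕ} (hp : p = 3 ∨ p = 5) {x : G} (hx : orderOf x = p)
    {c : G} (hc : c ∈ centralizer ({z, y} : Set G)) {i : ℤ} (hcx : c * (τ * x * τ⁻¹) * c⁻¹ = x ^ i) :
    ∃ d : G, d * x = x * d ∧ (d * z * d⁻¹ = y ∨ d * z * d⁻¹ = z * y) := by
  have hyy : y * y = 1 := AmalPerf.y_sq h hyP hy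
  have hzy : z * y = y * z := (h.large.comm_z y hyP).symm
  have hcz := (mem_pair.1 hc).1
  have hcy := (mem_pair.1 hc).2
  have h1 : (c * τ) * z * (c * τ)⁻¹ = y := by
    calc (c * τ) * z * (c * τ)⁻¹ = c * (τ * z * τ⁻¹) * c⁻¹ := by group
      _ = y := by rw [τz, hcy]; group
  have h2 : (c * τ) * y * (c * τ)⁻¹ = z * y := by
    calc (c * τ) * y * (c * τ)⁻¹ = c * (τ * y * τ⁻¹) * c⁻¹ := by group
      _ = z * y := by rw [τy, ← mul_assoc, hcz, mul_assoc z c y, hcy]; group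
  have h3 : (c * τ) * x * (c * τ)⁻¹ = x ^ i := by
    rw [← hcx]; group
  obtain ⟨h4, h5⟩ := cycle hyy hzy h1 h2
  rcases hp with rfl | rfl
  · exact ⟨(c * τ) ^ 2, comm_pow (p := 3) (by norm_num) hx h3, Or.inr h4⟩
  · exact ⟨(c * τ) ^ 4, comm_pow (p := 5) (by norm_num) hx h3, Or.inl h5⟩

/-- **The setting for `C_G(x)/⟨x⟩`.** -/
theorem setting_of_fus [Finite G] (h : Chart P z eta pi) {p : ℕ} (hp : p.Prime) (ho : Odd p)
    {x : Subgroup.centralizer ({z} : Set G)} (hx : x ^ p = 1) (hf : Faith (pi x)) {w : ℕ} (hw : w ≠ 0)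
    (hfr : fr (pi x) = 2 ^ (2 * w)) (hO : ∀ N : Subgroup (XX (pi x)), N.Normal → IsPGroup 2 ↥N → N = ⊥)
    {d v : G} (hdx : d * (x : G) = x * d) (hdv : d * z * d⁻¹ = v) (hvP : v ∈ P) (hvz : v ≠ z) :
    ∃ (t : XX (x : G)) (R : Subgroup ↥(centralizer ({t} : Set (XX (x : G))))) (_ : R.Normal),
      IsExtraspecialCentralizerSetting t R w ∧ Nonempty (↥(centralizer ({t} : Set (XX (x : G)))) ⧸ R ≃* XX (pi x)) := by
  have L := MFive.large h ho hx hf
  obtain ⟨ρ, hρ, -, hk⟩ := MFive.exists_rho h hp ho hx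
  have hfin : Finite (XX (x : G)) := Quotient.finite _
  have hF := Setting.genFitting_of L ρ hρ hk hO
  have hn : ((PB P (x : G)).subgroupOf (centralizer ({tt x} : Set (XX (x : G))))).Normal :=
    LargeExtra.Nine.ToCent.normal L
  have hcard : Nat.card ↥(PB P (x : G)) = 2 ^ (2 * w + 1) := by
    rw [MFive.card_PB h ho hx, hfr, pow_succ]
  have hfus : ∃ g : XX (x : G), g * tt x * g⁻¹ ∈ PB P (x : G) ∧ g * tt x * g⁻¹ ≠ tt x := by
    have hzx : z * (x : G) = x * z := (mem_centralizer_singleton_iff.1 x.2).symm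
    have hvx : v * (x : G) = x * v := by rw [← hdv]; exact conj_comm hdx hzx
    have e : mk (x : G) hdx * tt x * (mk (x : G) hdx)⁻¹ = mk (x : G) hvx := mk_congr (conj_comm hdx hzx) hvx hdv
    refine ⟨mk (x : G) hdx, ?_, ?_⟩
    · rw [e]; exact mem_PB.2 ⟨v, hvx, hvP, rfl⟩
    · rw [e]
      intro heq
      obtain ⟨i, hi⟩ := (LThreeMB.mk_eq_mk hvx hzx).1 heq
      have h5 : (x : G) ^ i ∈ P := by
        have : (x : G) ^ i = v⁻¹ * z := eq_inv_mul_of_mul_eq hi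
        rw [this]
        exact P.mul_mem (P.inv_mem hvP) h.large.z_mem
      rw [MFive.eq_one_of_mem h ho hx h5 ⟨i, rfl⟩, mul_one] at hi
      exact hvz hi
  obtain ⟨e, -⟩ := Setting.exists_equiv (P := PB P (x : G)) ρ hρ hk
  exact ⟨tt x, _, hn, Setting.setting_of L hw hcard hF hfus, ⟨e⟩⟩

end

end Cfsg.Agent.H819.Fus
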