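import Cfsg.Agent.KFacts.MM.El
import Cfsg.Agent.LThreeCo1T8.Main
import Cfsg.Agent.H819.Fus
import Cfsg.Agent.H819.Five
import Cfsg.Agent.LThreeMB.CEight
import Cfsg.Agent.FastGrp
import Cfsg.Agent.Prune
set_option linter.all false

section
prune_inst 0x7f00000000000000000000000000000000000000000000000000000000000000000000000000000000000000000000000000000000000000000000000000000000000000000000000000000000000000003fffffffffffffffffffffffffffbeffbdffffffff

-- part: H819/Syl3
section
set_option linter.all false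
open scoped Cfsg.Agent.FastGrp

/-!
# A Sylow 3-subgroup of `M24` (helper819)

`exists_S` : a subgroup of order 27 with a central element `a` such that every element `≠ 1` is conjugate in `M24` to `a` or
to the element `sig` of type `3^8`.
-/

set_option autoImplicit false
set_option maxRecDepth 10000

namespace Cfsg.Agent.H819.Syl3

open Cfsg Cfsg.Agent.KFacts.MM.El Cfsg.Agent.SporadicA.GolayBase Cfsg.Agent.SporadicA.GolayPerm
open Cfsg.Agent.LThreeCo1T8.Mono (sig)
open Cfsg.Agent.LThreeCo1T8.Perm (sg sg_mem)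

/-- the central element -/
def A : ℕ := 776506090442204081354442893333439136

@[inherit_doc A] def B : ℕ := 70231157728463878748255299200172288

@[inherit_doc A] def C : ℕ := 973620492572514297797829072921895126

/-- the element of type `3^8` -/
def S : ℕ := 15909574972934138282974354882288353

/-- the elements `≠ 1`, their class and a conjugating element -/
def T : List (List ℕ × ℕ × ℕ) := [
  ([C], A, 736277257860741598605005387949777968),
  ([C, C], A, 594084890031971466923062488748787749),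
  ([B], A, 278237923407280741955791187577478189),
  ([B, C], S, 25116639272237219082997550699404327),
  ([B, C, C], S, 22540257964554818176699282129403946),
  ([B, B], A, 901330013112839483686878558722604081),
  ([B, B, C], S, 671577544416650654405196434413649962),
  ([B, B, C, C], S, 507998647172772142451112447136762931),
  ([A], A, 984818244535754528103549039458486304),
  ([A, C], A, 837836089198298204427815695129024937),
  ([A, C, C], A, 648011900705307207740933528291409961),
  ([A, B], A, 853299451499001663575781926295480374),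
  ([A, B, C], S, 143239846613991574923282911624441907),
  ([A, B, C, C], S, 131568512952410772179484777795705905),
  ([A, B, B], A, 313286641100823318767363970854000685),
  ([A, B, B, C], S, 968826670705908735105800717180341297),
  ([A, B, B, C, C], S, 689743324295560929581071864697030702),
  ([A, A], A, 683034529225508988185221380175995953),
  ([A, A, C], A, 461691208994261405600795493502769192),
  ([A, A, C, C], A, 387396860407820975288419756025747892),
  ([A, A, B], A, 640417170650864875047523939697022001),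
  ([A, A, B, C], S, 92628814699440089139843879692648494),
  ([A, A, B, C, C], S, 262666672601075174750630712320741413),
  ([A, A, B, B], A, 432722761860634039699741613260754998),
  ([A, A, B, B, C], S, 853290032606293002232306795303508005),
  ([A, A, B, B, C, C], S, 974008628434210021207318269992697895)]

/-- the 27 elements -/
def L : List (List ℕ) := [] :: T.map Prod.fst

theorem ok_T : (T.all fun t => okl t.1 && (isPerm t.2.1 && isPerm t.2.2 && isAut t.2.2 &&
    (Nat.beq t.2.1 A || Nat.beq t.2.1 S) && weq (t.2.2 :: t.1) [t.2.1, t.2.2])) = true := by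
  decide +kernel

theorem ok_gen : (isPerm A && isPerm B && isPerm C && isPerm S && isAut A && isAut B && isAut C && isAut S) = true := by
  decide +kernel

theorem dist_L : dist L = true := by decide +kernel

/-- closure under left multiplication by the generators -/
theorem mul_L : (L.all fun l => [A, B, C].all fun g => L.any fun m => weq (g :: l) m) = true := by
  decide +kernel

theorem comm_L : (L.all fun l => weq (A :: l) (l ++ [A])) = true := by decide +kernel

theorem cube_L : (L.all fun l => weq (l ++ l ++ l) []) = true := by decide +kernel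

theorem letters : (L.all fun l => l.all fun g => Nat.beq g A || (Nat.beq g B || Nat.beq g C)) = true := by
  decide +kernel

theorem sg_val : ∀ p : GolayPt, papp S (idx p) = idx (sg p) := by decide +kernel

/-! ### The group -/

theorem okABC {g : ℕ} (hg : g ∈ [A, B, C]) : isPerm g = true ∧ isAut g = true := by
  have h := ok_gen
  simp only [Bool.and_eq_true] at h
  obtain ⟨⟨⟨⟨⟨⟨⟨h1, h2⟩, h3⟩, h4⟩, h5⟩, h6⟩, h7⟩, h8⟩ := h
  simp only [List.mem_cons, List.not_mem_nil, or_false] at hg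
  rcases hg with rfl | rfl | rfl
  · exact ⟨h1, h5⟩
  · exact ⟨h2, h6⟩
  · exact ⟨h3, h7⟩

theorem mem_letters {l : List ℕ} (hl : l ∈ L) {g : ℕ} (hg : g ∈ l) : g ∈ [A, B, C] := by
  have h := List.all_eq_true.1 (List.all_eq_true.1 letters l hl) g hg
  simp only [Bool.or_eq_true] at h
  simp only [List.mem_cons, List.not_mem_nil, or_false]
  rcases h with h | h | h
  · exact Or.inl (Nat.eq_of_beq_eq_true h)
  · exact Or.inr (Or.inl (Nat.eq_of_beq_eq_true h))
  · exact Or.inr (Or.inr (Nat.eq_of_beq_eq_true h))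

theorem okl_of {l : List ℕ} (h : ∀ g ∈ l, g ∈ [A, B, C]) : okl l = true := by
  unfold okl
  rw [List.all_eq_true]
  exact fun g hg => (okABC (h g hg)).1

theorem okl_L {l : List ℕ} (hl : l ∈ L) : okl l = true := okl_of fun _ hg => mem_letters hl hg

theorem pr_mem_M24 {l : List ℕ} (h : ∀ g ∈ l, g ∈ [A, B, C]) : pr l ∈ M24 := by
  induction l with
  | nil => rw [pr_nil]; exact one_mem _
  | cons g l ih =>
    rw [pr_cons]
    have h1 := okABC (h g List.mem_cons_self)
    exact mul_mem (pm_mem_M24 h1.1 h1.2) (ih fun g hg => h g (List.mem_cons_of_mem _ hg))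

theorem okl_cons' {g : ℕ} {l : List ℕ} (hg : isPerm g = true) (hl : okl l = true) : okl (g :: l) = true := by
  unfold okl at *
  rw [List.all_cons, hg, hl]
  rfl

theorem okl_append {l m : List ℕ} (hl : okl l = true) (hm : okl m = true) : okl (l ++ m) = true := by
  unfold okl at *
  rw [List.all_append, hl, hm]
  rfl

/-- left multiplication by a generator -/
theorem gen_mul {g : ℕ} (hg : g ∈ [A, B, C]) {l : List ℕ} (hl : l ∈ L) : ∃ m ∈ L, pr m = pm g * pr l := by
  have h := List.any_eq_true.1 (List.all_eq_true.1 (List.all_eq_true.1 mul_L l hl) g hg)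
  obtain ⟨m, hm, h⟩ := h
  refine ⟨m, hm, ?_⟩
  rw [← pr_cons]
  exact (pr_of_weq (okl_cons' (okABC hg).1 (okl_L hl)) (okl_L hm) h).symm

/-- the group of order 27 -/
noncomputable def SP : Subgroup (Equiv.Perm GolayPt) where
  carrier := {g | ∃ l ∈ L, pr l = g}
  one_mem' := ⟨[], List.mem_cons_self, pr_nil⟩
  mul_mem' := by
    rintro _ _ ⟨l, hl, rfl⟩ ⟨m, hm, rfl⟩
    have h : ∀ l : List ℕ, (∀ g ∈ l, g ∈ [A, B, C]) → ∃ k ∈ L, pr k = pr l * pr m := by
      intro l
      induction l with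
      | nil => intro _; exact ⟨m, hm, by rw [pr_nil, one_mul]⟩
      | cons g l ih =>
        intro h
        obtain ⟨k, hk, h1⟩ := ih fun g hg => h g (List.mem_cons_of_mem _ hg)
        obtain ⟨k', hk', h2⟩ := gen_mul (h g List.mem_cons_self) hk
        exact ⟨k', hk', by rw [h2, h1, pr_cons, mul_assoc]⟩
    exact h l fun g hg => mem_letters hl hg
  inv_mem' := by
    rintro _ ⟨l, hl, rfl⟩
    have h1 := okl_L hl
    have h2 := pr_of_weq (okl_append (okl_append h1 h1) h1) (by rfl) (List.all_eq_true.1 cube_L l hl)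
    rw [pr_append, pr_append, pr_nil] at h2
    have h3 : (pr l)⁻¹ = pr l * pr l := (eq_inv_of_mul_eq_one_left h2).symm
    rw [h3]
    have h : ∀ l' : List ℕ, (∀ g ∈ l', g ∈ [A, B, C]) → ∃ k ∈ L, pr k = pr l' * pr l := by
      intro l'
      induction l' with
      | nil => intro _; exact ⟨l, hl, by rw [pr_nil, one_mul]⟩
      | cons g l' ih =>
        intro h
        obtain ⟨k, hk, h1⟩ := ih fun g hg => h g (List.mem_cons_of_mem _ hg)
        obtain ⟨k', hk', h2⟩ := gen_mul (h g List.mem_cons_self) hk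
        exact ⟨k', hk', by rw [h2, h1, pr_cons, mul_assoc]⟩
    exact h l fun g hg => mem_letters hl hg

theorem mem_SP {g : Equiv.Perm GolayPt} : g ∈ SP ↔ ∃ l ∈ L, pr l = g := Iff.rfl

theorem SP_le : SP ≤ M24 := by
  rintro _ ⟨l, hl, rfl⟩
  exact pr_mem_M24 fun g hg => mem_letters hl hg

theorem card_SP : Nat.card ↥SP = 27 :=
  card_of_list (fun _ hl => okl_L hl) dist_L (SP : Set (Equiv.Perm GolayPt)) fun _ => mem_SP

theorem A_mem : pm A ∈ SP := by
  obtain ⟨m, hm, h⟩ := gen_mul (g := A) List.mem_cons_self (l := []) List.mem_cons_self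
  exact ⟨m, hm, by rw [h, pr_nil, mul_one]⟩

theorem A_comm {g : Equiv.Perm GolayPt} (hg : g ∈ SP) : pm A * g = g * pm A := by
  obtain ⟨l, hl, rfl⟩ := hg
  have hA : isPerm A = true := (okABC List.mem_cons_self).1
  have h1 := okl_L hl
  have h2 : okl [A] = true := okl_cons' hA (by rfl)
  have h := pr_of_weq (okl_cons' hA h1) (okl_append h1 h2) (List.all_eq_true.1 comm_L l hl)
  rwa [pr_cons, pr_append, pr_one] at h

theorem pm_S : pm S = sg := by
  have h := ok_gen
  simp only [Bool.and_eq_true] at h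
  have h1 : isPerm S = true := h.1.1.1.1.2
  ext1 p
  rw [pm_eq h1, permOf_apply, sg_val, pt_idx]

theorem conj_SP {g : Equiv.Perm GolayPt} (hg : g ∈ SP) :
    g = 1 ∨ ∃ k ∈ M24, k * g = pm A * k ∨ k * g = sg * k := by
  obtain ⟨l, hl, rfl⟩ := hg
  rcases List.mem_cons.1 hl with rfl | hl'
  · exact Or.inl pr_nil
  · obtain ⟨⟨l', t, k⟩, ht, rfl⟩ := List.mem_map.1 hl'
    have h := List.all_eq_true.1 ok_T _ ht
    simp only [Bool.and_eq_true, Bool.or_eq_true] at h
    obtain ⟨h1, ⟨⟨⟨h2, h3⟩, h4⟩, h5⟩, h6⟩ := h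
    right
    refine ⟨pm k, pm_mem_M24 h3 h4, ?_⟩
    have h7 := pr_of_weq (okl_cons' h3 h1) (okl_cons' h2 (okl_cons' h3 (by rfl))) h6
    rw [pr_cons, pr_cons, pr_one] at h7
    rcases h5 with h5 | h5
    · left
      rw [h7, Nat.eq_of_beq_eq_true h5]
    · right
      rw [h7, Nat.eq_of_beq_eq_true h5, pm_S]

/-- **A Sylow 3-subgroup of `M24`.** -/
theorem exists_S : ∃ (S : Subgroup M24) (a : M24), Nat.card ↥S = 27 ∧ a ∈ S ∧ (∀ s ∈ S, a * s = s * a) ∧
    ∀ s ∈ S, s = 1 ∨ ∃ g : M24, g * s * g⁻¹ = a ∨ g * s * g⁻¹ = sig := by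
  refine ⟨SP.subgroupOf M24, ⟨pm A, SP_le A_mem⟩, ?_, A_mem, fun s hs => Subtype.ext (A_comm hs), ?_⟩
  · rw [Nat.card_congr (Subgroup.subgroupOfEquivOfLe SP_le).toEquiv, card_SP]
  · intro s hs
    rcases conj_SP hs with h | ⟨k, hk, h⟩
    · exact Or.inl (Subtype.ext h)
    · refine Or.inr ⟨⟨k, hk⟩, ?_⟩
      rcases h with h | h
      · left
        rw [mul_inv_eq_iff_eq_mul]
        exact Subtype.ext h
      · right
        rw [mul_inv_eq_iff_eq_mul]
        exact Subtype.ext h

end Cfsg.Agent.H819.Syl3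
end

-- part: H819/Eight
section
set_option linter.all false
open scoped Cfsg.Agent.FastGrp

/-!
# The centralizer of a subgroup of order 3 of `C(z, y)`, not 3-central, is of Thompson type (helper819)
-/

set_option autoImplicit false

namespace Cfsg.Agent.H819.Eight

open Cfsg Cfsg.Spor Cfsg.Agent.MonsterU Cfsg.Agent.MonsterU.Lam2 Cfsg.Agent.MonsterU.Ch
open Cfsg.Agent.Co2Type.Quad Cfsg.Agent.H819.Base Cfsg.Agent.H819.Frame
open Cfsg.Agent.LThreeMB (fr XX Zx Zx_le_center self mk Faith tt PB mem_PB)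
open Cfsg.Agent.MonsterU.CoFrameL2 (f0 F)
open Cfsg.Agent.LThreeCo1T8.Mono (sig)
open Cfsg.Agent.LThreeCo1T8.Main (xx)
open Cfsg.Agent.SporadicA.Co0Mono (permCo0 signCo0_zero)
open Cfsg.Agent.SporadicA.Co1Simple (perm_mem_N)
open Cfsg.Agent.CoOneType.CoOneE (pr)
open Subgroup (centralizer zpowers mem_centralizer_singleton_iff)

/-! ### Elements central in a Sylow 3-subgroup -/

/-- `x` is central in a Sylow 3-subgroup -/
def Cen {L : Type*} [Group L] (x : L) : Prop :=
  ∃ R : Sylow 3 L, x ∈ (R : Subgroup L) ∧ ∀ r ∈ (R : Subgroup L), x * r = r * x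

theorem Cen.of_equiv {L : Type*} [Group L] [Finite L] (α : L ≃* L) {x : L} (h : Cen (α x)) : Cen x := by
  obtain ⟨R, hR, hc⟩ := h
  have : Fact (Nat.Prime 3) := ⟨by norm_num⟩
  have hcard : Nat.card ↥((R : Subgroup L).comap α.toMonoidHom) = 3 ^ (Nat.card L).factorization 3 := by
    rw [← R.card_eq_multiplicity]
    have h1 : (R : Subgroup L).comap α.toMonoidHom = (R : Subgroup L).map α.symm.toMonoidHom :=
      (Subgroup.map_equiv_eq_comap_symm' α.symm (R : Subgroup L)).symm
    rw [h1]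
    exact (Nat.card_congr ((R : Subgroup L).equivMapOfInjective _ α.symm.injective).toEquiv).symm
  refine ⟨Sylow.ofCard _ hcard, hR, fun r hr => α.injective ?_⟩
  rw [map_mul, map_mul]
  exact hc _ hr

/-! ### Elements of order 3 of `F` -/

/-- `M24 → F` -/
def j : M24 →* ↥F where
  toFun σ := ⟨pr (permCo0 σ), ⟨permCo0 σ, perm_mem_N σ, rfl⟩⟩
  map_one' := Subtype.ext (by show pr (permCo0 1) = 1; rw [map_one, map_one])
  map_mul' a b := Subtype.ext (by show pr (permCo0 (a * b)) = pr (permCo0 a) * pr (permCo0 b); rw [map_mul, map_mul])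

theorem j_injective : Function.Injective j := by
  intro a b hab
  have h1 : pr (permCo0 a) = pr (permCo0 b) := congrArg Subtype.val hab
  exact (CoFrameF.pr_sp_eq (c := 0) (d := 0) (by
    rw [signCo0_zero, one_mul, one_mul, h1])).1

theorem card_F_three : (Nat.card ↥F).factorization 3 = 3 := by
  rw [card_F]
  have h1 : (2 ^ 21 * 3 ^ 3 * 5 * 7 * 11 * 23 : ℕ) = 3 ^ 3 * (2 ^ 21 * 5 * 7 * 11 * 23) := by norm_num
  rw [h1, Nat.factorization_mul (by norm_num) (by norm_num), Finsupp.add_apply, Nat.Prime.factorization_pow (by norm_num),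
    Finsupp.single_eq_same, Nat.factorization_eq_zero_of_not_dvd (by norm_num)]

/-- **Elements of order 3 of `F`.** -/
theorem exists_F {x : ↥F} (hx : x ^ 3 = 1) (hx1 : x ≠ 1) :
    (∃ S : Subgroup ↥F, Nat.card ↥S = 3 ^ (Nat.card ↥F).factorization 3 ∧ x ∈ S ∧ ∀ s ∈ S, x * s = s * x) ∨
    ∃ f : ↥F, f * x * f⁻¹ = j sig := by
  obtain ⟨S, a, hcard, ha, hac, hS⟩ := Syl3.exists_S
  have hSF : Nat.card ↥(S.map j) = 3 ^ (Nat.card ↥F).factorization 3 := by
    rw [← Nat.card_congr (S.equivMapOfInjective _ j_injective).toEquiv, hcard, card_F_three]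
    norm_num
  obtain ⟨f, s, hs, hf⟩ := SylLem.exists_conj_mem (by norm_num) hSF (x := x) (n := 1) (by rw [pow_one, hx])
  rcases hS s hs with rfl | ⟨g, hg | hg⟩
  · exfalso
    apply hx1
    rw [map_one] at hf
    calc x = f⁻¹ * (f * x * f⁻¹) * f := by group
      _ = 1 := by rw [← hf]; group
  · left
    have hgx : (j g * f) * x * (j g * f)⁻¹ = j a := by
      calc (j g * f) * x * (j g * f)⁻¹ = j g * (f * x * f⁻¹) * (j g)⁻¹ := by group
        _ = j a := by rw [← hf, ← map_mul, ← map_inv, ← map_mul, hg]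
    refine ⟨(S.map j).comap (MulAut.conj (j g * f)).toMonoidHom, ?_, ?_, ?_⟩
    · rw [← hSF]
      have h1 : (S.map j).comap (MulAut.conj (j g * f)).toMonoidHom =
          (S.map j).map (MulAut.conj (j g * f)).symm.toMonoidHom :=
        (Subgroup.map_equiv_eq_comap_symm' (MulAut.conj (j g * f)).symm (S.map j)).symm
      rw [h1]
      exact (Nat.card_congr ((S.map j).equivMapOfInjective _ (MulAut.conj (j g * f)).symm.injective).toEquiv).symm
    · exact ⟨a, ha, hgx.symm⟩
    · rintro r ⟨s', hs', hr⟩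
      have hr' : j s' = (j g * f) * r * (j g * f)⁻¹ := hr
      have h2 : (j g * f) * x * (j g * f)⁻¹ * ((j g * f) * r * (j g * f)⁻¹) =
          ((j g * f) * r * (j g * f)⁻¹) * ((j g * f) * x * (j g * f)⁻¹) := by
        rw [hgx, ← hr', ← map_mul, ← map_mul, hac s' hs']
      calc x * r = (j g * f)⁻¹ * ((j g * f) * x * (j g * f)⁻¹ * ((j g * f) * r * (j g * f)⁻¹)) * (j g * f) := by group
        _ = r * x := by rw [h2]; group
  · right
    refine ⟨j g * f, ?_⟩
    calc (j g * f) * x * (j g * f)⁻¹ = j g * (f * x * f⁻¹) * (j g)⁻¹ := by group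
      _ = j sig := by rw [← hf, ← map_mul, ← map_inv, ← map_mul, hg]

/-! ### Lifting a conjugation -/

/-- elements of order `p` with the same image modulo a normal `p'`-subgroup -/
theorem exists_lift {L F : Type*} [Group L] [Group F] [Finite L] [Finite F] {p : ℕ} (hp : p.Prime) (φ : L →* F)
    (hk : ¬ p ∣ Nat.card ↥φ.ker) {x u : L} (hx : orderOf x = p) (hx1 : φ x ≠ 1) (hu : u ^ p = 1) (hxu : φ u = φ x) :
    ∃ (c : L) (i : ℤ), c * u * c⁻¹ = x ^ i := by
  have : Fact p.Prime := ⟨hp⟩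
  let M : Subgroup L := (zpowers (φ x)).comap φ
  let ψ : ↥M →* ↥(zpowers (φ x)) := φ.subgroupComap (zpowers (φ x))
  have hψ : Function.Surjective ψ := by
    rintro ⟨_, i, rfl⟩
    exact ⟨⟨x ^ i, ⟨i, (map_zpow φ x i).symm⟩⟩, Subtype.ext (map_zpow φ x i)⟩
  have hψk : ¬ p ∣ Nat.card ↥ψ.ker := by
    intro h
    apply hk
    refine h.trans ?_
    let g : ↥ψ.ker →* ↥φ.ker :=
      { toFun := fun g => ⟨((g : ↥M) : L), by
          rw [MonoidHom.mem_ker]
          exact congrArg Subtype.val g.2⟩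
        map_one' := rfl
        map_mul' := fun _ _ => rfl }
    refine Subgroup.card_dvd_of_injective g ?_
    intro a b hab
    apply Subtype.ext
    apply Subtype.ext
    exact congrArg (fun g : ↥φ.ker => (g : L)) hab
  have hxM : x ∈ M := Subgroup.mem_zpowers (φ x)
  have huM : u ∈ M := by
    show φ u ∈ zpowers (φ x)
    rw [hxu]
    exact Subgroup.mem_zpowers (φ x)
  have hφx : orderOf (φ x) = p := by
    apply orderOf_eq_prime
    · rw [← map_pow, ← hx, pow_orderOf_eq_one, map_one]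
    · exact hx1
  have hS : Nat.card ↥(zpowers (⟨x, hxM⟩ : ↥M)) = p ^ (Nat.card ↥M).factorization p := by
    rw [SylLem.factorization_eq ψ hψ hψk, Nat.card_zpowers, Nat.card_zpowers, hφx, hp.factorization_self, pow_one,
      Subgroup.orderOf_mk, hx]
  obtain ⟨c, hc⟩ := SylLem.exists_conj_mem hp hS (x := (⟨u, huM⟩ : ↥M)) (n := 1)
    (Subtype.ext (by show u ^ p ^ 1 = 1; rw [pow_one, hu]))
  obtain ⟨i, hi⟩ := Subgroup.mem_zpowers_iff.1 hc
  exact ⟨c, i, (congrArg Subtype.val hi).symm⟩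

/-! ### The group `C(xx)/⟨xx⟩` -/

instance finC : Finite Spor.Co1 := MFiveHN.Cent.finCo1

theorem equiv_xx : Nonempty (XX xx ≃* ↥(alternatingGroup (Fin 9))) := by
  obtain ⟨e⟩ := LThreeMB.CEight.exists_XX LThreeCo1T8.Main.AA_le LThreeCo1T8.Main.inf_eq LThreeCo1T8.Main.sup_eq
  obtain ⟨f⟩ := LThreeCo1T8.Main.nonempty_equiv
  exact ⟨e.trans f⟩

theorem core_xx : ∀ N : Subgroup (XX xx), N.Normal → IsPGroup 2 ↥N → N = ⊥ := by
  intro N hN h2
  obtain ⟨e⟩ := equiv_xx
  have hs : IsSimpleGroup ↥(alternatingGroup (Fin 9)) := alternatingGroup.isSimpleGroup (by simp)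
  have hs' : IsSimpleGroup (XX xx) := e.isSimpleGroup
  rcases hN.eq_bot_or_eq_top with h | h
  · exact h
  · exfalso
    have hfin : Finite (XX xx) := Quotient.finite _
    obtain ⟨n, hn⟩ := IsPGroup.iff_card.1 h2
    rw [h, Subgroup.card_top, Nat.card_congr e.toEquiv, nat_card_alternatingGroup] at hn
    have h3 : (3 : ℕ) ∣ 2 ^ n := by
      rw [← hn, Nat.card_eq_fintype_card, Fintype.card_fin]
      decide
    have h4 := Nat.Prime.dvd_of_dvd_pow (by norm_num) h3
    norm_num at h4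

theorem facts (s : Co1) (hs : s = xx) : Faith s ∧ fr s = 2 ^ (2 * 4) ∧ Nonempty (XX s ≃* ↥(alternatingGroup (Fin 9))) ∧
    ∀ N : Subgroup (XX s), N.Normal → IsPGroup 2 ↥N → N = ⊥ := by
  subst hs
  exact ⟨LThreeMB.CEight.faith, LThreeMB.CEight.fr_xx, equiv_xx, core_xx⟩

theorem th_of_zx {X : Type*} [Group X] (x : X) (C : Subgroup X) (hC : C = centralizer ({x} : Set X)) (B : Subgroup X)
    (hB : B = zpowers x) (hX : IsOfThompsonType (XX x)) [hn : (B.subgroupOf C).Normal] :
    IsOfThompsonType (↥C ⧸ B.subgroupOf C) := by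
  subst hC
  have h1 : B.subgroupOf (centralizer ({x} : Set X)) = Zx x := by
    rw [hB]
    ext g
    rw [Subgroup.mem_subgroupOf, Zx, Subgroup.mem_zpowers_iff, Subgroup.mem_zpowers_iff]
    constructor
    · rintro ⟨i, hi⟩; exact ⟨i, Subtype.ext hi⟩
    · rintro ⟨i, hi⟩; exact ⟨i, congrArg Subtype.val hi⟩
  revert hn
  rw [h1]
  intro hn
  exact hX

/-! ### The theorem -/

section

variable {G : Type*} [Group G] {P : Subgroup G} {z y : G} {eta : G → L2}
  {pi : Subgroup.centralizer ({z} : Set G) →* Co1}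

theorem main_aux [Finite G] (h : Chart P z eta pi) (hyP : y ∈ P) (hy : eta y = f0) {τ : G} (τz : τ * z * τ⁻¹ = y)
    (τy : τ * y * τ⁻¹ = z * y) {x : Subgroup.centralizer ({z} : Set G)} (hx : orderOf (x : G) = 3)
    (hxx : pi x = xx) {c : G} (hc : c ∈ centralizer ({z, y} : Set G)) {i : ℤ} (hcx : c * (τ * x * τ⁻¹) * c⁻¹ = (x : G) ^ i) :
    IsOfThompsonType (XX (x : G)) := by
  have hx3 : (x : G) ^ 3 = 1 := by rw [← hx, pow_orderOf_eq_one]
  obtain ⟨d, hdx, hd⟩ := Fus.exists_comm h hyP hy τz τy (Or.inl rfl) hx hc hcx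
  obtain ⟨v, hdv, hvP, hvz⟩ : ∃ v, d * z * d⁻¹ = v ∧ v ∈ P ∧ v ≠ z := by
    rcases hd with hd | hd
    · exact ⟨y, hd, hyP, AmalPerf.y_ne_z h hy⟩
    · refine ⟨z * y, hd, P.mul_mem h.large.z_mem hyP, ?_⟩
      intro h1
      exact AmalPerf.y_ne h hyP hy (mul_eq_left.1 h1)
  obtain ⟨hf, hfr, ⟨e⟩, hO⟩ := facts (pi x) hxx
  obtain ⟨t, R, hR, hset, ⟨e'⟩⟩ := Fus.setting_of_fus h (p := 3) (by norm_num) (by decide)
    (x := x) (Subtype.ext hx3) hf (w := 4) (by norm_num) hfr hO hdx hdv hvP hvz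
  exact ⟨t, R, hR, hset, ⟨e'.trans e⟩⟩

/-- the map of `C(z, y)` to `F` on an element of order 3 that is not 3-central -/
theorem exists_to_xx [Finite G] (h : Chart P z eta pi) (hyP : y ∈ P) (hy : eta y = f0)
    {x : ↥(centralizer ({z, y} : Set G))} (hx : x ^ 3 = 1) (hx1 : x ≠ 1) (hnc : ¬ Cen x) :
    phi h hyP hy x ≠ 1 ∧ ∃ c : ↥(centralizer ({z, y} : Set G)), phi h hyP hy (c * x * c⁻¹) = j sig := by
  have h1 : phi h hyP hy x ≠ 1 := by
    intro h1
    have h2 := (phi_eq_one h hyP hy x).1 h1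
    have h3 := MFive.pow_four h h2
    have h4 : (x : G) ^ 3 = 1 := congrArg Subtype.val hx
    exact hx1 (Subtype.ext (MFive.eq_one_of_pow (p := 3) (by decide) h4 h3))
  refine ⟨h1, ?_⟩
  rcases exists_F (x := phi h hyP hy x) (by rw [← map_pow, hx, map_one]) h1 with ⟨S, hS, hxS, hc⟩ | ⟨f, hf⟩
  · exfalso
    exact hnc (SylLem.exists_sylow (by norm_num) (phi h hyP hy) (phi_surj h hyP hy)
      (not_dvd_ker h hyP hy (by norm_num) (by norm_num)) hS (n := 1) (by rw [pow_one, hx]) hxS hc)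
  · obtain ⟨c, rfl⟩ := phi_surj h hyP hy f
    exact ⟨c, by rw [map_mul, map_mul, map_inv, hf]⟩

/-- **The centralizer of a subgroup of order 3 of `C(z, y)`, not 3-central.** -/
theorem main [Finite G] (h : Chart P z eta pi) {y : G} (hyP : y ∈ P) (hyz : y ≠ z) (hconj : IsConj z y) (Y : Subgroup G)
    (hY : Y ≤ centralizer ({z, y} : Set G)) (hY3 : Nat.card ↥Y = 3)
    (hnc : ∀ P : Sylow 3 ↥(centralizer ({z, y} : Set G)), ¬ Y.subgroupOf (centralizer ({z, y} : Set G)) ≤
      (Subgroup.center ↥(P : Subgroup ↥(centralizer ({z, y} : Set G)))).map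
        (P : Subgroup ↥(centralizer ({z, y} : Set G))).subtype)
    [hn : (Y.subgroupOf (centralizer (Y : Set G))).Normal] :
    IsOfThompsonType (↥(centralizer (Y : Set G)) ⧸ Y.subgroupOf (centralizer (Y : Set G))) := by
  obtain ⟨g, hg⟩ := isConj_iff.1 hconj
  obtain ⟨s, τ, τz, τy, hs⟩ := AmalSideOf.exists_frame h hyP hyz ⟨g, hg⟩
  have h' := h.smul s
  have hyy : y * y = 1 := AmalPerf.y_sq h' hyP hs
  have hzy : z * y = y * z := (h.large.comm_z y hyP).symm
  have : Fact (Nat.Prime 3) := ⟨by norm_num⟩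
  have hcyc : IsCyclic ↥Y := isCyclic_of_prime_card hY3
  obtain ⟨⟨x0, hx0Y⟩, hx0⟩ := hcyc.exists_generator
  have hYx0 : Y = zpowers x0 := by
    apply le_antisymm
    · intro b hb
      obtain ⟨i, hi⟩ := Subgroup.mem_zpowers_iff.1 (hx0 ⟨b, hb⟩)
      exact ⟨i, congrArg Subtype.val hi⟩
    · rw [Subgroup.zpowers_le]; exact hx0Y
  have hx0o : orderOf x0 = 3 := by rw [← Nat.card_zpowers, ← hYx0, hY3]
  have hx03 : x0 ^ 3 = 1 := by rw [← hx0o, pow_orderOf_eq_one]
  have hx01 : x0 ≠ 1 := by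
    rintro rfl
    rw [orderOf_one] at hx0o
    norm_num at hx0o
  have hx0L := hY hx0Y
  let x1 : ↥(centralizer ({z, y} : Set G)) := ⟨x0, hx0L⟩
  have hnc1 : ¬ Cen x1 := by
    rintro ⟨R, hR, hc⟩
    refine hnc R ?_
    intro u hu
    have hu' : (u : G) ∈ Y := hu
    rw [hYx0] at hu'
    obtain ⟨i, hi⟩ := Subgroup.mem_zpowers_iff.1 hu'
    have hu1 : x1 ^ i = u := Subtype.ext hi
    have huR : u ∈ (R : Subgroup ↥(centralizer ({z, y} : Set G))) := by
      rw [← hu1]; exact Subgroup.zpow_mem _ hR i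
    refine ⟨⟨u, huR⟩, ?_, rfl⟩
    rw [SetLike.mem_coe, Subgroup.mem_center_iff]
    rintro ⟨r, hr⟩
    apply Subtype.ext
    show r * u = u * r
    rw [← hu1]
    have h3 : Commute r x1 := (hc r hr).symm
    exact (h3.zpow_right i).eq
  -- conjugation by `τ`
  let α : ↥(centralizer ({z, y} : Set G)) →* ↥(centralizer ({z, y} : Set G)) :=
    { toFun := fun u => ⟨τ * u * τ⁻¹, Five.conj_mem_pair τz τy hyy hzy (mem_pair.1 u.2).1 (mem_pair.1 u.2).2⟩
      map_one' := Subtype.ext (by show τ * 1 * τ⁻¹ = 1; group)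
      map_mul' := fun a b => Subtype.ext (by show τ * (a * b : G) * τ⁻¹ = (τ * a * τ⁻¹) * (τ * b * τ⁻¹); group) }
  have hα : Function.Injective α := by
    intro a b hab
    apply Subtype.ext
    have h1 : τ * (a : G) * τ⁻¹ = τ * b * τ⁻¹ := congrArg Subtype.val hab
    exact mul_left_cancel (mul_right_cancel h1)
  let αe : ↥(centralizer ({z, y} : Set G)) ≃* ↥(centralizer ({z, y} : Set G)) :=
    MulEquiv.ofBijective α (Finite.injective_iff_bijective.1 hα)
  have hnc2 : ¬ Cen (α x1) := fun hcen => hnc1 (Cen.of_equiv αe hcen)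
  have hx13 : x1 ^ 3 = 1 := Subtype.ext hx03
  have hx11 : x1 ≠ 1 := fun h1 => hx01 (congrArg Subtype.val h1)
  obtain ⟨hφ1, c1, hc1⟩ := exists_to_xx h' hyP hs hx13 hx11 hnc1
  obtain ⟨-, c2, hc2⟩ := exists_to_xx h' hyP hs (x := α x1) (by rw [← map_pow, hx13, map_one])
    (fun h1 => hx11 (hα (by rw [h1, map_one]))) hnc2
  -- fusion
  have hu : phi h' hyP hs ((c1⁻¹ * c2) * α x1 * (c1⁻¹ * c2)⁻¹) = phi h' hyP hs x1 := by
    have e1 : (c1⁻¹ * c2) * α x1 * (c1⁻¹ * c2)⁻¹ = c1⁻¹ * (c2 * α x1 * c2⁻¹) * c1 := by group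
    rw [e1, map_mul, map_mul, hc2, ← hc1, ← map_mul, ← map_mul]
    congr 1
    group
  obtain ⟨c3, i, hc3⟩ := exists_lift (by norm_num : (3 : ℕ).Prime) (phi h' hyP hs)
    (not_dvd_ker h' hyP hs (by norm_num) (by norm_num)) (x := x1) (u := (c1⁻¹ * c2) * α x1 * (c1⁻¹ * c2)⁻¹)
    (by rw [← Subgroup.orderOf_coe]; exact hx0o) hφ1
    (by rw [conj_pow, ← map_pow, hx13, map_one, mul_one, mul_inv_cancel]) hu
  let c : ↥(centralizer ({z, y} : Set G)) := c3 * (c1⁻¹ * c2)
  have hc : (c : G) * (τ * x0 * τ⁻¹) * (c : G)⁻¹ = x0 ^ i := by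
    have e2 : c * α x1 * c⁻¹ = x1 ^ i := by rw [← hc3]; simp only [c]; group
    exact congrArg Subtype.val e2
  -- change the chart
  let f : ↥F := phi h' hyP hs c1
  have h'' := h'.smul (f : Co1)
  have hy'' : (f : Co1) • (s • eta y) = f0 := by
    rw [hs]
    exact CoFrameL2.smul_f0 f.2
  have hpi : ((MulAut.conj (f : Co1)).toMonoidHom.comp ((MulAut.conj s).toMonoidHom.comp pi)) (toZ x1) = xx := by
    have e3 := congrArg Subtype.val hc1
    rw [map_mul, map_mul, map_inv] at e3
    exact e3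
  have hmain := main_aux h'' hyP hy'' τz τy (x := toZ x1) hx0o hpi c.2 hc
  have hC : centralizer (Y : Set G) = centralizer ({x0} : Set G) := by
    rw [hYx0]
    ext g
    rw [Subgroup.mem_centralizer_iff, mem_centralizer_singleton_iff]
    constructor
    · intro h9
      exact (h9 x0 (Subgroup.mem_zpowers _)).symm
    · rintro h9 _ ⟨m, rfl⟩
      have h10 : Commute g x0 := h9
      exact (h10.zpow_right m).eq.symm
  exact th_of_zx x0 _ hC Y hYx0 hmain

end

end Cfsg.Agent.H819.Eight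
end
end
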