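import Mathlib
set_option linter.all false

/-!
# Sylow subgroups and homomorphisms with kernel of order prime to `p` (helper819)
-/

set_option autoImplicit false

namespace Cfsg.Agent.H819.SylLem

variable {L F : Type*} [Group L] [Group F] [Finite L] [Finite F] {p : ℕ}

omit [Finite L] in
/-- an element of `p`-power order is conjugate into a subgroup of Sylow order -/
theorem exists_conj_mem (hp : p.Prime) {S : Subgroup F} (hS : Nat.card ↥S = p ^ (Nat.card F).factorization p) {x : F}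
    {n : ℕ} (hx : x ^ p ^ n = 1) : ∃ f : F, f * x * f⁻¹ ∈ S := by
  have : Fact p.Prime := ⟨hp⟩
  have h1 : IsPGroup p ↥(Subgroup.zpowers x) := by
    intro g
    obtain ⟨i, hi⟩ := Subgroup.mem_zpowers_iff.1 g.2
    refine ⟨n, Subtype.ext ?_⟩
    rw [SubmonoidClass.coe_pow, ← hi, ← zpow_natCast, ← zpow_mul, mul_comm, zpow_mul, zpow_natCast, hx, one_zpow]
    rfl
  obtain ⟨R, hR⟩ := h1.exists_le_sylow
  let S' : Sylow p F := Sylow.ofCard S hS
  obtain ⟨f, hf⟩ := MulAction.exists_smul_eq F R S'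
  refine ⟨f, ?_⟩
  have h2 : (MulAut.conj f) x ∈ ((f • R : Sylow p F) : Subgroup F) := by
    rw [Sylow.coe_subgroup_smul]
    exact Subgroup.smul_mem_pointwise_smul _ _ _ (hR (Subgroup.mem_zpowers x))
  rw [hf] at h2
  exact h2

omit [Finite L] [Finite F] in
theorem card_eq_of_surj (φ : L →* F) (hφ : Function.Surjective φ) :
    Nat.card L = Nat.card ↥φ.ker * Nat.card F := by
  have h := Subgroup.card_mul_index φ.ker
  rw [Subgroup.index_ker, MonoidHom.range_eq_top.2 hφ, Subgroup.card_top] at h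
  exact h.symm

theorem factorization_eq (φ : L →* F) (hφ : Function.Surjective φ) (hk : ¬ p ∣ Nat.card ↥φ.ker) :
    (Nat.card L).factorization p = (Nat.card F).factorization p := by
  rw [card_eq_of_surj φ hφ, Nat.factorization_mul Nat.card_pos.ne' Nat.card_pos.ne', Finsupp.add_apply,
    Nat.factorization_eq_zero_of_not_dvd hk, zero_add]

/-- **A central `p`-element of a Sylow `p`-subgroup of the image is central in a Sylow `p`-subgroup.** -/
theorem exists_sylow (hp : p.Prime) (φ : L →* F) (hφ : Function.Surjective φ) (hk : ¬ p ∣ Nat.card ↥φ.ker)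
    {S : Subgroup F} (hS : Nat.card ↥S = p ^ (Nat.card F).factorization p) {x : L} {n : ℕ} (hx : x ^ p ^ n = 1)
    (hxS : φ x ∈ S) (hc : ∀ s ∈ S, φ x * s = s * φ x) :
    ∃ R : Sylow p L, x ∈ (R : Subgroup L) ∧ ∀ r ∈ (R : Subgroup L), x * r = r * x := by
  have : Fact p.Prime := ⟨hp⟩
  let M : Subgroup L := S.comap φ
  let ψ : ↥M →* ↥S := (φ.subgroupComap S)
  have hψ : Function.Surjective ψ := by
    rintro ⟨s, hs⟩
    obtain ⟨l, rfl⟩ := hφ s
    exact ⟨⟨l, hs⟩, rfl⟩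
  have hψk : ¬ p ∣ Nat.card ↥ψ.ker := by
    intro h
    apply hk
    refine h.trans ?_
    let g : ↥ψ.ker →* ↥φ.ker :=
      { toFun := fun g => ⟨((g : ↥M) : L), by
          rw [MonoidHom.mem_ker]
          exact congrArg Subtype.val g.2⟩
        map_one' := rfl
        map_mul' := fun _ _ => rfl }
    refine Subgroup.card_dvd_of_injective g ?_
    intro a b hab
    apply Subtype.ext
    apply Subtype.ext
    exact congrArg (fun g : ↥φ.ker => (g : L)) hab
  have hxM : x ∈ M := hxS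
  have h1 : IsPGroup p ↥(Subgroup.zpowers (⟨x, hxM⟩ : ↥M)) := by
    intro g
    obtain ⟨i, hi⟩ := Subgroup.mem_zpowers_iff.1 g.2
    refine ⟨n, Subtype.ext ?_⟩
    have h2 : (⟨x, hxM⟩ : ↥M) ^ p ^ n = 1 := Subtype.ext hx
    rw [SubmonoidClass.coe_pow, ← hi, ← zpow_natCast, ← zpow_mul, mul_comm, zpow_mul, zpow_natCast, h2, one_zpow]
    rfl
  obtain ⟨R0, hR0⟩ := h1.exists_le_sylow
  have hcard : Nat.card ↥((R0 : Subgroup ↥M).map M.subtype) = p ^ (Nat.card L).factorization p := by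
    rw [← Nat.card_congr ((R0 : Subgroup ↥M).equivMapOfInjective _ M.subtype_injective).toEquiv, R0.card_eq_multiplicity,
      factorization_eq ψ hψ hψk, hS, factorization_eq φ hφ hk, hp.factorization_pow, Finsupp.single_eq_same]
  let R : Sylow p L := Sylow.ofCard _ hcard
  refine ⟨R, ⟨⟨x, hxM⟩, hR0 (Subgroup.mem_zpowers _), rfl⟩, ?_⟩
  rintro _ ⟨r, hr, rfl⟩
  have hR : (R : Subgroup L) = (R0 : Subgroup ↥M).map M.subtype := rfl
  have hxR : x ∈ (R : Subgroup L) := ⟨⟨x, hxM⟩, hR0 (Subgroup.mem_zpowers _), rfl⟩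
  have hrR : (r : L) ∈ (R : Subgroup L) := ⟨r, hr, rfl⟩
  have h2 : x * r * x⁻¹ * (r : L)⁻¹ ∈ (R : Subgroup L) :=
    Subgroup.mul_mem _ (Subgroup.mul_mem _ (Subgroup.mul_mem _ hxR hrR) (Subgroup.inv_mem _ hxR)) (Subgroup.inv_mem _ hrR)
  have h3 : φ (x * r * x⁻¹ * (r : L)⁻¹) = 1 := by
    rw [map_mul, map_mul, map_mul, map_inv, map_inv, hc _ r.2]; group
  have h4 : x * r * x⁻¹ * (r : L)⁻¹ = 1 := by
    obtain ⟨k, hk'⟩ := R.isPGroup' ⟨_, h2⟩
    have h5 : (x * r * x⁻¹ * (r : L)⁻¹) ^ p ^ k = 1 := congrArg Subtype.val hk'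
    have h6 : orderOf (x * r * x⁻¹ * (r : L)⁻¹) ∣ p ^ k := orderOf_dvd_of_pow_eq_one h5
    have h7 : orderOf (x * r * x⁻¹ * (r : L)⁻¹) ∣ Nat.card ↥φ.ker := by
      have h8 := orderOf_dvd_natCard (⟨x * r * x⁻¹ * (r : L)⁻¹, h3⟩ : ↥φ.ker)
      have h9 : orderOf (⟨x * r * x⁻¹ * (r : L)⁻¹, h3⟩ : ↥φ.ker) = orderOf (x * r * x⁻¹ * (r : L)⁻¹) :=
        Subgroup.orderOf_mk _ _
      rwa [h9] at h8
    have h9 : Nat.Coprime (p ^ k) (Nat.card ↥φ.ker) := Nat.Coprime.pow_left k ((Nat.Prime.coprime_iff_not_dvd hp).2 hk)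
    have h10 := Nat.dvd_gcd h6 h7
    rw [h9] at h10
    exact orderOf_eq_one_iff.1 (Nat.dvd_one.1 h10)
  show x * r = r * x
  calc x * r = (x * r * x⁻¹ * (r : L)⁻¹) * (r * x) := by group
    _ = r * x := by rw [h4, one_mul]

end Cfsg.Agent.H819.SylLem
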