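import Cfsg.Agent.H819.Base
import Cfsg.Agent.H819.SylLem
import Cfsg.Agent.MonsterU.AmalSideOf
import Cfsg.Agent.MonsterU.CoFrameF
set_option linter.all false

/-!
# The joint centralizer of `z` and a conjugate `y ∈ Q` of type 4 (helper819)

`phi` : `C(z, y) → F = 2^11.M24`, surjective with kernel a 2-group.
-/

set_option autoImplicit false

namespace Cfsg.Agent.H819.Frame

open Cfsg Cfsg.Spor Cfsg.Agent.MonsterU Cfsg.Agent.MonsterU.Lam2 Cfsg.Agent.MonsterU.Ch
open Cfsg.Agent.Co2Type.Quad Cfsg.Agent.LargeExtra.Base Cfsg.Agent.H819.Base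
open Cfsg.Agent.MonsterU.CoFrameL2 (f0 F smul_f0 mem_F_iff f0_ne)
open Subgroup (centralizer zpowers mem_centralizer_singleton_iff)

section

variable {G : Type*} [Group G] {P : Subgroup G} {z y : G} {eta : G → L2}
  {pi : Subgroup.centralizer ({z} : Set G) →* Co1}

theorem mem_pair {z y g : G} : g ∈ centralizer ({z, y} : Set G) ↔ g * z = z * g ∧ g * y = y * g := by
  rw [Subgroup.mem_centralizer_iff]
  constructor
  · intro h
    exact ⟨(h z (by simp)).symm, (h y (by simp)).symm⟩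
  · rintro ⟨h1, h2⟩ x (rfl | rfl)
    · exact h1.symm
    · exact h2.symm

/-- the element of `C(z)` -/
def toZ (g : ↥(centralizer ({z, y} : Set G))) : ↥(centralizer ({z} : Set G)) :=
  ⟨g, mem_centralizer_singleton_iff.2 (mem_pair.1 g.2).1⟩

theorem pi_mem_F (h : Chart P z eta pi) (hyP : y ∈ P) (hy : eta y = f0) (g : ↥(centralizer ({z, y} : Set G))) :
    pi (toZ g) ∈ F := by
  rw [mem_F_iff, ← hy, ← h.eta_conj (toZ g) y hyP]
  congr 1
  show (g : G) * y * (g : G)⁻¹ = y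
  rw [(mem_pair.1 g.2).2]; group

/-- `C(z, y) → F` -/
def phi (h : Chart P z eta pi) (hyP : y ∈ P) (hy : eta y = f0) : ↥(centralizer ({z, y} : Set G)) →* ↥F where
  toFun g := ⟨pi (toZ g), pi_mem_F h hyP hy g⟩
  map_one' := Subtype.ext (map_one pi)
  map_mul' a b := Subtype.ext (map_mul pi (toZ a) (toZ b))

theorem phi_coe (h : Chart P z eta pi) (hyP : y ∈ P) (hy : eta y = f0) (g : ↥(centralizer ({z, y} : Set G))) :
    ((phi h hyP hy g : ↥F) : Co1) = pi (toZ g) := rfl

theorem phi_surj (h : Chart P z eta pi) (hyP : y ∈ P) (hy : eta y = f0) : Function.Surjective (phi h hyP hy) := by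
  rintro ⟨s, hs⟩
  have hy1 : y ≠ 1 := by rintro rfl; exact f0_ne (hy.symm.trans h.eta_one)
  have hyz : y ≠ z := by rintro rfl; exact f0_ne (hy.symm.trans h.eta_z)
  obtain ⟨c, hcy, rfl⟩ := Fused.exists_lift h hyP hy1 hyz (s := s) (by rw [hy]; exact smul_f0 hs)
  exact ⟨⟨c, mem_pair.2 ⟨mem_centralizer_singleton_iff.1 c.2, hcy⟩⟩, Subtype.ext rfl⟩

theorem phi_eq_one (h : Chart P z eta pi) (hyP : y ∈ P) (hy : eta y = f0) (g : ↥(centralizer ({z, y} : Set G))) :
    phi h hyP hy g = 1 ↔ (g : G) ∈ P := by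
  have h1 : pi (toZ g) = 1 ↔ (g : G) ∈ P := h.pi_eq_one (toZ g)
  rw [← h1, ← phi_coe h hyP hy]
  exact Subtype.ext_iff

theorem not_dvd_ker (h : Chart P z eta pi) (hyP : y ∈ P) (hy : eta y = f0) {p : ℕ} (hp : p.Prime) (h2 : p ≠ 2) :
    ¬ p ∣ Nat.card ↥(phi h hyP hy).ker := by
  have hfin := h.fin
  intro h3
  let g : ↥(phi h hyP hy).ker →* ↥P :=
    { toFun := fun g => ⟨((g : ↥(centralizer ({z, y} : Set G))) : G), (phi_eq_one h hyP hy _).1 g.2⟩
      map_one' := rfl
      map_mul' := fun _ _ => rfl }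
  have hg : Function.Injective g := by
    intro a b hab
    apply Subtype.ext
    apply Subtype.ext
    exact congrArg (fun g : ↥P => (g : G)) hab
  have h4 := h3.trans (Subgroup.card_dvd_of_injective g hg)
  rw [h.card_Q] at h4
  exact h2 ((Nat.prime_dvd_prime_iff_eq hp Nat.prime_two).1 (Nat.Prime.dvd_of_dvd_pow hp h4))

theorem card_F : Nat.card ↥F = 2 ^ 21 * 3 ^ 3 * 5 * 7 * 11 * 23 := by
  have h : Nat.card ↥F = 2048 * 244823040 := CoFrameF.card_F
  rw [h]; norm_num

instance finF : Finite ↥F := Nat.finite_of_card_ne_zero (by rw [card_F]; norm_num)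

end

end Cfsg.Agent.H819.Frame
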