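import Cfsg.Agent.Lib.Cores
import Cfsg.Agent.BpSpor.Act
import Cfsg.Agent.H939.RgdV
import Cfsg.Agent.OrdDiv.Table
import Cfsg.Agent.H819.OverG
import Cfsg.Agent.H849.FourModel_m3
import Cfsg.Prelude.Def_SporadicB
import Cfsg.Agent.H819.TwoACent
import Cfsg.Agent.MonsterU.AmalElts
import Mathlib
import Cfsg.Agent.KFacts.RgdFiltClass
import Cfsg.Agent.KFacts.RgdFiltChev
import Cfsg.Agent.KFacts.RgdLieCharP
import Cfsg.Agent.Nodes.RGDTwActE6
import Cfsg.Agent.Nodes.RGDTwD4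
import Cfsg.Agent.SplitTwo.HexDefs
import Cfsg.Agent.Hexagon.TwD4Par
import Cfsg.Prelude.Def_Classification2
import Cfsg.Agent.H753.ClRankRows
import Cfsg.Agent.H136.TwF.Peel
import Cfsg.Agent.Lib.FastPerm
import Cfsg.Agent.FastGrp
import Cfsg.Agent.Prune
set_option linter.all false

section
prune_inst 0x7ffcfefaafb83ddfdfff7e7fa698cffc39d05fffa6dff9437fe0e1ff0bdf030c29c52bad0de050fe1ed7603410b87853f97eceffe36bdc7ffffd1ff41ffbee0ff5f7b50851d488340fbc0fff03f07f8e7f3fffffffffffffffffffffffffffbeffbfffffffff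

-- part: H680/OverCl
section
prune_inst 0x100011040c0002000018059651003c42ea000590002b8801d1a00f420e873d630d012f21f8901e100938a2e440388008100000c90010000024008600411900a084a972e23374bd0437000fc0f807180c00000000000000000000000000041004000000000
set_option linter.all false
open scoped Cfsg.Agent.FastGrp

-- part: H680/Over
section
/-!
Overgroups `K` of a (quasi)simple subgroup `X` in a finite group `G` with `p ∥ |G|`, `p ∣ |X|` (for the sporadic rows
of S5900).  `T = O_{p'}(K)`; `K / T` has a simple normal subgroup `M` containing all elements of order `p`, hence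
`X T / T ≤ M`; if the classification leaves no room, `M = X T / T`.  `T` is controlled by Frattini.
-/

set_option autoImplicit false

namespace Cfsg.Agent.H680.Over

open Subgroup Cfsg Cfsg.Agent.Lib.Cores

universe u

section

variable {K : Type u} [Group K] [Finite K] {p : ℕ}

omit [Finite K] in
/-- a normal subgroup of index prime to `p` contains the elements of order `p` -/
theorem mem_of_index {A : Subgroup K} [A.Normal] (hA : A.index.Coprime p) {x : K} (hx : orderOf x = p) : x ∈ A := by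
  rw [← QuotientGroup.eq_one_iff]
  have h1 : orderOf (x : K ⧸ A) ∣ p := by
    rw [orderOf_dvd_iff_pow_eq_one, ← QuotientGroup.mk_pow, ← hx, pow_orderOf_eq_one]
    rfl
  have h2 : orderOf (x : K ⧸ A) ∣ A.index := by
    rw [index]
    exact _root_.orderOf_dvd_natCard _
  exact orderOf_eq_one_iff.1 (Nat.eq_one_of_dvd_coprimes hA h2 h1)

omit [Finite K] in
theorem index_coprime (hp : p.Prime) (hp2 : ¬ p ^ 2 ∣ Nat.card K) {A : Subgroup K} (hA : p ∣ Nat.card A) :
    A.index.Coprime p := by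
  rw [Nat.coprime_comm, Nat.Prime.coprime_iff_not_dvd hp]
  intro h
  apply hp2
  rw [← A.card_mul_index, pow_two]
  exact Nat.mul_dvd_mul hA h

/-- the subgroup generated by the elements of order `p` -/
def E (p : ℕ) (K : Type u) [Group K] : Subgroup K := _root_.Subgroup.closure {x : K | orderOf x = p}

omit [Finite K] in
instance E_char : (E p K).Characteristic := by
  rw [characteristic_iff_map_le]
  intro φ
  rw [E, MonoidHom.map_closure]
  apply Subgroup.closure_mono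
  rintro _ ⟨x, hx, rfl⟩
  change orderOf (φ x) = p
  rw [MulEquiv.orderOf_eq]
  exact hx

omit [Finite K] in
instance E_normal : (E p K).Normal := inferInstance

omit [Finite K] in
theorem mem_E {x : K} (hx : orderOf x = p) : x ∈ E p K := _root_.Subgroup.subset_closure hx

theorem dvd_card_E (hp : p.Prime) (h : p ∣ Nat.card K) : p ∣ Nat.card (E p K) := by
  have : Fact p.Prime := ⟨hp⟩
  obtain ⟨x, hx⟩ := exists_prime_orderOf_dvd_card' p h
  have h2 : orderOf (⟨x, mem_E hx⟩ : E p K) ∣ Nat.card (E p K) := _root_.orderOf_dvd_natCard _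
  rwa [Subgroup.orderOf_mk, hx] at h2

/-- `O_{p'}(K) = 1` and `p ∥ |K|`: the subgroup generated by the elements of order `p` is simple -/
theorem isSimple_E (hp : p.Prime) (hpK : p ∣ Nat.card K) (hp2 : ¬ p ^ 2 ∣ Nat.card K)
    (hO : pPrimeCore p K = ⊥) : IsSimpleGroup (E p K) := by
  have hpE := dvd_card_E (K := K) hp hpK
  have hE2 : ¬ p ^ 2 ∣ Nat.card (E p K) := fun h => hp2 (h.trans (card_subgroup_dvd_card _))
  have hnt : Nontrivial (E p K) := by
    by_contra hcon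
    rw [not_nontrivial_iff_subsingleton] at hcon
    rw [Nat.card_of_subsingleton (1 : E p K)] at hpE
    exact hp.one_lt.ne' (Nat.dvd_one.1 hpE)
  refine ⟨fun A hA => ?_⟩
  by_cases hpA : p ∣ Nat.card A
  · right
    have hi := index_coprime hp hE2 hpA
    have h1 : E p K ≤ A.map (E p K).subtype := by
      refine (closure_le _).2 fun x hx => ?_
      have hx' : orderOf x = p := hx
      have h2 : (⟨x, mem_E hx'⟩ : E p K) ∈ A := mem_of_index hi (by rw [Subgroup.orderOf_mk]; exact hx')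
      exact ⟨_, h2, rfl⟩
    rw [eq_top_iff]
    intro y _
    obtain ⟨z, hz, hzy⟩ := h1 y.2
    have : z = y := Subtype.ext hzy
    exact this ▸ hz
  · left
    have h1 : A ≤ pPrimeCore p (E p K) := le_pPrimeCore hA (by
      rw [Nat.coprime_comm, Nat.Prime.coprime_iff_not_dvd hp]; exact hpA)
    have h2 := map_subtype_pPrimeCore p (E_normal (K := K) (p := p))
    rw [hO, inf_bot_eq, Subgroup.map_eq_bot_iff, ker_subtype, le_bot_iff] at h2
    rw [eq_bot_iff, ← h2]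
    exact h1

/-- the core lemma -/
theorem core_over {n : ℕ} (hp : p.Prime) (hp2 : ¬ p ^ 2 ∣ Nat.card K) (X : Subgroup K)
    (hpX : p ∣ Nat.card X)
    (hX1 : ∀ A : Subgroup X, A.Normal → p ∣ Nat.card A → A = ⊤)
    (hX2 : ∀ A : Subgroup X, A.Normal → ¬ p ∣ Nat.card A → n ∣ A.index)
    (hn : ¬ n ∣ p)
    (hS : ∀ (S : Type u) [Group S] [Finite S] [IsSimpleGroup S], (¬ ∀ a b : S, a * b = b * a) → n ∣ Nat.card S →
      Nat.card S ∣ Nat.card K → Nat.card S = n) :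
    (E p (K ⧸ pPrimeCore p K)) = X.map (QuotientGroup.mk' (pPrimeCore p K)) ∧
      Nat.card (E p (K ⧸ pPrimeCore p K)) = n ∧ IsSimpleGroup (E p (K ⧸ pPrimeCore p K)) := by
  set! T := pPrimeCore p K with hT
  set f := QuotientGroup.mk' T with hf
  set M := E p (K ⧸ T) with hM
  have hXle : X.map f ≤ M := by
    -- the preimage in X is normal and contains all elements of order p
    have h1 : ((M.comap f).subgroupOf X).Normal := inferInstance
    have h2 : p ∣ Nat.card ((M.comap f).subgroupOf X) := by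
      have : Fact p.Prime := ⟨hp⟩
      obtain ⟨x, hx⟩ := exists_prime_orderOf_dvd_card' p hpX
      have h3 : x ∈ (M.comap f).subgroupOf X := by
        rw [mem_subgroupOf, mem_comap]
        have h4 : orderOf (f (x : K)) ∣ p := by
          have h4' : (x : K) ^ p = 1 := by
            rw [← SubmonoidClass.coe_pow, ← hx, pow_orderOf_eq_one]
            rfl
          rw [orderOf_dvd_iff_pow_eq_one, ← map_pow, h4', map_one]
        rcases (Nat.dvd_prime hp).1 h4 with h5 | h5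
        · rw [orderOf_eq_one_iff.1 h5]
          exact one_mem _
        · exact mem_E h5
      have h6 : orderOf (⟨x, h3⟩ : (M.comap f).subgroupOf X) ∣ Nat.card ((M.comap f).subgroupOf X) :=
        _root_.orderOf_dvd_natCard _
      rwa [Subgroup.orderOf_mk, hx] at h6
    have h3 := hX1 _ h1 h2
    rw [subgroupOf_eq_top] at h3
    exact map_le_iff_le_comap.2 h3
  have hTc : (Nat.card T).Coprime p := pPrimeCore_coprime p
  have hcK : Nat.card K = Nat.card (K ⧸ T) * Nat.card T := card_eq_card_quotient_mul_card_subgroup T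
  have hpK : p ∣ Nat.card K := hpX.trans (card_subgroup_dvd_card _)
  have hpQ : p ∣ Nat.card (K ⧸ T) := by
    rw [hcK] at hpK
    exact hTc.symm.dvd_of_dvd_mul_right hpK
  have hp2Q : ¬ p ^ 2 ∣ Nat.card (K ⧸ T) := fun h => hp2 (h.trans (hcK ▸ Dvd.intro _ rfl))
  have hsim : IsSimpleGroup M := isSimple_E hp hpQ hp2Q (pPrimeCore_quotient_pPrimeCore p)
  -- the order of X T / T
  have hnX : n ∣ Nat.card (X.map f) := by
    have h1 : (T.subgroupOf X).Normal := inferInstance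
    have h2 : ¬ p ∣ Nat.card (T.subgroupOf X) := by
      intro h
      have h3 : Nat.card (T.subgroupOf X) ∣ Nat.card T := by
        rw [← relIndex_bot_left, ← relIndex_bot_left]
        have h4 : (⊥ : Subgroup X).relIndex (T.subgroupOf X) = Nat.card ((T.subgroupOf X).map X.subtype) := by
          rw [relIndex_bot_left, card_map_of_injective X.subtype_injective]
        rw [h4, relIndex_bot_left, subgroupOf_map_subtype]
        exact card_dvd_of_le inf_le_left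
      exact (Nat.Prime.coprime_iff_not_dvd hp).1 hTc.symm (h.trans h3)
    have h3 := hX2 _ h1 h2
    have h4 : Nat.card (X.map f) = (T.subgroupOf X).index := by
      have h5 : (f.domRestrict X).ker = T.subgroupOf X := by
        rw [MonoidHom.ker_domRestrict, hf, QuotientGroup.ker_mk']
      rw [← h5, index_ker, MonoidHom.domRestrict_range]
    rwa [h4]
  have hcM : Nat.card (X.map f) ∣ Nat.card M := card_dvd_of_le hXle
  have hMK : Nat.card M ∣ Nat.card K :=
    (card_subgroup_dvd_card M).trans (hcK ▸ Dvd.intro _ rfl)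
  have hna : ¬ ∀ a b : M, a * b = b * a := by
    intro hab
    have hcom : ∀ a b : M, a * b = b * a := hab
    -- then |M| is prime
    have hprime : (Nat.card M).Prime := by
      let _ : CommGroup M := { (inferInstance : Group M) with mul_comm := hcom }
      exact IsSimpleGroup.prime_card
    have hpM : p ∣ Nat.card M := dvd_card_E hp hpQ
    have hMp : Nat.card M = p := ((Nat.prime_dvd_prime_iff_eq hp hprime).1 hpM).symm
    exact hn (hMp ▸ hnX.trans hcM)
  have hMn : Nat.card M = n := hS M hna (hnX.trans hcM) hMK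
  refine ⟨?_, hMn, hsim⟩
  have hXn : Nat.card (X.map f) = n := Nat.dvd_antisymm (hMn ▸ hcM) hnX
  exact (eq_of_le_of_card_ge hXle (by rw [hXn, hMn])).symm

/-- Frattini: a Sylow subgroup `R` of a normal subgroup `T`, and a simple normal subgroup `M` of `K / T` -/
theorem frattini_over (hp : p.Prime) (T : Subgroup K) [T.Normal] (M : Subgroup (K ⧸ T)) (hMn : M.Normal)
    (hMs : IsSimpleGroup M) (hpM : p ∣ Nat.card M) {r : ℕ} (hr : r.Prime) (R : Sylow r T) {Q : Subgroup K}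
    (hQ : (R : Subgroup T).map T.subtype = Q) :
    Nat.card M ∣ Nat.card (MulAut Q) ∨ ∃ c : K, orderOf c = p ∧ Q ≤ centralizer {c} := by
  classical
  have hpF : Fact p.Prime := ⟨hp⟩
  have hrF : Fact r.Prime := ⟨hr⟩
  set! f := QuotientGroup.mk' T with hf
  have hker : f.ker = T := QuotientGroup.ker_mk' T
  set! L := M.comap f with hL
  have hLn : L.Normal := hMn.comap f
  have hTL : T ≤ L := by
    rw [← hker]; exact MonoidHom.ker_le_comap f M
  have hfr : normalizer (Q : Set K) ⊔ T = ⊤ := hQ ▸ Sylow.normalizer_sup_eq_top R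
  set! C := centralizer (Q : Set K) ⊓ L with hC
  -- the image of C is normal
  have hCn : (C.map f).Normal := by
    have h1 : ∀ g ∈ normalizer (Q : Set K), ∀ c ∈ C, g * c * g⁻¹ ∈ C := by
      intro g hg c hc
      refine ⟨?_, hLn.conj_mem c hc.2 g⟩
      have hc1 := mem_centralizer_iff.1 hc.1
      change _ ∈ centralizer (Q : Set K)
      rw [mem_centralizer_iff]
      intro x hx
      have h2 : g⁻¹ * x * g ∈ (Q : Set K) := by
        have := (mem_normalizer_iff.1 (inv_mem hg) x).1 hx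
        simpa using this
      have h3 := hc1 _ h2
      calc x * (g * c * g⁻¹) = g * ((g⁻¹ * x * g) * c) * g⁻¹ := by group
        _ = g * (c * (g⁻¹ * x * g)) * g⁻¹ := by rw [h3]
        _ = g * c * g⁻¹ * x := by group
    refine ⟨?_⟩
    rintro _ ⟨c, hc, rfl⟩ y
    obtain ⟨g, rfl⟩ := QuotientGroup.mk'_surjective T y
    have hg : g ∈ normalizer (Q : Set K) ⊔ T := hfr ▸ mem_top g
    obtain ⟨a, ha, t, ht, rfl⟩ := mem_sup_of_normal_right.1 hg
    refine ⟨a * c * a⁻¹, h1 a ha c hc, ?_⟩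
    have hft : f t = 1 := by
      rw [← MonoidHom.mem_ker, hker]; exact ht
    simp only [map_mul, map_inv]
    change f a * f c * (f a)⁻¹ = f (a * t) * f c * (f (a * t))⁻¹
    rw [map_mul, hft, mul_one]
  have hCM : C.map f ≤ M := map_le_iff_le_comap.2 inf_le_right
  rcases hMs.eq_bot_or_eq_top_of_normal ((C.map f).subgroupOf M) inferInstance with h | h
  · left
    rw [subgroupOf_eq_bot, disjoint_iff, inf_eq_left.2 hCM] at h
    have hCT : C ≤ T := by
      rw [← hker]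
      exact (map_eq_bot_iff C).1 h
    set N := normalizer (Q : Set K) with hN
    -- N ⊓ L maps onto M
    have hNL : ((N ⊓ L).map f) = M := by
      apply le_antisymm
      · exact map_le_iff_le_comap.2 inf_le_right
      · intro y hy
        obtain ⟨g, rfl⟩ := QuotientGroup.mk'_surjective T y
        have hg : g ∈ N ⊔ T := hfr ▸ mem_top g
        obtain ⟨a, ha, t, ht, rfl⟩ := mem_sup_of_normal_right.1 hg
        refine ⟨a, ⟨ha, ?_⟩, ?_⟩
        · have h2 : a * t ∈ L := hy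
          have h3 := L.mul_mem h2 (L.inv_mem (hTL ht))
          rwa [mul_inv_cancel_right] at h3
        · have hft : f t = 1 := by
            rw [← MonoidHom.mem_ker, hker]; exact ht
          change f a = f (a * t)
          rw [map_mul, hft, mul_one]
    let φ : (N ⊓ L : Subgroup K) →* MulAut Q := Q.normalizerMonoidHom.comp (inclusion inf_le_left)
    have hφ : φ.ker ≤ (T.subgroupOf (N ⊓ L)) := by
      intro x hx
      have h2 : (inclusion inf_le_left x : N) ∈ Q.normalizerMonoidHom.ker := hx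
      rw [normalizerMonoidHom_ker] at h2
      exact hCT ⟨h2, x.2.2⟩
    have h3 : Nat.card M = (T.subgroupOf (N ⊓ L)).index := by
      have h5 : (f.domRestrict (N ⊓ L)).ker = T.subgroupOf (N ⊓ L) := by
        rw [MonoidHom.ker_domRestrict, hker]
      rw [← h5, index_ker, MonoidHom.domRestrict_range, hNL]
    rw [h3]
    refine (index_dvd_of_le hφ).trans ?_
    rw [index_ker]
    exact card_subgroup_dvd_card _
  · right
    rw [subgroupOf_eq_top] at h
    have h1 : C.map f = M := le_antisymm hCM h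
    have h2 : p ∣ Nat.card C := by
      rw [← h1] at hpM
      exact hpM.trans (card_map_dvd _ _)
    obtain ⟨c, hc⟩ := exists_prime_orderOf_dvd_card' p h2
    refine ⟨c, by rwa [Subgroup.orderOf_coe], ?_⟩
    intro x hx
    rw [mem_centralizer_singleton_iff]
    exact (mem_centralizer_iff.1 c.2.1 x hx)

end

end Cfsg.Agent.H680.Over
end

-- part: H680/OverCl
section
/-!
Overgroups of a (quasi)simple subgroup `X` of a finite group `G`, `p ∥ |G|`, `p ∣ |X|`; the criterion for S5900.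

* `exists_core` : the structure of a proper overgroup `K` of `X`;
* `over_simple` : if the numbers are right, `K` normalises `X`;
* `cl_of_simple` : `CL G` from a simple subgroup `X` (all hypotheses numerical, `decide`-checkable);
* `only_of` : the order condition on simple groups, from S0000 and the order engine.
-/

set_option autoImplicit false

namespace Cfsg.Agent.H680.Over

open Subgroup Cfsg Cfsg.Agent.Lib.Cores Cfsg.Agent.H939 Cfsg.Agent.H939.KLat

universe u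

/-- every nonabelian finite simple group whose order is divisible by `n` and divides `N` has order `n` or `N` -/
def Only (n N : ℕ) : Prop :=
  ∀ (S : Type) [Group S] [Finite S] [IsSimpleGroup S], (¬ ∀ a b : S, a * b = b * a) → n ∣ Nat.card S →
    Nat.card S ∣ N → Nat.card S = n ∨ Nat.card S = N

/-- the classification (in `Type`) -/
def Kn : Prop := ∀ (S : Type) [Group S] [Finite S] [IsSimpleGroup S], IsKnownSimple' S

/-- check by the order engine -/
theorem only_of (h0 : Kn) {n N : ℕ} (l : List (ℕ × ℕ)) (hv : OrdDiv.valid l N = true)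
    (hc : (OrdDiv.cands l N).all (fun g => OrdDiv.ordN g % n != 0 || (OrdDiv.ordN g == n || OrdDiv.ordN g == N)) = true) :
    Only n N := by
  intro S _ _ _ hna hn hN
  obtain ⟨g, h1, h2, h3⟩ := OrdDiv.exists_good OrdDiv.table (h0 S) hna hv hN
  have h4 := List.all_eq_true.1 hc g h1
  rw [← h3] at h4
  simp only [Bool.or_eq_true, bne_iff_ne, beq_iff_eq, ne_eq] at h4
  rcases h4 with h4 | h4 | h4
  · exact absurd (Nat.mod_eq_zero_of_dvd hn) h4
  · exact Or.inl h4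
  · exact Or.inr h4

section

variable {G : Type} [Group G] [Finite G] {p n : ℕ}

/-- the standing hypotheses on `X` : `p ∥ |G|`, and every normal subgroup of `X` is `X` or a `p'`-group of index
divisible by `n` -/
structure Hyp (p n : ℕ) (X : Subgroup G) : Prop where
  hp : p.Prime
  hp2 : ¬ p ^ 2 ∣ Nat.card G
  hpX : p ∣ Nat.card X
  hX1 : ∀ A : Subgroup X, A.Normal → p ∣ Nat.card A → A = ⊤
  hX2 : ∀ A : Subgroup X, A.Normal → ¬ p ∣ Nat.card A → n ∣ A.index
  hn : ¬ n ∣ p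
  only : Only n (Nat.card G)

omit [Finite G] in
theorem Hyp.of_simple {X : Subgroup G} (hp : p.Prime) (hp2 : ¬ p ^ 2 ∣ Nat.card G) (hpX : p ∣ Nat.card X)
    (hs : IsSimpleGroup X) (hX : Nat.card X = n) (hn : n ≠ p) (hS : Only n (Nat.card G)) : Hyp p n X where
  hp := hp
  hp2 := hp2
  hpX := hpX
  hX1 := by
    intro A hA hpA
    rcases hs.eq_bot_or_eq_top_of_normal A hA with h | h
    · rw [h, card_bot] at hpA
      exact absurd (Nat.dvd_one.1 hpA) hp.one_lt.ne'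
    · exact h
  hX2 := by
    intro A hA hpA
    rcases hs.eq_bot_or_eq_top_of_normal A hA with h | h
    · rw [h, index_bot, hX]
    · rw [h, card_top] at hpA
      exact absurd hpX hpA
  hn := by
    intro h
    rcases (Nat.dvd_prime hp).1 h with h1 | h1
    · rw [hX, h1] at hpX
      exact hp.one_lt.ne' (Nat.dvd_one.1 hpX)
    · exact hn h1
  only := hS

/-- the structure of a proper overgroup -/
theorem exists_core {X : Subgroup G} (h : Hyp p n X) {K : Subgroup G} (hXK : X ≤ K) (hK : K ≠ ⊤) :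
    ∃ T : Subgroup G, T ≤ K ∧ (∀ k ∈ K, ∀ t ∈ T, k * t * k⁻¹ ∈ T) ∧ (Nat.card T).Coprime p ∧
      (∀ k ∈ K, ∀ t ∈ X ⊔ T, k * t * k⁻¹ ∈ X ⊔ T) ∧ n * Nat.card T ∣ Nat.card G ∧
      Nat.card (X ⊔ T : Subgroup G) = n * Nat.card T ∧
      ∀ r : ℕ, r.Prime → r ∣ Nat.card T → ∃ (Q : Subgroup G) (k : ℕ), Q ≤ T ∧ k ≠ 0 ∧ Nat.card Q = r ^ k ∧
        ¬ r ^ (k + 1) ∣ Nat.card T ∧
        (n ∣ Nat.card (MulAut Q) ∨ ∃ c : G, orderOf c = p ∧ c ∈ K ∧ Q ≤ centralizer {c}) := by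
  have hKG : Nat.card K ∣ Nat.card G := card_subgroup_dvd_card K
  have hKlt : Nat.card K < Nat.card G := by
    refine lt_of_le_of_ne (Nat.le_of_dvd Nat.card_pos hKG) fun he => hK ?_
    exact eq_top_of_card_eq K he
  set! Y := X.subgroupOf K with hY
  have hYX : Y.map K.subtype = X := by rw [hY, subgroupOf_map_subtype, inf_eq_left.2 hXK]
  let e : Y ≃* X := subgroupOfEquivOfLe hXK
  have hcY : Nat.card Y = Nat.card X := Nat.card_congr e.toEquiv
  have hp2K : ¬ p ^ 2 ∣ Nat.card K := fun hd => h.hp2 (hd.trans hKG)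
  have hcA : ∀ A : Subgroup Y, Nat.card (A.map e.toMonoidHom) = Nat.card A := fun A =>
    card_map_of_injective e.injective
  have hY1 : ∀ A : Subgroup Y, A.Normal → p ∣ Nat.card A → A = ⊤ := by
    intro A hA hpA
    have h1 := h.hX1 (A.map e.toMonoidHom) (hA.map _ e.surjective) (by rwa [hcA])
    have h2 := congrArg (comap e.toMonoidHom) h1
    rwa [comap_map_eq_self_of_injective e.injective, comap_top] at h2
  have hY2 : ∀ A : Subgroup Y, A.Normal → ¬ p ∣ Nat.card A → n ∣ A.index := by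
    intro A hA hpA
    have h1 := h.hX2 (A.map e.toMonoidHom) (hA.map _ e.surjective) (by rwa [hcA])
    have h2 : (A.map e.toMonoidHom).index = A.index := by
      have := index_map_equiv A e
      exact this
    rwa [h2] at h1
  obtain ⟨h1, h2, h3⟩ := core_over h.hp hp2K Y (hcY ▸ h.hpX) hY1 hY2 h.hn (by
    intro S _ _ _ hna hd1 hd2
    rcases h.only S hna hd1 (hd2.trans hKG) with h4 | h4
    · exact h4
    · exact absurd (Nat.le_of_dvd Nat.card_pos hd2) (by rw [h4]; exact not_le.2 hKlt))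
  set! T := pPrimeCore p K with hT
  have hpM : p ∣ Nat.card (E p (K ⧸ T)) := by
    rw [h1]
    have hd : Nat.card Y = Nat.card (Y.map (QuotientGroup.mk' T)) * Nat.card (T.subgroupOf Y) := by
      have h5 : ((QuotientGroup.mk' T).domRestrict Y).ker = T.subgroupOf Y := by
        rw [MonoidHom.ker_domRestrict, QuotientGroup.ker_mk']
      rw [← h5, ← MonoidHom.domRestrict_range, ← index_ker, mul_comm, card_mul_index]
    have hcop : (Nat.card (T.subgroupOf Y)).Coprime p := by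
      refine Nat.Coprime.coprime_dvd_left ?_ (pPrimeCore_coprime (G := K) p)
      rw [← card_map_of_injective Y.subtype_injective, subgroupOf_map_subtype]
      exact card_dvd_of_le inf_le_left
    have hpY : p ∣ Nat.card Y := hcY ▸ h.hpX
    rw [hd] at hpY
    exact hcop.symm.dvd_of_dvd_mul_right hpY
  -- the preimage of M
  have hYT : Y ⊔ T = (E p (K ⧸ T)).comap (QuotientGroup.mk' T) := by
    rw [h1, comap_map_eq, QuotientGroup.ker_mk']
  have hYTn : (Y ⊔ T).Normal := by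
    rw [hYT]
    exact (E_normal (K := K ⧸ T) (p := p)).comap _
  have hcYT : Nat.card (Y ⊔ T : Subgroup K) = n * Nat.card T := by
    rw [hYT, ← h2, mul_comm]
    exact QuotientGroup.card_preimage_mk T (E p (K ⧸ T) : Set (K ⧸ T))
  have hTm : (Y ⊔ T).map K.subtype = X ⊔ T.map K.subtype := by
    rw [Subgroup.map_sup, hYX]
  have hcT : Nat.card (T.map K.subtype) = Nat.card T := card_map_of_injective K.subtype_injective
  have hcXT : Nat.card (X ⊔ T.map K.subtype : Subgroup G) = n * Nat.card T := by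
    rw [← hTm, card_map_of_injective K.subtype_injective, hcYT]
  refine ⟨T.map K.subtype, map_subtype_le _, ?_, ?_, ?_, ?_, ?_, ?_⟩
  · rintro k hk _ ⟨t, ht, rfl⟩
    exact ⟨(⟨k, hk⟩ * t * ⟨k, hk⟩⁻¹ :), (pPrimeCore_normal (G := K) p).conj_mem t ht _, rfl⟩
  · rw [hcT]
    exact pPrimeCore_coprime p
  · rw [← hTm]
    rintro k hk _ ⟨t, ht, rfl⟩
    exact ⟨(⟨k, hk⟩ * t * ⟨k, hk⟩⁻¹ :), hYTn.conj_mem t ht _, rfl⟩
  · rw [hcT, ← hcXT]
    exact card_subgroup_dvd_card _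
  · rw [hcT, hcXT]
  · intro r hr hrT
    rw [hcT] at hrT ⊢
    have hrF : Fact r.Prime := ⟨hr⟩
    obtain ⟨R⟩ : Nonempty (Sylow r T) := inferInstance
    refine ⟨(((R : Subgroup T).map T.subtype).map K.subtype :), (Nat.card T).factorization r, map_mono (map_subtype_le _),
      ?_, ?_, ?_, ?_⟩
    · exact (hr.factorization_pos_of_dvd Nat.card_pos.ne' hrT).ne'
    · rw [card_map_of_injective K.subtype_injective, card_map_of_injective T.subtype_injective,
        R.card_eq_multiplicity]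
    · exact Nat.pow_succ_factorization_not_dvd Nat.card_pos.ne' hr
    · rcases frattini_over h.hp T (E p (K ⧸ T)) inferInstance h3 hpM hr R rfl with h4 | ⟨c, hc1, hc2⟩
      · left
        rw [h2] at h4
        let e' : (((R : Subgroup T).map T.subtype :)) ≃* (((R : Subgroup T).map T.subtype).map K.subtype) :=
          equivMapOfInjective _ _ K.subtype_injective
        rwa [Nat.card_congr (MulAut.congr e').toEquiv] at h4
      · right
        refine ⟨(c : G), by rwa [Subgroup.orderOf_coe], c.2, ?_⟩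
        rintro _ ⟨x, hx, rfl⟩
        have h5 := mem_centralizer_singleton_iff.1 (hc2 hx)
        rw [mem_centralizer_singleton_iff]
        exact congrArg Subtype.val h5

/-! ### The numerical part -/

/-- trial division -/
def isP (r : ℕ) : Bool := decide (2 ≤ r) && (List.range r).all fun d => decide (d < 2) || r % d != 0

theorem prime_of_isP {r : ℕ} (h : isP r = true) : r.Prime := by
  simp only [isP, Bool.and_eq_true, decide_eq_true_eq, List.all_eq_true, List.mem_range, Bool.or_eq_true,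
    bne_iff_ne, ne_eq] at h
  rw [Nat.prime_def]
  refine ⟨h.1, fun m hm => ?_⟩
  by_cases hmr : m = r
  · exact Or.inr hmr
  left
  have hr0 : 0 < r := by omega
  have hlt : m < r := lt_of_le_of_ne (Nat.le_of_dvd hr0 hm) hmr
  rcases h.2 m hlt with h1 | h1
  · have : m ≠ 0 := by
      rintro rfl
      exact hr0.ne' (Nat.eq_zero_of_zero_dvd hm)
    omega
  · exact absurd (Nat.mod_eq_zero_of_dvd hm) h1

/-- the order of `GL_d(r)` -/
def gl (r d : ℕ) : ℕ := ((List.range d).map fun i => r ^ d - r ^ i).prod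

theorem gl_eq (r d : ℕ) : gl r d = ∏ i : Fin d, (r ^ d - r ^ (i : ℕ)) := by
  rw [gl, ← List.prod_ofFn (f := fun i : Fin d => r ^ d - r ^ (i : ℕ))]
  congr 1
  apply List.ext_getElem
  · simp
  · intro i h1 h2
    simp only [_root_.List.getElem_map, _root_.List.getElem_range, _root_.List.getElem_ofFn]

/-- check for a prime `r` with exponent `k` in the cofactor and witness `w` (a divisor of `n`) -/
def chk1 (p n q : ℕ) (t : ℕ × ℕ × ℕ) : Bool :=
  isP t.1 && (n % t.2.2 == 0) && (Nat.gcd t.2.2 t.1 == 1) &&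
    ((List.range (t.2.1 + 1)).all fun d => gl t.1 d % t.2.2 != 0) && (t.1 == p || q % t.1 != 0)

/-- the numerical check: `l` = list of `(r, k, w)`, `N = n * ∏ r ^ k` -/
def chk (p n N q : ℕ) (l : List (ℕ × ℕ × ℕ)) : Bool :=
  l.all (chk1 p n q) && (N == n * (l.map fun t => t.1 ^ t.2.1).prod) && decide (l.map fun t => t.1).Nodup

theorem mem_of_pow_dvd {l : List (ℕ × ℕ × ℕ)} (h1 : ∀ t ∈ l, t.1.Prime) (h2 : (l.map fun t => t.1).Nodup)
    {r k : ℕ} (hr : r.Prime) (hk : k ≠ 0) (h : r ^ k ∣ (l.map fun t => t.1 ^ t.2.1).prod) :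
    ∃ t ∈ l, t.1 = r ∧ k ≤ t.2.1 := by
  induction l with
  | nil =>
    rw [List.map_nil, List.prod_nil, Nat.dvd_one] at h
    exact absurd (Nat.pow_eq_one.1 h) (by rintro (h | h); exacts [hr.one_lt.ne' h, hk h])
  | cons t l ih =>
    rw [List.map_cons, List.nodup_cons] at h2
    rw [List.map_cons, List.prod_cons] at h
    by_cases htr : t.1 = r
    · refine ⟨t, by simp, htr, ?_⟩
      have hcop : Nat.Coprime (r ^ k) (l.map fun t => t.1 ^ t.2.1).prod := by
        apply Nat.Coprime.pow_left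
        rw [Nat.coprime_list_prod_right_iff]
        intro m hm
        obtain ⟨s, hs, rfl⟩ := List.mem_map.1 hm
        apply Nat.Coprime.pow_right
        rw [Nat.coprime_primes hr (h1 s (by simp [hs]))]
        rintro rfl
        exact h2.1 (List.mem_map.2 ⟨s, hs, htr.symm⟩)
      have h3 := hcop.dvd_of_dvd_mul_right h
      rw [htr] at h3
      exact (Nat.pow_dvd_pow_iff_le_right hr.one_lt).1 h3
    · have hcop : Nat.Coprime (r ^ k) (t.1 ^ t.2.1) :=
        ((Nat.coprime_primes hr (h1 t (by simp))).2 (Ne.symm htr)).pow _ _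
      have h3 := hcop.dvd_of_dvd_mul_left h
      obtain ⟨s, hs, h4⟩ := ih (fun s hs => h1 s (by simp [hs])) h2.2 h3
      exact ⟨s, by simp [hs], h4⟩

theorem num_of_chk {p n N q : ℕ} {l : List (ℕ × ℕ × ℕ)} (h : chk p n N q l = true) (hN : N ≠ 0) {r k : ℕ}
    (hr : r.Prime) (hrp : r ≠ p) (hk : k ≠ 0) (hd : n * r ^ k ∣ N) :
    (∀ a d : ℕ, d ≤ k → ¬ n ∣ r ^ a * ∏ i : Fin d, (r ^ d - r ^ (i : ℕ))) ∧ ¬ r ∣ q := by
  simp only [chk, Bool.and_eq_true, List.all_eq_true, beq_iff_eq, decide_eq_true_eq] at h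
  obtain ⟨⟨h1, h2⟩, h3⟩ := h
  have hn : 0 < n := by
    rcases Nat.eq_zero_or_pos n with h0 | h0
    · rw [h0, zero_mul] at h2; exact absurd h2 hN
    · exact h0
  rw [h2] at hd
  have hd2 := Nat.dvd_of_mul_dvd_mul_left hn hd
  have h1' : ∀ t ∈ l, t.1.Prime ∧ t.2.2 ∣ n ∧ Nat.Coprime t.2.2 t.1 ∧
      (∀ d ≤ t.2.1, ¬ t.2.2 ∣ ∏ i : Fin d, (t.1 ^ d - t.1 ^ (i : ℕ))) ∧ (t.1 = p ∨ ¬ t.1 ∣ q) := by
    intro t ht
    have h4 := h1 t ht
    simp only [chk1, Bool.and_eq_true, beq_iff_eq, List.all_eq_true, List.mem_range, bne_iff_ne, ne_eq,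
      Bool.or_eq_true] at h4
    obtain ⟨⟨⟨⟨a1, a2⟩, a3⟩, a4⟩, a5⟩ := h4
    refine ⟨prime_of_isP a1, Nat.dvd_of_mod_eq_zero a2, a3, ?_, ?_⟩
    · intro d hd
      rw [← gl_eq]
      exact fun hc => a4 d (by omega) (Nat.mod_eq_zero_of_dvd hc)
    · rcases a5 with a5 | a5
      · exact Or.inl a5
      · exact Or.inr fun hc => a5 (Nat.mod_eq_zero_of_dvd hc)
  obtain ⟨t, ht, htr, hkt⟩ := mem_of_pow_dvd (fun t ht => (h1' t ht).1) h3 hr hk hd2
  obtain ⟨-, b2, b3, b4, b5⟩ := h1' t ht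
  rw [htr] at b3 b4 b5
  refine ⟨fun a d hdk hc => ?_, ?_⟩
  · refine b4 d (hdk.trans hkt) ?_
    exact (b3.pow_right a).dvd_of_dvd_mul_left (b2.trans hc)
  · rcases b5 with b5 | b5
    · exact absurd b5 hrp
    · exact b5

/-- `K` normalises `X` -/
theorem over_simple {X : Subgroup G} (h : Hyp p n X) {N q : ℕ} {l : List (ℕ × ℕ × ℕ)} (hG : Nat.card G = N)
    (hC : ∀ c : G, orderOf c = p → Nat.card (centralizer {c} : Subgroup G) = q) (hchk : chk p n N q l = true)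
    {K : Subgroup G} (hXK : X ≤ K) (hK : K ≠ ⊤) : K ≤ normalizer (X : Set G) := by
  obtain ⟨T, hTK, hTn, hTp, hXT, hnT, hcXT, hall⟩ := exists_core h hXK hK
  have hT : T = ⊥ := by
    by_contra hne
    have h1 : Nat.card T ≠ 1 := fun h1 => hne (card_eq_one.1 h1)
    obtain ⟨r, hr, hrT⟩ := Nat.exists_prime_and_dvd h1
    obtain ⟨Q, k, hQT, hk, hQ, -, halt⟩ := hall r hr hrT
    have hrp : r ≠ p := by
      rintro rfl
      exact (Nat.Prime.coprime_iff_not_dvd hr).1 hTp.symm hrT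
    have hrF : Fact r.Prime := ⟨hr⟩
    have hd : n * r ^ k ∣ N := by
      rw [← hG, ← hQ]
      exact (Nat.mul_dvd_mul_left n (card_dvd_of_le hQT)).trans hnT
    obtain ⟨c1, c2⟩ := num_of_chk hchk (hG ▸ Nat.card_pos.ne') hr hrp hk hd
    rcases halt with h2 | ⟨c, hc, -, hQc⟩
    · obtain ⟨d, M, hdk, -, hM⟩ := BpSpor.card_mulAut_dvd (IsPGroup.of_card hQ) hQ
      exact c1 M d hdk (h2.trans hM)
    · have h3 := card_dvd_of_le hQc
      rw [hC c hc, hQ] at h3
      exact c2 ((dvd_pow_self r hk).trans h3)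
  subst hT
  rw [sup_bot_eq] at hXT
  intro k hk
  rw [mem_normalizer_iff]
  intro x
  constructor
  · exact fun hx => hXT k hk x hx
  · intro hx
    have := hXT k⁻¹ (inv_mem hk) _ hx
    simpa [mul_assoc] using this

/-- **The criterion for S5900** : `X` simple of order `n`, `p ∥ |G| = N`, `|C_G(c)| = q` for `c` of order `p`,
the check `chk` and the order condition `Only`. -/
theorem cl_of_simple [IsSimpleGroup G] (hb : Below (Nat.card G)) {X : Subgroup G} (hs : IsSimpleGroup X)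
    {N q : ℕ} (l : List (ℕ × ℕ × ℕ)) (hG : Nat.card G = N) (hX : Nat.card X = n) (hlt : n < N) (hp : p.Prime)
    (hpn : p ∣ n) (hp2 : ¬ p ^ 2 ∣ N) (hn : n ≠ p) (hS : Only n N)
    (hC : ∀ c : G, orderOf c = p → Nat.card (centralizer {c} : Subgroup G) = q)
    (hchk : chk p n N q l = true) : CL G := by
  have h : Hyp p n X := Hyp.of_simple hp (hG ▸ hp2) (hX ▸ hpn) hs hX hn (hG ▸ hS)
  have hXcl : CL X := hb.apply (by rw [hX, hG]; exact hlt)
  have hXb : X ≠ ⊥ := by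
    rintro rfl
    rw [card_bot] at hX
    rw [← hX] at hpn
    exact hp.one_lt.ne' (Nat.dvd_one.1 hpn)
  have hXt : X ≠ ⊤ := by
    rintro rfl
    rw [card_top, hG] at hX
    exact hlt.ne' hX
  refine crit_unique (M := normalizer (X : Set G)) hXcl ?_ fun Y hXY hY => over_simple h hG hC hchk hXY hY
  intro he
  have hXn : X.Normal := normalizer_eq_top_iff.1 he
  rcases hXn.eq_bot_or_eq_top with h1 | h1
  · exact hXb h1
  · exact hXt h1

end

end Cfsg.Agent.H680.Over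
end

private theorem dce_00e0da067ddf : _root_.True := by
  try have : _root_.True := by simp only [_root_.Cfsg.Agent.H680.Over.chk.eq_1]
  try have : _root_.True := by simp only [_root_.Cfsg.Agent.H680.Over.chk1.eq_1]
  try have : _root_.True := by simp only [_root_.Cfsg.Agent.H680.Over.gl.eq_1]
  try have : _root_.True := by simp only [_root_.Cfsg.Agent.H680.Over.isP.eq_1]
  try have : _root_.True := by simp only [_root_.Cfsg.Agent.H680.Over.E.eq_1]
  exact _root_.True.intro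
end

-- part: H819/OverCL
section
set_option linter.all false
open scoped Cfsg.Agent.FastGrp

/-!
# Complemented subgroup lattices: `G` from a quasisimple subgroup `X` with `C_G(X) = Z(X) = Z` (helper819, S5900)

* `hyp_of_cover` : the hypotheses `OverG.Hyp` from a perfect central extension `X → S` of a simple group;
* `ar_of` : `OverG.Ar p m` by computation;
* `ovr` : an overgroup of `X` is `G` or normalises `Z` (`X` if `Z = 1`);
* `cl_double`, `cl_simple` : `CL G`.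
-/

set_option autoImplicit false

namespace Cfsg.Agent.H819.OverCL

open Subgroup Cfsg Cfsg.Agent.H939.KLat Cfsg.Agent.H819.OverG Cfsg.Agent.H680.Over

open scoped commutatorElement

universe u v

/-! ### arithmetic -/

/-- the check for `Ar` -/
def arc (p : ℕ) (l : List (ℕ × ℕ)) : Bool :=
  l.all fun x => (List.range x.2).all fun i => (x.1 ^ (i + 1)) % p != 1 && x.1 % p != 0

theorem ar_of {p m : ℕ} (hp : p.Prime) {l : List (ℕ × ℕ)} (hv : OrdDiv.valid l m = true) (hc : arc p l = true) :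
    Ar p m := by
  have key : ∀ r i : ℕ, r.Prime → 1 ≤ i → r ^ i ∣ m → (r ^ i) % p ≠ 1 ∧ r % p ≠ 0 := by
    intro r i hr hi hd
    obtain ⟨k, hk, hik⟩ := OrdDiv.exists_pair hv hr hi hd
    have h1 := List.all_eq_true.1 hc _ hk
    have h2 := List.all_eq_true.1 h1 (i - 1) (List.mem_range.2 (by simp only; omega))
    simp only [Bool.and_eq_true, bne_iff_ne, ne_eq, Nat.sub_add_cancel hi] at h2
    exact h2
  refine ⟨fun h => ?_, fun r i hr hi hd h => ?_⟩
  · have h1 := (key p 1 hp le_rfl (by rwa [pow_one])).2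
    exact h1 (Nat.mod_self p)
  · have h1 := (key r i hr hi hd).1
    apply h1
    have h2 : 1 ≤ r ^ i := Nat.one_le_pow _ _ hr.pos
    have h3 : 1 ≡ r ^ i [MOD p] := (Nat.modEq_iff_dvd' h2).2 h
    rw [← h3, Nat.mod_eq_of_lt hp.one_lt]

section gen

variable {G : Type u} [Group G]

/-- **the hypotheses from a perfect central extension of a simple group** -/
theorem hyp_of_cover {Z X : Subgroup G} (hZX : Z ≤ X) {S : Type v} [Group S] [IsSimpleGroup S]
    (hna : ∃ a b : S, a * b ≠ b * a) (π : ↥X →* S) (hsurj : Function.Surjective π)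
    (hker : ∀ x : ↥X, π x = 1 ↔ (x : G) ∈ Z) (hperf : commutator ↥X = ⊤)
    (hcen : ∀ z ∈ Z, ∀ x ∈ X, z * x = x * z) (hc : ∀ g : G, (∀ x ∈ X, g * x = x * g) → g ∈ Z)
    (hprime : Z = ⊥ ∨ (Nat.card ↥Z).Prime) : Hyp Z X where
  le := hZX
  ne := by
    intro h
    obtain ⟨a, b, hab⟩ := hna
    obtain ⟨x, rfl⟩ := hsurj a
    apply hab
    rw [(hker x).2 (h x.2), one_mul, mul_one]
  sub := by
    intro N hNX hN
    have hn : (N.subgroupOf X).Normal := ⟨fun n hn g => hN g g.2 n hn⟩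
    have hn2 : ((N.subgroupOf X).map π).Normal := Subgroup.Normal.map hn π hsurj
    rcases hn2.eq_bot_or_eq_top with h | h
    · left
      intro n hn
      have h1 : π ⟨n, hNX hn⟩ ∈ (N.subgroupOf X).map π := ⟨⟨n, hNX hn⟩, hn, rfl⟩
      rw [h, mem_bot] at h1
      exact (hker _).1 h1
    · right
      have hdec : ∀ x : ↥X, ∃ n : ↥X, (n : G) ∈ N ∧ ∃ z : ↥X, (z : G) ∈ Z ∧ x = n * z := by
        intro x
        have h1 : π x ∈ (N.subgroupOf X).map π := by rw [h]; trivial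
        obtain ⟨n, hn, hnx⟩ := h1
        refine ⟨n, hn, n⁻¹ * x, ?_, by group⟩
        rw [← hker, map_mul, map_inv, hnx, inv_mul_cancel]
      have h2 : commutator ↥X ≤ N.subgroupOf X := by
        rw [_root_.commutator_def, Subgroup.commutator_le]
        intro x _ y _
        obtain ⟨n, hn, z, hz, rfl⟩ := hdec x
        obtain ⟨n', hn', z', hz', rfl⟩ := hdec y
        have hz1 : ∀ w : ↥X, z * w = w * z := fun w => Subtype.ext (hcen z hz w w.2)
        have hz2 : ∀ w : ↥X, z' * w = w * z' := fun w => Subtype.ext (hcen z' hz' w w.2)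
        have h3 : ⁅n * z, n' * z'⁆ = ⁅n, n'⁆ := by
          rw [commutatorElement_def, commutatorElement_def, mul_inv_rev, mul_inv_rev]
          calc n * z * (n' * z') * (z⁻¹ * n⁻¹) * (z'⁻¹ * n'⁻¹) = n * (z * (n' * z')) * (z⁻¹ * n⁻¹) * (z'⁻¹ * n'⁻¹) := by
                group
            _ = n * (n' * z' * z) * (z⁻¹ * n⁻¹) * (z'⁻¹ * n'⁻¹) := by rw [hz1]
            _ = n * n' * (z' * n⁻¹) * (z'⁻¹ * n'⁻¹) := by group
            _ = n * n' * (n⁻¹ * z') * (z'⁻¹ * n'⁻¹) := by rw [hz2]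
            _ = n * n' * n⁻¹ * n'⁻¹ := by group
        rw [h3]
        have h4 : n ∈ N.subgroupOf X := hn
        have h5 : n' ∈ N.subgroupOf X := hn'
        exact (N.subgroupOf X).mul_mem ((N.subgroupOf X).mul_mem ((N.subgroupOf X).mul_mem h4 h5)
          ((N.subgroupOf X).inv_mem h4)) ((N.subgroupOf X).inv_mem h5)
      rw [hperf, top_le_iff, subgroupOf_eq_top] at h2
      exact le_antisymm hNX h2
  cent := hc
  prime := by
    intro N hN
    rcases hprime with h | h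
    · left
      rw [h] at hN
      exact le_bot_iff.1 hN
    · have : Fact (Nat.card ↥Z).Prime := ⟨h⟩
      rcases Subgroup.eq_bot_or_eq_top_of_prime_card (N.subgroupOf Z) with h1 | h1
      · left
        rw [subgroupOf_eq_bot, disjoint_iff, inf_eq_left.2 hN] at h1
        exact h1
      · right
        rw [subgroupOf_eq_top] at h1
        exact le_antisymm hN h1

end gen

section fin

variable {G : Type} [Group G] [Finite G] {Z X : Subgroup G} {p m : ℕ}

/-- **an overgroup `K` of `X`: `K = G`, or `K` normalises `X`, or `Z ≠ 1` and `K` normalises `Z`** -/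
theorem ovr (H : Hyp Z X) (hp : p.Prime) (hpX : p ∣ Nat.card ↥X) (hpZ : ¬ p ∣ Nat.card ↥Z)
    (hm : Nat.card G * Nat.card ↥Z = m * Nat.card ↥X) (har : Ar p m) (hO : Only (Nat.card ↥X) (Nat.card G))
    {K : Subgroup G} (hXK : X ≤ K) :
    K = ⊤ ∨ (∀ k ∈ K, ∀ x ∈ X, k * x * k⁻¹ ∈ X) ∨ (Z ≠ ⊥ ∧ ∀ k ∈ K, ∀ z ∈ Z, k * z * k⁻¹ ∈ Z) := by
  have : Fact p.Prime := ⟨hp⟩
  by_cases h0 : Z ≠ ⊥ ∧ ∀ k ∈ K, ∀ z ∈ Z, k * z * k⁻¹ ∈ Z
  · exact Or.inr (Or.inr h0)
  obtain ⟨N, hXN, hNK, hN, hs⟩ := simple_closure H (fun N hN => dich H hpX hpZ hm har hN) hXK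
    (fun h1 h2 => h0 ⟨h1, h2⟩)
  have hna : ¬ ∀ a b : ↥N, a * b = b * a := by
    intro h
    apply H.ne
    intro x hx
    apply H.cent
    intro y hy
    exact congrArg Subtype.val (h ⟨x, hXN hx⟩ ⟨y, hXN hy⟩)
  rcases hO ↥N hna (card_dvd_of_le hXN) (card_subgroup_dvd_card N) with h1 | h1
  · right; left
    have h2 : X = N := eq_of_le_of_card_ge hXN h1.le
    rw [h2]
    exact hN
  · left
    have h2 : N = ⊤ := eq_top_of_card_eq N h1
    rw [h2] at hNK
    exact top_le_iff.1 hNK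

/-- the overgroups normalise `Z` -/
theorem ovr' (H : Hyp Z X) (hp : p.Prime) (hpX : p ∣ Nat.card ↥X) (hpZ : ¬ p ∣ Nat.card ↥Z)
    (hcen : ∀ z ∈ Z, ∀ x ∈ X, z * x = x * z)
    (hm : Nat.card G * Nat.card ↥Z = m * Nat.card ↥X) (har : Ar p m) (hO : Only (Nat.card ↥X) (Nat.card G))
    {K : Subgroup G} (hXK : X ≤ K) (hK : K ≠ ⊤) : ∀ k ∈ K, ∀ z ∈ Z, k * z * k⁻¹ ∈ Z := by
  rcases ovr H hp hpX hpZ hm har hO hXK with h | h | h
  · exact absurd h hK
  · intro k hk z hz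
    apply H.cent
    intro x hx
    have h1 : k⁻¹ * x * k ∈ X := by
      have := h k⁻¹ (K.inv_mem hk) x hx
      rwa [inv_inv] at this
    have h2 := hcen z hz _ h1
    calc k * z * k⁻¹ * x = k * (z * (k⁻¹ * x * k)) * k⁻¹ := by group
      _ = k * ((k⁻¹ * x * k) * z) * k⁻¹ := by rw [h2]
      _ = x * (k * z * k⁻¹) := by group
  · exact h.2

/-- **`CL G` from `X` quasisimple with centre `Z` of prime order** -/
theorem cl_double [IsSimpleGroup G] (H : Hyp Z X) (hp : p.Prime) (hpX : p ∣ Nat.card ↥X) (hpZ : ¬ p ∣ Nat.card ↥Z)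
    (hcen : ∀ z ∈ Z, ∀ x ∈ X, z * x = x * z)
    (hm : Nat.card G * Nat.card ↥Z = m * Nat.card ↥X) (har : Ar p m) (hO : Only (Nat.card ↥X) (Nat.card G))
    (hZ : (Nat.card ↥Z).Prime) (hint : Int Z X) : CL G := by
  have hZt : ¬ ∀ g : G, ∀ z ∈ Z, g * z * g⁻¹ ∈ Z := by
    intro h
    have hn : Z.Normal := ⟨fun z hz g => h g z hz⟩
    rcases hn.eq_bot_or_eq_top with h1 | h1
    · rw [h1, card_bot] at hZ
      exact Nat.not_prime_one hZ
    · exact H.ne (by rw [h1]; exact le_top)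
  refine crit_prime (M := normalizer (Z : Set G)) H.le hint ?_ hZ (fun m hm t ht => ?_) fun Y hXY hY => ?_
  · intro h
    apply hZt
    intro g z hz
    have : g ∈ normalizer (Z : Set G) := by rw [h]; trivial
    exact (mem_normalizer_iff.1 this z).1 hz
  · exact (mem_normalizer_iff.1 hm t).1 ht
  · have h1 := ovr' H hp hpX hpZ hcen hm har hO hXY hY
    intro k hk
    rw [mem_normalizer_iff]
    intro z
    refine ⟨fun hz => h1 k hk z hz, fun hz => ?_⟩
    have h2 := h1 k⁻¹ (Y.inv_mem hk) _ hz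
    have e : k⁻¹ * (k * z * k⁻¹) * k⁻¹⁻¹ = z := by group
    rwa [e] at h2

end fin

end Cfsg.Agent.H819.OverCL
end

-- part: H819/FourQuot
section
set_option linter.all false
open scoped Cfsg.Agent.FastGrp

/-!
# The double cover `C(t, a) / ⟨t⟩` in `C(t) / ⟨t⟩` (helper819)

`FourGroup.Data t a u v π` in a group `G`, `π : C(t, a) → E` onto a nonabelian simple group, `f : C(t) → B` onto with
kernel `⟨t⟩`: the image `X` of `C(t, a)` in `B` is a perfect double cover of `E` with centralizer `⟨f a⟩`.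
-/

set_option autoImplicit false

namespace Cfsg.Agent.H819.FourQuot

open Subgroup Cfsg.Agent.H849.FourGroup Cfsg.Agent.H819.OverG Cfsg.Agent.H819.OverCL
open scoped commutatorElement

universe u v w

variable {G : Type u} {E : Type v} {B : Type w} [Group G] [Group E] [Group B] {t a y z : G}
  {π : centralizer ({t, a} : Set G) →* E}

set_option quotPrecheck false in
local notation "C" => centralizer (insert t (singleton a) : Set G)

/-- `C(t, a)` is perfect -/
theorem perfect (D : Data t a y z π) [IsSimpleGroup E] (hna : ∃ a b : E, a * b ≠ b * a) :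
    _root_.commutator (centralizer ({t, a} : Set G)) = ⊤ := by
  have htC : t ∈ C := mem_cent.2 ⟨rfl, D.ta⟩
  have haC : a ∈ C := mem_cent.2 ⟨D.ta.symm, rfl⟩
  -- conjugation by `u`
  have hu : ∀ g : C, y * (g : G) * y⁻¹ ∈ C := by
    intro g
    obtain ⟨h1, h2⟩ := mem_cent.1 g.2
    refine mem_cent.2 ⟨?_, ?_⟩
    · have e : t = y * a * y⁻¹ := D.ua.symm
      calc y * g * y⁻¹ * t = y * g * y⁻¹ * (y * a * y⁻¹) := by rw [← e]
        _ = y * (g * a) * y⁻¹ := by group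
        _ = y * (a * g) * y⁻¹ := by rw [h2]
        _ = (y * a * y⁻¹) * (y * g * y⁻¹) := by group
        _ = t * (y * g * y⁻¹) := by rw [← e]
    · have e : a = y * t * y⁻¹ := D.ut.symm
      calc y * g * y⁻¹ * a = y * g * y⁻¹ * (y * t * y⁻¹) := by rw [← e]
        _ = y * (g * t) * y⁻¹ := by group
        _ = y * (t * g) * y⁻¹ := by rw [h1]
        _ = (y * t * y⁻¹) * (y * g * y⁻¹) := by group
        _ = a * (y * g * y⁻¹) := by rw [← e]
  let φ : C →* C :=
    { toFun := fun g => ⟨y * (g : G) * y⁻¹, hu g⟩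
      map_one' := Subtype.ext (by simp)
      map_mul' := fun a b => Subtype.ext (by simp [mul_assoc]) }
  have ht : (⟨t, htC⟩ : C) ∈ _root_.commutator C := D.comm htC
  have ha : (⟨a, haC⟩ : C) ∈ _root_.commutator C := by
    have h1 := map_comm_le φ ht
    have h2 : φ ⟨t, htC⟩ = ⟨a, haC⟩ := Subtype.ext D.ut
    rwa [h2] at h1
  have hker : ∀ g : C, π g = 1 → g ∈ _root_.commutator C := by
    intro g hg
    rcases (D.ker g).1 hg with h | h | h | h
    · have : g = 1 := Subtype.ext h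
      rw [this]; exact one_mem _
    · have : g = ⟨t, htC⟩ := Subtype.ext h
      rw [this]; exact ht
    · have : g = ⟨a, haC⟩ := Subtype.ext h
      rw [this]; exact ha
    · have : g = ⟨t, htC⟩ * ⟨a, haC⟩ := Subtype.ext h
      rw [this]; exact mul_mem ht ha
  have hmap : (_root_.commutator C).map π = ⊤ := by
    have hn : ((_root_.commutator C).map π).Normal := Subgroup.Normal.map inferInstance π D.surj
    rcases hn.eq_bot_or_eq_top with h2 | h2
    · exfalso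
      obtain ⟨c, d, hcd⟩ := hna
      obtain ⟨x, rfl⟩ := D.surj c
      obtain ⟨x', rfl⟩ := D.surj d
      have h3 : π ⁅x, x'⁆ ∈ (_root_.commutator C).map π :=
        ⟨_, Subgroup.commutator_mem_commutator (Subgroup.mem_top x) (Subgroup.mem_top x'), rfl⟩
      rw [h2, Subgroup.mem_bot, map_commutatorElement, commutatorElement_eq_one_iff_mul_comm] at h3
      exact hcd h3
    · exact h2
  rw [eq_top_iff]
  intro x _
  have h1 : π x ∈ (_root_.commutator C).map π := by rw [hmap]; trivial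
  obtain ⟨c, hc, hcx⟩ := h1
  have h2 := hker (c⁻¹ * x) (by rw [map_mul, map_inv, hcx, inv_mul_cancel])
  have h3 := mul_mem hc h2
  rwa [mul_inv_cancel_left] at h3

/-- a homomorphism that kills the kernel factors -/
theorem exists_factor {A A' E : Type*} [Group A] [Group A'] [Group E] {ρ : A →* A'} (hρ : Function.Surjective ρ)
    (π : A →* E) (h : ∀ x, ρ x = 1 → π x = 1) : ∃ σ : A' →* E, ∀ x, σ (ρ x) = π x := by
  choose s hs using hρ
  have key : ∀ x x', ρ x = ρ x' → π x = π x' := by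
    intro x x' hx
    have h1 : ρ (x * x'⁻¹) = 1 := by rw [map_mul, map_inv, hx, mul_inv_cancel]
    have h2 := h _ h1
    rwa [map_mul, map_inv, mul_inv_eq_one] at h2
  refine ⟨{ toFun := fun c => π (s c), map_one' := ?_, map_mul' := fun c d => ?_ }, fun x => key _ _ (hs _)⟩
  · exact h _ (hs 1)
  · rw [← map_mul]
    exact key _ _ (by rw [map_mul, hs, hs, hs])

/-- **the double cover in `B`** -/
theorem main (D : Data t a y z π) [IsSimpleGroup E] (hna : ∃ a b : E, a * b ≠ b * a)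
    {f : centralizer ({t} : Set G) →* B} (hf : Function.Surjective f)
    (hk : ∀ x : centralizer ({t} : Set G), f x = 1 ↔ (x : G) = 1 ∨ (x : G) = t) :
    ∃ Z X : Subgroup B, Hyp Z X ∧ Nat.card ↥Z = 2 ∧ (∀ z ∈ Z, ∀ x ∈ X, z * x = x * z) ∧
      ∃ σ : ↥X →* E, Function.Surjective σ ∧ (∀ x : ↥X, σ x = 1 ↔ (x : B) ∈ Z) := by
  have htC : t ∈ C := mem_cent.2 ⟨rfl, D.ta⟩
  have haC : a ∈ C := mem_cent.2 ⟨D.ta.symm, rfl⟩
  have hle : C ≤ centralizer ({t} : Set G) := centralizer_le (by simp)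
  let i : C →* centralizer ({t} : Set G) := inclusion hle
  let ρ : C →* B := f.comp i
  have hρ : ∀ x : C, ρ x = 1 ↔ (x : G) = 1 ∨ (x : G) = t := fun x => hk (i x)
  let X : Subgroup B := ρ.range
  let ρ' : C →* X := ρ.rangeRestrict
  have hρs : Function.Surjective ρ' := ρ.rangeRestrict_surjective
  have hρ1 : ∀ x : C, ρ' x = 1 ↔ ρ x = 1 := fun x => by
    rw [Subtype.ext_iff]; rfl
  let b : B := ρ ⟨a, haC⟩
  have hb1 : b ≠ 1 := by
    intro h
    rcases (hρ _).1 h with h1 | h1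
    · exact D.a1 h1
    · exact D.ne h1.symm
  have hbb : b * b = 1 := by
    rw [← map_mul]
    have : (⟨a, haC⟩ : C) * ⟨a, haC⟩ = 1 := Subtype.ext D.aa
    rw [this, map_one]
  have hob : orderOf b = 2 := orderOf_eq_prime (by rw [pow_two, hbb]) hb1
  have hZ2 : Nat.card ↥(zpowers b) = 2 := by rw [Nat.card_zpowers, hob]
  have hZm : ∀ c : B, c ∈ zpowers b ↔ c = 1 ∨ c = b := by
    intro c
    constructor
    · intro hc
      obtain ⟨k, rfl⟩ := hc
      have hb2 : b ^ (2 : ℤ) = 1 := by rw [zpow_two, hbb]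
      rcases Int.even_or_odd' k with ⟨j, rfl | rfl⟩
      · left
        show b ^ (2 * j) = 1
        rw [zpow_mul, hb2, one_zpow]
      · right
        show b ^ (2 * j + 1) = b
        rw [zpow_add, zpow_mul, hb2, one_zpow, one_mul, zpow_one]
    · rintro (rfl | rfl)
      · exact one_mem _
      · exact mem_zpowers _
  have hZX : zpowers b ≤ X := by
    rw [zpowers_le]
    exact ⟨_, rfl⟩
  have hbx : ∀ x ∈ X, b * x = x * b := by
    rintro _ ⟨c, rfl⟩
    rw [← map_mul, ← map_mul]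
    congr 1
    exact Subtype.ext (mem_cent.1 c.2).2.symm
  have hcen : ∀ z ∈ zpowers b, ∀ x ∈ X, z * x = x * z := by
    intro z hz x hx
    rcases (hZm z).1 hz with rfl | rfl
    · rw [one_mul, mul_one]
    · exact hbx x hx
  obtain ⟨σ, hσ⟩ := exists_factor hρs π (fun x hx => by
    rw [hρ1, hρ] at hx
    rw [D.ker]
    rcases hx with h | h
    · exact Or.inl h
    · exact Or.inr (Or.inl h))
  have hσs : Function.Surjective σ := by
    intro e
    obtain ⟨x, rfl⟩ := D.surj e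
    exact ⟨ρ' x, hσ x⟩
  have hρt : ρ ⟨t, htC⟩ = 1 := (hρ _).2 (Or.inr rfl)
  have hσk : ∀ x : ↥X, σ x = 1 ↔ (x : B) ∈ zpowers b := by
    intro x
    obtain ⟨c, rfl⟩ := hρs x
    rw [hσ, D.ker, hZm]
    have e1 : ((ρ' c : ↥X) : B) = ρ c := rfl
    rw [e1]
    constructor
    · rintro (h | h | h | h)
      · left; rw [hρ]; exact Or.inl h
      · left; rw [hρ]; exact Or.inr h
      · right
        have : c = ⟨a, haC⟩ := Subtype.ext h
        rw [this]
      · right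
        have : c = ⟨t, htC⟩ * ⟨a, haC⟩ := Subtype.ext h
        rw [this, map_mul, hρt, one_mul]
    · rintro (h | h)
      · rcases (hρ c).1 h with h | h
        · exact Or.inl h
        · exact Or.inr (Or.inl h)
      · have h1 : ρ (c * ⟨a, haC⟩) = 1 := by rw [map_mul, h]; exact hbb
        rcases (hρ _).1 h1 with h2 | h2
        · have h3 : (c : G) * a = 1 := h2
          right; right; left
          calc (c : G) = c * a * a := by rw [mul_assoc, D.aa, mul_one]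
            _ = a := by rw [h3, one_mul]
        · have h3 : (c : G) * a = t := h2
          right; right; right
          calc (c : G) = c * a * a := by rw [mul_assoc, D.aa, mul_one]
            _ = t * a := by rw [h3]
  have hperfC := perfect D hna
  have hperf : _root_.commutator ↥X = ⊤ := by
    rw [eq_top_iff]
    intro x _
    obtain ⟨c, rfl⟩ := hρs x
    exact map_comm_le ρ' (by rw [hperfC]; trivial)
  have hE : ∀ e : E, (∀ e', e * e' = e' * e) → e = 1 := by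
    intro e he
    have h1 : e ∈ center E := mem_center_iff.2 fun g => (he g).symm
    rcases (inferInstance : (center E).Normal).eq_bot_or_eq_top with h2 | h2
    · rwa [h2, mem_bot] at h1
    · exfalso
      obtain ⟨c, d, hcd⟩ := hna
      apply hcd
      have h3 : c ∈ center E := by rw [h2]; trivial
      exact (mem_center_iff.1 h3 d).symm
  refine ⟨zpowers b, X, hyp_of_cover hZX hna σ hσs hσk hperf hcen ?_ (Or.inr (by rw [hZ2]; exact Nat.prime_two)), hZ2,
    hcen, σ, hσs, hσk⟩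
  intro g hg
  obtain ⟨c, rfl⟩ := hf g
  -- `c` centralises `C`
  have hct : ∀ x : C, ∃ δ : G, (δ = 1 ∨ δ = t) ∧ (c : G) * x * (c : G)⁻¹ = δ * x := by
    intro x
    have h1 : f c * ρ x = ρ x * f c := hg _ ⟨x, rfl⟩
    have h2 : f (c * i x * c⁻¹ * (i x)⁻¹) = 1 := by
      rw [map_mul, map_mul, map_mul, map_inv, map_inv]
      show f c * ρ x * (f c)⁻¹ * (ρ x)⁻¹ = 1
      rw [h1]; group
    refine ⟨(c : G) * x * (c : G)⁻¹ * (x : G)⁻¹, (hk _).1 h2, by group⟩
  have hδ : ∀ δ : G, (δ = 1 ∨ δ = t) → ∀ x : C, δ * x = x * δ := by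
    rintro δ (rfl | rfl) x
    · rw [one_mul, mul_one]
    · exact (mem_cent.1 x.2).1.symm
  let S : Subgroup C :=
    { carrier := {x | (c : G) * x * (c : G)⁻¹ = x}
      mul_mem' := fun {x x'} hx hx' => by
        have h1 : (c : G) * x * (c : G)⁻¹ = x := hx
        have h2 : (c : G) * x' * (c : G)⁻¹ = x' := hx'
        show (c : G) * ((x : G) * x') * (c : G)⁻¹ = x * x'
        calc (c : G) * ((x : G) * x') * (c : G)⁻¹ = ((c : G) * x * (c : G)⁻¹) * ((c : G) * x' * (c : G)⁻¹) := by group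
          _ = x * x' := by rw [h1, h2]
      one_mem' := by show (c : G) * 1 * (c : G)⁻¹ = 1; group
      inv_mem' := fun {x} hx => by
        have h1 : (c : G) * x * (c : G)⁻¹ = x := hx
        show (c : G) * (x : G)⁻¹ * (c : G)⁻¹ = (x : G)⁻¹
        calc (c : G) * (x : G)⁻¹ * (c : G)⁻¹ = ((c : G) * x * (c : G)⁻¹)⁻¹ := by group
          _ = (x : G)⁻¹ := by rw [h1] }
  have hS : _root_.commutator C ≤ S := by
    rw [_root_.commutator_def, Subgroup.commutator_le]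
    intro x _ x' _
    obtain ⟨δ, hδ1, h1⟩ := hct x
    obtain ⟨δ', hδ1', h2⟩ := hct x'
    have e1 := hδ δ hδ1
    have e2 := hδ δ' hδ1'
    show (c : G) * (⁅x, x'⁆ : C) * (c : G)⁻¹ = (⁅x, x'⁆ : C)
    have h3 : ((⁅x, x'⁆ : C) : G) = x * x' * (x : G)⁻¹ * (x' : G)⁻¹ := rfl
    rw [h3]
    have f1 : (x : G)⁻¹ * δ⁻¹ = δ⁻¹ * (x : G)⁻¹ := by
      have := congrArg (fun w => w⁻¹) (e1 x)
      simpa [mul_inv_rev] using this
    calc (c : G) * (x * x' * (x : G)⁻¹ * (x' : G)⁻¹) * (c : G)⁻¹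
        = ((c : G) * x * (c : G)⁻¹) * ((c : G) * x' * (c : G)⁻¹) * ((c : G) * x * (c : G)⁻¹)⁻¹ *
          ((c : G) * x' * (c : G)⁻¹)⁻¹ := by group
      _ = (δ * x) * (δ' * x') * (δ * x)⁻¹ * (δ' * x')⁻¹ := by rw [h1, h2]
      _ = x * x' * (x : G)⁻¹ * (x' : G)⁻¹ := by
          rw [e1 x, e2 x', mul_inv_rev, mul_inv_rev]
          have hδδ : δ * (x' * δ') * δ⁻¹ = x' * δ' := by
            have h5 : δ * (x' : G) = x' * δ := e1 x'
            have h6 : δ * δ' = δ' * δ := by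
              rcases hδ1 with rfl | rfl
              · rw [one_mul, mul_one]
              · rcases hδ1' with rfl | rfl
                · rw [one_mul, mul_one]
                · rfl
            calc δ * (x' * δ') * δ⁻¹ = (δ * x') * δ' * δ⁻¹ := by group
              _ = x' * (δ * δ') * δ⁻¹ := by rw [h5]; group
              _ = x' * (δ' * δ) * δ⁻¹ := by rw [h6]
              _ = x' * δ' := by group
          have hδx : δ' * (x : G)⁻¹ = (x : G)⁻¹ * δ' := by
            have h7 := e2 x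
            calc δ' * (x : G)⁻¹ = (x : G)⁻¹ * (x * δ') * (x : G)⁻¹ := by group
              _ = (x : G)⁻¹ * (δ' * x) * (x : G)⁻¹ := by rw [h7]
              _ = (x : G)⁻¹ * δ' := by group
          calc x * δ * (x' * δ') * (δ⁻¹ * (x : G)⁻¹) * (δ'⁻¹ * (x' : G)⁻¹)
              = x * (δ * (x' * δ') * δ⁻¹) * (x : G)⁻¹ * δ'⁻¹ * (x' : G)⁻¹ := by group
            _ = x * (x' * δ') * (x : G)⁻¹ * δ'⁻¹ * (x' : G)⁻¹ := by rw [hδδ]
            _ = x * x' * (δ' * (x : G)⁻¹) * δ'⁻¹ * (x' : G)⁻¹ := by group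
            _ = x * x' * ((x : G)⁻¹ * δ') * δ'⁻¹ * (x' : G)⁻¹ := by rw [hδx]
            _ = x * x' * (x : G)⁻¹ * (x' : G)⁻¹ := by group
  have hcomm : ∀ x : C, (c : G) * x = x * c := by
    intro x
    have h1 : x ∈ S := hS (by rw [hperfC]; trivial)
    have h2 : (c : G) * x * (c : G)⁻¹ = x := h1
    calc (c : G) * x = (c : G) * x * (c : G)⁻¹ * c := by group
      _ = x * c := by rw [h2]
  have hcC : (c : G) ∈ C := mem_cent.2 ⟨hcomm ⟨t, htC⟩, hcomm ⟨a, haC⟩⟩
  have hπc : π ⟨c, hcC⟩ = 1 := by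
    apply hE
    intro e
    obtain ⟨x, rfl⟩ := D.surj e
    rw [← map_mul, ← map_mul]
    congr 1
    exact Subtype.ext (hcomm x)
  have h5 : ρ ⟨c, hcC⟩ = f c := rfl
  rw [← h5]
  have h6 := (hσk (ρ' ⟨c, hcC⟩)).1 (by rw [hσ]; exact hπc)
  exact h6

end Cfsg.Agent.H819.FourQuot
end

-- part: H819/CoverCL
section
set_option linter.all false
open scoped Cfsg.Agent.FastGrp

/-!
# Complemented subgroup lattices: groups with an involution centralizer that is a double cover (helper819, S5900)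
-/

set_option autoImplicit false

namespace Cfsg.Agent.H819.CoverCL

open Subgroup Cfsg Cfsg.Agent.H939.KLat Cfsg.Agent.H819.OverG Cfsg.Agent.H680.Over Cfsg.Agent.H819.OverCL
open Cfsg.Agent.H849.FourGroup
open scoped commutatorElement

theorem mem_zp {G : Type*} [Group G] {y : G} (hy : orderOf y = 2) (c : G) : c ∈ zpowers y ↔ c = 1 ∨ c = y := by
  have hyy : y ^ (2 : ℤ) = 1 := by
    have := pow_orderOf_eq_one y
    rw [hy] at this
    rw [zpow_ofNat]
    exact this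
  constructor
  · rintro ⟨k, rfl⟩
    rcases Int.even_or_odd' k with ⟨j, rfl | rfl⟩
    · left
      show y ^ (2 * j) = 1
      rw [zpow_mul, hyy, one_zpow]
    · right
      show y ^ (2 * j + 1) = y
      rw [zpow_add, zpow_mul, hyy, one_zpow, one_mul, zpow_one]
  · rintro (rfl | rfl)
    · exact one_mem _
    · exact mem_zpowers _

/-- the central quotient of an involution centralizer that is a double cover -/
theorem exists_hom {G : Type*} [Group G] [Finite G] {t : G} (ht : orderOf t = 2) {K : Type*} [Group K]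
    (h : IsNonsplitDoubleCover ↥(centralizer ({t} : Set G)) K) :
    ∃ f : ↥(centralizer ({t} : Set G)) →* K, Function.Surjective f ∧ ∀ x, f x = 1 ↔ (x : G) = 1 ∨ (x : G) = t := by
  obtain ⟨hc, ⟨e⟩, -⟩ := h
  refine ⟨e.toMonoidHom.comp (QuotientGroup.mk' (center ↥(centralizer ({t} : Set G)))),
    e.surjective.comp (QuotientGroup.mk'_surjective _), ?_⟩
  have hmem : t ∈ centralizer ({t} : Set G) := mem_centralizer_singleton_iff.2 rfl
  have htZ : (⟨t, hmem⟩ : centralizer ({t} : Set G)) ∈ center ↥(centralizer ({t} : Set G)) := by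
    rw [Subgroup.mem_center_iff]
    intro c
    exact Subtype.ext (mem_centralizer_singleton_iff.1 c.2)
  have ho : orderOf (⟨t, hmem⟩ : centralizer ({t} : Set G)) = 2 := by rw [Subgroup.orderOf_mk, ht]
  have hZt : zpowers (⟨t, hmem⟩ : centralizer ({t} : Set G)) = center ↥(centralizer ({t} : Set G)) := by
    apply Subgroup.eq_of_le_of_card_ge ((zpowers_le).2 htZ)
    rw [Nat.card_zpowers, ho, hc]
  intro x
  show e (QuotientGroup.mk x) = 1 ↔ _
  rw [map_eq_one_iff e e.injective, QuotientGroup.eq_one_iff, ← hZt, mem_zp ho]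
  constructor
  · rintro (hx | hx)
    · left; rw [hx]; rfl
    · right; rw [hx]
  · rintro (hx | hx)
    · exact Or.inl (Subtype.ext hx)
    · exact Or.inr (Subtype.ext hx)

theorem ker_eq {A B : Type*} [Group A] [Group B] {Z X : Subgroup A} {σ : ↥X →* B}
    (hk : ∀ x : ↥X, σ x = 1 ↔ (x : A) ∈ Z) : σ.ker = Z.subgroupOf X := by
  ext x
  rw [MonoidHom.mem_ker, hk, mem_subgroupOf]

theorem card_of {A B : Type*} [Group A] [Group B] {Z X : Subgroup A} (hZX : Z ≤ X) {σ : ↥X →* B}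
    (hs : Function.Surjective σ) (hk : ∀ x : ↥X, σ x = 1 ↔ (x : A) ∈ Z) : Nat.card ↥X = Nat.card ↥Z * Nat.card B := by
  have h2 := card_mul_index (Z.subgroupOf X)
  rw [Nat.card_congr (subgroupOfEquivOfLe hZX).toEquiv, ← ker_eq hk, index_ker, MonoidHom.range_eq_top.2 hs,
    card_top] at h2
  exact h2.symm

/-- A nonsplit double cover of a nonabelian simple group is perfect. -/
theorem perfect_of_cover {H K : Type*} [Group H] [Group K] [IsSimpleGroup K] (hna : ∃ a b : K, a * b ≠ b * a)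
    (h : IsNonsplitDoubleCover H K) : _root_.commutator H = ⊤ := by
  obtain ⟨hc, ⟨e⟩, hns⟩ := h
  let f : H →* K := e.toMonoidHom.comp (QuotientGroup.mk' (center H))
  have hf : Function.Surjective f := e.surjective.comp (QuotientGroup.mk'_surjective _)
  have hk : ∀ x, f x = 1 ↔ x ∈ center H := by
    intro x
    show e (QuotientGroup.mk x) = 1 ↔ _
    rw [map_eq_one_iff e e.injective, QuotientGroup.eq_one_iff]
  have h1 : (_root_.commutator H).map f = ⊤ := by
    have hn : ((_root_.commutator H).map f).Normal := Subgroup.Normal.map inferInstance f hf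
    rcases hn.eq_bot_or_eq_top with h2 | h2
    · exfalso
      obtain ⟨a, b, hab⟩ := hna
      obtain ⟨x, rfl⟩ := hf a
      obtain ⟨y, rfl⟩ := hf b
      have h3 : f ⁅x, y⁆ ∈ (_root_.commutator H).map f :=
        ⟨_, Subgroup.commutator_mem_commutator (Subgroup.mem_top x) (Subgroup.mem_top y), rfl⟩
      rw [h2, Subgroup.mem_bot, map_commutatorElement, commutatorElement_eq_one_iff_mul_comm] at h3
      exact hab h3
    · exact h2
  have h2 : _root_.commutator H ⊔ center H = ⊤ := by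
    rw [eq_top_iff]
    intro x _
    have h3 : f x ∈ (_root_.commutator H).map f := by rw [h1]; trivial
    obtain ⟨y, hy, hyx⟩ := h3
    have h4 : y⁻¹ * x ∈ center H := by
      rw [← hk, map_mul, map_inv, hyx, inv_mul_cancel]
    have h5 : x = y * (y⁻¹ * x) := by group
    rw [h5]
    exact Subgroup.mul_mem_sup hy h4
  by_cases h3 : center H ≤ _root_.commutator H
  · rwa [sup_eq_left.2 h3] at h2
  · exfalso
    apply hns (_root_.commutator H)
    have h4 : center H ⊓ _root_.commutator H = ⊥ := by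
      have : Finite ↥(center H) := Nat.finite_of_card_ne_zero (by rw [hc]; norm_num)
      have h5 : Nat.card ↥(center H ⊓ _root_.commutator H) ∣ 2 := by
        rw [← hc]
        exact Subgroup.card_dvd_of_le inf_le_left
      rcases (Nat.dvd_prime Nat.prime_two).1 h5 with h6 | h6
      · exact Subgroup.card_eq_one.1 h6
      · exfalso
        apply h3
        have h7 : center H ⊓ _root_.commutator H = center H := by
          apply Subgroup.eq_of_le_of_card_ge inf_le_left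
          rw [h6, hc]
        rw [← h7]
        exact inf_le_right
    refine Subgroup.isComplement'_of_disjoint_and_mul_eq_univ (disjoint_iff.2 h4) ?_
    rw [← Subgroup.normal_mul, sup_comm, h2]
    rfl

/-- **`CL G` from an involution centralizer that is a nonsplit double cover of a simple group** -/
theorem cl_of_cent {G : Type} [Group G] [Finite G] [IsSimpleGroup G] {y : G} (hy : orderOf y = 2) {K : Type*} [Group K]
    [IsSimpleGroup K] (hna : ∃ a b : K, a * b ≠ b * a)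
    (hcov : IsNonsplitDoubleCover ↥(centralizer ({y} : Set G)) K) (hCL : CL K) {p m n N : ℕ} (hp : p.Prime)
    (hp2 : p ≠ 2) (hK : Nat.card K = n) (hN : Nat.card G = N) (hpn : p ∣ n) (hm : N = m * n) (har : Ar p m)
    (hO : Only (2 * n) N) : CL G := by
  obtain ⟨f, hf, hk⟩ := exists_hom hy hcov
  have hperf := perfect_of_cover hna hcov
  have hZX : zpowers y ≤ centralizer ({y} : Set G) := (zpowers_le).2 (mem_centralizer_singleton_iff.2 rfl)
  have hZ2 : Nat.card ↥(zpowers y) = 2 := by rw [Nat.card_zpowers, hy]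
  have hk' : ∀ x : centralizer ({y} : Set G), f x = 1 ↔ (x : G) ∈ zpowers y := fun x => by
    rw [hk, mem_zp hy]
  have hcen : ∀ z ∈ zpowers y, ∀ x ∈ centralizer ({y} : Set G), z * x = x * z := by
    intro z hz x hx
    rcases (mem_zp hy z).1 hz with rfl | rfl
    · rw [one_mul, mul_one]
    · exact (mem_centralizer_singleton_iff.1 hx).symm
  have hc : ∀ g : G, (∀ x ∈ centralizer ({y} : Set G), g * x = x * g) → g ∈ zpowers y := by
    intro g hg
    have hgC : g ∈ centralizer ({y} : Set G) :=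
      mem_centralizer_singleton_iff.2 (hg y (mem_centralizer_singleton_iff.2 rfl))
    have h1 : (⟨g, hgC⟩ : centralizer ({y} : Set G)) ∈ center (centralizer ({y} : Set G)) := by
      rw [Subgroup.mem_center_iff]
      intro c
      exact Subtype.ext (hg c c.2).symm
    have h2 : zpowers y = (center (centralizer ({y} : Set G))).map (centralizer ({y} : Set G)).subtype := by
      apply Subgroup.eq_of_le_of_card_ge
      · rw [Subgroup.zpowers_le]
        refine ⟨⟨y, mem_centralizer_singleton_iff.2 rfl⟩, ?_, rfl⟩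
        rw [SetLike.mem_coe, Subgroup.mem_center_iff]
        intro c
        exact Subtype.ext (mem_centralizer_singleton_iff.1 c.2)
      · rw [hZ2, ← Nat.card_congr ((Subgroup.center ↥(centralizer ({y} : Set G))).equivMapOfInjective _
          (Subgroup.subtype_injective _)).toEquiv, hcov.1]
    rw [h2]
    exact ⟨_, h1, rfl⟩
  have H := hyp_of_cover hZX hna f hf hk' hperf hcen hc (Or.inr (by rw [hZ2]; exact Nat.prime_two))
  have hX : Nat.card ↥(centralizer ({y} : Set G)) = 2 * n := by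
    rw [card_of hZX hf hk', hZ2, hK]
  refine cl_double H (p := p) (m := m) hp (by rw [hX]; exact Dvd.dvd.mul_left hpn 2) ?_ hcen
    (by rw [hN, hX, hZ2, hm]; ring) har (by rw [hX, hN]; exact hO) (by rw [hZ2]; exact Nat.prime_two)
    (int_of_surj hZX f hf (ker_eq hk') hCL)
  rw [hZ2]
  exact fun h => hp2 ((Nat.prime_dvd_prime_iff_eq hp Nat.prime_two).1 h)

/-- **`CL B` from the four-group data of `G`, `C_G(t)` a double cover of `B`** -/
theorem cl_of_four {G E : Type*} {B : Type} [Group G] [Group E] [Group B] [Finite G] [Finite B] [IsSimpleGroup E]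
    [IsSimpleGroup B] (hna : ∃ a b : E, a * b ≠ b * a) {t a y z : G} {π : centralizer ({t, a} : Set G) →* E}
    (D : Data t a y z π) (ht : orderOf t = 2) (hcov : IsNonsplitDoubleCover ↥(centralizer ({t} : Set G)) B)
    (hCL : CL E) {p m n N : ℕ} (hp : p.Prime) (hp2 : p ≠ 2) (hE : Nat.card E = n) (hB : Nat.card B = N) (hpn : p ∣ n)
    (hm : N = m * n) (har : Ar p m) (hO : Only (2 * n) N) : CL B := by
  obtain ⟨f, hf, hk⟩ := exists_hom ht hcov
  obtain ⟨Z, X, H, hZ2, hcen, σ, hσ, hσk⟩ := FourQuot.main D hna hf hk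
  have hX : Nat.card ↥X = 2 * n := by rw [card_of H.le hσ hσk, hZ2, hE]
  refine cl_double H (p := p) (m := m) hp (by rw [hX]; exact Dvd.dvd.mul_left hpn 2) ?_ hcen
    (by rw [hB, hX, hZ2, hm]; ring) har (by rw [hX, hB]; exact hO) (by rw [hZ2]; exact Nat.prime_two)
    (int_of_surj H.le σ hσ (ker_eq hσk) hCL)
  rw [hZ2]
  exact fun h => hp2 ((Nat.prime_dvd_prime_iff_eq hp Nat.prime_two).1 h)

theorem nonab_of {K : Type*} [Group K] [IsSimpleGroup K] (h2 : 2 ∣ Nat.card K) (h3 : 3 ∣ Nat.card K)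
    (h0 : Nat.card K ≠ 0) : ∃ a b : K, a * b ≠ b * a := by
  by_contra hn
  push Not at hn
  have hfin : Finite K := Nat.finite_of_card_ne_zero h0
  have hp : (Nat.card K).Prime := by
    let _ : CommGroup K := { (inferInstance : Group K) with mul_comm := hn }
    exact IsSimpleGroup.prime_card
  have h4 := (Nat.prime_dvd_prime_iff_eq Nat.prime_two hp).1 h2
  have h5 := (Nat.prime_dvd_prime_iff_eq Nat.prime_three hp).1 h3
  omega

end Cfsg.Agent.H819.CoverCL
end

-- part: H819/OverBM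
section
set_option linter.all false
open scoped Cfsg.Agent.FastGrp

/-!
# Complemented subgroup lattices: the Baby Monster and the Monster (helper819, S5900)

`h0 : Kn` is the classification (`fun _ _ _ _ => Cfsg.Agent.S0000.result`).
-/

set_option autoImplicit false

namespace Cfsg.Agent.H819.OverBM

open Subgroup Cfsg Cfsg.Agent.H939.KLat Cfsg.Agent.H819.OverG Cfsg.Agent.H680.Over Cfsg.Agent.H819.OverCL
open Cfsg.Agent.H819.TwoACent (baby simple_B nonab involutions)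
open Cfsg.Agent.H819.CoverCL Cfsg.Agent.H849.FourGroup

private theorem _root_.Cfsg.Agent.KO276a8a0.e0.{ku, kv} {α : Type kv} {M : List α → Sort ku} (φ : ∀ l, M l) {z : M List.nil} {s : ∀ a l, M l → M (List.cons a l)} (h0 : φ List.nil = z) (hs : ∀ a l, φ (List.cons a l) = s a l (φ l)) (l : List α) : φ l = @List.rec α M z s l := List.rec h0 (fun a l ih => (hs a l).trans (congrArg (s a l) ih)) l
private noncomputable def _root_.Cfsg.Agent.KO276a8a0.k1.{ku0} : type_of% @List.all.{ku0} := @(fun x0 x1 x2 => @List.rec.{(ku0+1), ku0} @x0 @(fun x3 => (@x0 → @Bool) → @Bool) @(fun x3 => @Bool.true) @(fun x3 x4 x5 x6 => @Bool.rec.{1} @(fun x7 => @Bool) @Bool.false (@x5 @x6) (@x6 @x3)) @x1 @x2)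
private theorem _root_.Cfsg.Agent.KO276a8a0.e1.{ku0} : @List.all.{ku0} = @_root_.Cfsg.Agent.KO276a8a0.k1.{ku0} := by delta _root_.Cfsg.Agent.KO276a8a0.k1; funext a0 a1 a2; refine (congrFun (_root_.Cfsg.Agent.KO276a8a0.e0 (fun a1 a2 => @List.all.{ku0} a0 a1 a2) ?_ (fun c0 c1 => ?_) a1) a2 :) <;> (rfl')
private noncomputable def _root_.Cfsg.Agent.KO276a8a0.oEq.{ku} (α : Sort ku) (a b : Nat) (f t : α) : α := @Decidable.rec (a = b) (fun _ => α) (fun _ => f) (fun _ => t) (Nat.decEq a b)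
private noncomputable def _root_.Cfsg.Agent.KO276a8a0.k2.{ku} (α : Sort ku) (a b : Nat) (f t : α) : α := @Bool.rec (fun _ => α) f t (Nat.beq a b)
private theorem _root_.Cfsg.Agent.KO276a8a0.e2.{ku} : @_root_.Cfsg.Agent.KO276a8a0.oEq.{ku} = @_root_.Cfsg.Agent.KO276a8a0.k2.{ku} := funext fun α => funext fun a => funext fun b => funext fun f => funext fun t => by delta _root_.Cfsg.Agent.KO276a8a0.oEq _root_.Cfsg.Agent.KO276a8a0.k2; cases h : Nat.beq a b <;> cases Nat.decEq a b <;> rename_i g <;> first | rfl | exact absurd g (Nat.ne_of_beq_eq_false h) | exact absurd (Nat.eq_of_beq_eq_true h) g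
private noncomputable def _root_.Cfsg.Agent.KO276a8a0.k3.{ku0} : type_of% @List.append.{ku0} := @(fun x0 x1 x2 => @List.rec.{(ku0+1), ku0} @x0 @(fun x3 => (@List.{ku0} @x0) → @List.{ku0} @x0) @(fun x3 => @x3) @(fun x3 x4 x5 x6 => @x3 :: (@x5 @x6)) @x1 @x2)
private theorem _root_.Cfsg.Agent.KO276a8a0.e3.{ku0} : @List.append.{ku0} = @_root_.Cfsg.Agent.KO276a8a0.k3.{ku0} := by delta _root_.Cfsg.Agent.KO276a8a0.k3; funext a0 a1 a2; refine (congrFun (_root_.Cfsg.Agent.KO276a8a0.e0 (fun a1 a2 => @List.append.{ku0} a0 a1 a2) ?_ (fun c0 c1 => ?_) a1) a2 :) <;> (rfl')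
private noncomputable def _root_.Cfsg.Agent.KO276a8a0.k4.{ku0} : type_of% @List.flatten.{ku0} := @(fun x0 x1 => @List.rec.{(ku0+1), ku0} (@List.{ku0} @x0) @(fun x2 => @List.{ku0} @x0) [] @(fun x2 x3 x4 => @Cfsg.Agent.KO276a8a0.k3.{ku0} _ @x2 @x4) @x1)
private theorem _root_.Cfsg.Agent.KO276a8a0.e4.{ku0} : @List.flatten.{ku0} = @_root_.Cfsg.Agent.KO276a8a0.k4.{ku0} := by delta _root_.Cfsg.Agent.KO276a8a0.k4; rewrite [← Cfsg.Agent.KO276a8a0.e3.{ku0}]; funext a0 a1; refine (_root_.Cfsg.Agent.KO276a8a0.e0 (fun a1 => @List.flatten.{ku0} a0 a1) ?_ (fun c0 c1 => ?_) a1 :) <;> (rfl')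
private noncomputable def _root_.Cfsg.Agent.KO276a8a0.k5.{ku0, ku1} : type_of% @List.map.{ku0, ku1} := @(fun x0 x1 x2 x3 => @List.rec.{(ku1+1), ku0} @x0 @(fun x4 => @List.{ku1} @x1) [] @(fun x4 x5 x6 => (@x2 @x4) :: @x6) @x3)
private theorem _root_.Cfsg.Agent.KO276a8a0.e5.{ku0, ku1} : @List.map.{ku0, ku1} = @_root_.Cfsg.Agent.KO276a8a0.k5.{ku0, ku1} := by delta _root_.Cfsg.Agent.KO276a8a0.k5; funext a0 a1 a2 a3; refine (_root_.Cfsg.Agent.KO276a8a0.e0 (fun a3 => @List.map.{ku0, ku1} a0 a1 a2 a3) ?_ (fun c0 c1 => ?_) a3 :) <;> (rfl')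
private noncomputable def _root_.Cfsg.Agent.KO276a8a0.oB.{ku} (α : Sort ku) (c : Bool) (f t : α) : α := @Decidable.rec (c = true) (fun _ => α) (fun _ => f) (fun _ => t) (instDecidableEqBool c true)
private noncomputable def _root_.Cfsg.Agent.KO276a8a0.k6.{ku} (α : Sort ku) (c : Bool) (f t : α) : α := @Bool.rec (fun _ => α) f t c
private theorem _root_.Cfsg.Agent.KO276a8a0.e6.{ku} : @_root_.Cfsg.Agent.KO276a8a0.oB.{ku} = @_root_.Cfsg.Agent.KO276a8a0.k6.{ku} := funext fun α => funext fun c => funext fun f => funext fun t => by cases c <;> rfl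
private noncomputable def _root_.Cfsg.Agent.KO276a8a0.k7.{ku0} : type_of% @List.filter.{ku0} := @(fun x0 x1 x2 => @List.rec.{(ku0+1), ku0} @x0 @(fun x3 => @List.{ku0} @x0) [] @(fun x3 x4 x5 => @Bool.rec.{(ku0+1)} @(fun x6 => @List.{ku0} @x0) @x5 (@x3 :: @x5) (@x1 @x3)) @x2)
private theorem _root_.Cfsg.Agent.KO276a8a0.e7.{ku0} : @List.filter.{ku0} = @_root_.Cfsg.Agent.KO276a8a0.k7.{ku0} := by delta _root_.Cfsg.Agent.KO276a8a0.k7; funext a0 a1 a2; refine (_root_.Cfsg.Agent.KO276a8a0.e0 (fun a2 => @List.filter.{ku0} a0 a1 a2) ?_ (fun c0 c1 => ?_) a2 :) <;> (rfl')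
private theorem _root_.Cfsg.Agent.KO276a8a0.e8.{ku} {M : Nat → Sort ku} (φ : ∀ n, M n) {z : M Nat.zero} {s : ∀ n, M n → M (Nat.succ n)} (h0 : φ Nat.zero = z) (hs : ∀ n, φ (Nat.succ n) = s n (φ n)) (n : Nat) : φ n = @Nat.rec M z s n := Nat.rec h0 (fun n ih => (hs n).trans (congrArg (s n) ih)) n
private noncomputable def _root_.Cfsg.Agent.KO276a8a0.k9 : type_of% @Nat.factorial := @(fun x0 => @Nat.rec.{1} @(fun x1 => ℕ) (nat_lit 1) @(fun x1 x2 => @Nat.mul (@Nat.succ @x1) @x2) @x0)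
private theorem _root_.Cfsg.Agent.KO276a8a0.e9 : @Nat.factorial = @_root_.Cfsg.Agent.KO276a8a0.k9 := by delta _root_.Cfsg.Agent.KO276a8a0.k9; funext a0; refine (_root_.Cfsg.Agent.KO276a8a0.e8 (fun a0 => @Nat.factorial a0) ?_ (fun c0 => ?_) a0 :) <;> (rfl')
private noncomputable def _root_.Cfsg.Agent.KO276a8a0.k10 : type_of% @List.range.loop := @(fun x0 x1 => @Nat.rec.{1} @(fun x2 => (@List.{0} ℕ) → @List.{0} ℕ) @(fun x2 => @x2) @(fun x2 x3 x4 => @x3 (@x2 :: @x4)) @x0 @x1)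
private theorem _root_.Cfsg.Agent.KO276a8a0.e10 : @List.range.loop = @_root_.Cfsg.Agent.KO276a8a0.k10 := by delta _root_.Cfsg.Agent.KO276a8a0.k10; funext a0 a1; refine (congrFun (_root_.Cfsg.Agent.KO276a8a0.e8 (fun a0 a1 => @List.range.loop a0 a1) ?_ (fun c0 => ?_) a0) a1 :) <;> (rfl')
private noncomputable def _root_.Cfsg.Agent.KO276a8a0.k11 : (by first | exact type_of% @Cfsg.Agent.OrdDiv.candAlt | exact Unit : Sort _) := by first | (refine @Subtype.val _ (fun g => @Cfsg.Agent.OrdDiv.candAlt = @g) (@Subtype.mk _ _ (@(fun x0 x1 => @Cfsg.Agent.KO276a8a0.k4.{0} _ (@Cfsg.Agent.KO276a8a0.k5.{0, 0} _ _ @(fun x2 => @Cfsg.Agent.KO276a8a0.k6.{1} (@List.{0} ℕ) (@Nat.beq (@Prod.fst.{0, 0} _ _ @x2) (nat_lit 2)) [] (@Cfsg.Agent.KO276a8a0.k7.{0} _ @(fun x3 => @Bool.rec.{1} @(fun x4 => @Bool) @Bool.false (@Cfsg.Agent.KO276a8a0.k2.{1} @Bool (@Nat.mod (@Nat.mul (nat_lit 2) @x1) (@Cfsg.Agent.KO276a8a0.k9 @x3)) (nat_lit 0) @Bool.false @Bool.true)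 (@Nat.ble (nat_lit 5) @x3)) (@Cfsg.Agent.KO276a8a0.k10 (@Nat.add (@Nat.mul (nat_lit 2) (@Prod.snd.{0, 0} _ _ @x2)) (nat_lit 4)) []))) @x0))) ?_); rewrite [← Cfsg.Agent.KO276a8a0.e10, ← Cfsg.Agent.KO276a8a0.e9, ← Cfsg.Agent.KO276a8a0.e2.{1}, ← Cfsg.Agent.KO276a8a0.e7.{0}, ← Cfsg.Agent.KO276a8a0.e6.{1}, ← Cfsg.Agent.KO276a8a0.e5.{0, 0}, ← Cfsg.Agent.KO276a8a0.e4.{0}]; rfl') | exact @Cfsg.Agent.OrdDiv.candAlt | exact ()
private theorem _root_.Cfsg.Agent.KO276a8a0.e11 : (by first | exact @Cfsg.Agent.OrdDiv.candAlt = @_root_.Cfsg.Agent.KO276a8a0.k11 | exact True : Prop) := by first | (delta _root_.Cfsg.Agent.KO276a8a0.k11; exact @Subtype.property _ (fun g => @Cfsg.Agent.OrdDiv.candAlt = @g) _) | rfl | trivial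
private noncomputable def _root_.Cfsg.Agent.KO276a8a0.k12 : (by first | exact type_of% @Cfsg.Agent.OrdDiv.box | exact Unit : Sort _) := by first | (refine @Subtype.val _ (fun g => @Cfsg.Agent.OrdDiv.box = @g) (@Subtype.mk _ _ (@(fun x0 x1 x2 => @Cfsg.Agent.KO276a8a0.k4.{0} _ (@Cfsg.Agent.KO276a8a0.k5.{0, 0} _ _ @(fun x3 => @Cfsg.Agent.KO276a8a0.k4.{0} _ (@Cfsg.Agent.KO276a8a0.k5.{0, 0} _ _ @(fun x4 => @Cfsg.Agent.KO276a8a0.k5.{0, 0} _ _ @(fun x5 => (@x5, @Nat.pow (@Prod.fst.{0, 0} _ _ @x3) (@Nat.add @x4 (nat_lit 1)))) (@Cfsg.Agent.KO276a8a0.k7.{0} _ @(fun x5 => @Bool.rec.{1} @(fun x6 => @Bool) @Bool.false (@Nat.ble (@Nat.mul (@x1 @x5) (@Nat.add @x4 (nat_lit 1))) (@Prod.snd.{0, 0} _ _ @x3)) (@Nat.ble @x2 @x5)) (@Cfsg.Agent.KO276a8a0.k10 (@Nat.add (@Prod.snd.{0, 0} _ _ @x3) (nat_lit 2)) []))) (@Cfsg.Agent.KO276a8a0.k10 (@Prod.snd.{0, 0} _ _ @x3) []))) @x0))) ?_); rewrite [← Cfsg.Agent.KO276a8a0.e10, ← Cfsg.Agent.KO276a8a0.e7.{0},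 ← Cfsg.Agent.KO276a8a0.e5.{0, 0}, ← Cfsg.Agent.KO276a8a0.e4.{0}]; rfl') | exact @Cfsg.Agent.OrdDiv.box | exact ()
private theorem _root_.Cfsg.Agent.KO276a8a0.e12 : (by first | exact @Cfsg.Agent.OrdDiv.box = @_root_.Cfsg.Agent.KO276a8a0.k12 | exact True : Prop) := by first | (delta _root_.Cfsg.Agent.KO276a8a0.k12; exact @Subtype.property _ (fun g => @Cfsg.Agent.OrdDiv.box = @g) _) | rfl | trivial
private noncomputable def _root_.Cfsg.Agent.KO276a8a0.k13 : (by first | exact type_of% @Cfsg.Agent.OrdDiv.cand | exact Unit : Sort _) := by first | (refine @Subtype.val _ (fun g => @Cfsg.Agent.OrdDiv.cand = @g) (@Subtype.mk _ _ (@(fun x0 x1 x2 => @Cfsg.Agent.KO276a8a0.k7.{0} _ @(fun x3 => @Bool.rec.{1} @(fun x4 => @Bool) @Bool.false (@Cfsg.Agent.KO276a8a0.k2.{1} @Bool (@Nat.mod (@Nat.mul (@Cfsg.Agent.OrdDiv.Fam.den @x2 (@Prod.fst.{0, 0} _ _ @x3) (@Prod.snd.{0, 0} _ _ @x3)) @x1) (@Cfsg.Agent.OrdDiv.Fam.num @x2 (@Prod.fst.{0, 0} _ _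 @x3) (@Prod.snd.{0, 0} _ _ @x3))) (nat_lit 0) @Bool.false @Bool.true) (@Cfsg.Agent.OrdDiv.Fam.ok @x2 (@Prod.fst.{0, 0} _ _ @x3) (@Prod.snd.{0, 0} _ _ @x3))) (@Cfsg.Agent.KO276a8a0.k12 @x0 (@Cfsg.Agent.OrdDiv.Fam.e @x2) (@Cfsg.Agent.OrdDiv.Fam.lo @x2)))) ?_); rewrite [← Cfsg.Agent.KO276a8a0.e12, ← Cfsg.Agent.KO276a8a0.e2.{1}, ← Cfsg.Agent.KO276a8a0.e7.{0}]; (try delta Cfsg.Agent.OrdDiv.cand); (try generalize @Cfsg.Agent.OrdDiv.box = g0); rfl') | exact @Cfsg.Agent.OrdDiv.cand | exact ()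
private theorem _root_.Cfsg.Agent.KO276a8a0.e13 : (by first | exact @Cfsg.Agent.OrdDiv.cand = @_root_.Cfsg.Agent.KO276a8a0.k13 | exact True : Prop) := by first | (delta _root_.Cfsg.Agent.KO276a8a0.k13; exact @Subtype.property _ (fun g => @Cfsg.Agent.OrdDiv.cand = @g) _) | rfl | trivial
private noncomputable def _root_.Cfsg.Agent.KO276a8a0.k14 : (by first | exact type_of% @Cfsg.Agent.OrdDiv.cands | exact Unit : Sort _) := by first | (refine @Subtype.val _ (fun g => @Cfsg.Agent.OrdDiv.cands = @g) (@Subtype.mk _ _ (@(fun x0 x1 => @Cfsg.Agent.KO276a8a0.k4.{0} _ ((@Cfsg.Agent.KO276a8a0.k5.{0, 0} _ _ @Cfsg.Agent.OrdDiv.Grp.alt (@Cfsg.Agent.KO276a8a0.k11 @x0 @x1)) :: ((@Cfsg.Agent.KO276a8a0.k5.{0, 0} _ _ @(fun x2 => @Cfsg.Agent.OrdDiv.Grp.psl (@Prod.fst.{0, 0} _ _ @x2) (@Prod.snd.{0, 0} _ _ @x2)) (@Cfsg.Agent.KO276a8a0.k13 @x0 @x1 @Cfsg.Agent.OrdDiv.fPSL)) :: ((@Cfsg.Agent.KO276a8a0.k5.{0, 0} _ _ @(fun x2 => @Cfsg.Agent.OrdDiv.Grp.psp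 (@Prod.fst.{0, 0} _ _ @x2) (@Prod.snd.{0, 0} _ _ @x2)) (@Cfsg.Agent.KO276a8a0.k13 @x0 @x1 @Cfsg.Agent.OrdDiv.fPSp)) :: ((@Cfsg.Agent.KO276a8a0.k5.{0, 0} _ _ @(fun x2 => @Cfsg.Agent.OrdDiv.Grp.psu (@Prod.fst.{0, 0} _ _ @x2) (@Prod.snd.{0, 0} _ _ @x2)) (@Cfsg.Agent.KO276a8a0.k13 @x0 @x1 @Cfsg.Agent.OrdDiv.fPSU)) :: ((@Cfsg.Agent.KO276a8a0.k5.{0, 0} _ _ @(fun x2 => @Cfsg.Agent.OrdDiv.Grp.oodd (@Prod.fst.{0, 0} _ _ @x2) (@Prod.snd.{0, 0} _ _ @x2)) (@Cfsg.Agent.KO276a8a0.k13 @x0 @x1 @Cfsg.Agent.OrdDiv.fOOdd)) :: ((@Cfsg.Agent.KO276a8a0.k5.{0, 0} _ _ @(fun x2 => @Cfsg.Agent.OrdDiv.Grp.oplus (@Prod.fst.{0, 0} _ _ @x2) (@Prod.snd.{0, 0} _ _ @x2)) (@Cfsg.Agent.KO276a8a0.k13 @x0 @x1 @Cfsg.Agent.OrdDiv.fOPlus)) :: ((@Cfsg.Agent.KO276a8a0.k5.{0, 0} _ _ @(fun x2 => @Cfsg.Agent.OrdDiv.Grp.ominus (@Prod.fst.{0, 0} _ _ @x2) (@Prod.snd.{0, 0} _ _ @x2)) (@Cfsg.Agent.KO276a8a0.k13 @x0 @x1 @Cfsg.Agent.OrdDiv.fOMinus)) :: ((@Cfsg.Agent.KO276a8a0.k5.{0,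 0} _ _ @(fun x2 => @Cfsg.Agent.OrdDiv.Grp.g2 (@Prod.snd.{0, 0} _ _ @x2)) (@Cfsg.Agent.KO276a8a0.k13 @x0 @x1 @Cfsg.Agent.OrdDiv.fG2)) :: ((@Cfsg.Agent.KO276a8a0.k5.{0, 0} _ _ @(fun x2 => @Cfsg.Agent.OrdDiv.Grp.f4 (@Prod.snd.{0, 0} _ _ @x2)) (@Cfsg.Agent.KO276a8a0.k13 @x0 @x1 @Cfsg.Agent.OrdDiv.fF4)) :: ((@Cfsg.Agent.KO276a8a0.k5.{0, 0} _ _ @(fun x2 => @Cfsg.Agent.OrdDiv.Grp.e6 (@Prod.snd.{0, 0} _ _ @x2)) (@Cfsg.Agent.KO276a8a0.k13 @x0 @x1 @Cfsg.Agent.OrdDiv.fE6)) :: ((@Cfsg.Agent.KO276a8a0.k5.{0, 0} _ _ @(fun x2 => @Cfsg.Agent.OrdDiv.Grp.e7 (@Prod.snd.{0, 0} _ _ @x2)) (@Cfsg.Agent.KO276a8a0.k13 @x0 @x1 @Cfsg.Agent.OrdDiv.fE7)) :: ((@Cfsg.Agent.KO276a8a0.k5.{0, 0} _ _ @(fun x2 => @Cfsg.Agent.OrdDiv.Grp.e8 (@Prod.snd.{0, 0} _ _ @x2)) (@Cfsg.Agent.KO276a8a0.k13 @x0 @x1 @Cfsg.Agent.OrdDiv.fE8)) :: ((@Cfsg.Agent.KO276a8a0.k5.{0, 0} _ _ @(fun x2 => @Cfsg.Agent.OrdDiv.Grp.te6 (@Prod.snd.{0, 0} _ _ @x2)) (@Cfsg.Agent.KO276a8a0.k13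 @x0 @x1 @Cfsg.Agent.OrdDiv.fTE6)) :: ((@Cfsg.Agent.KO276a8a0.k5.{0, 0} _ _ @(fun x2 => @Cfsg.Agent.OrdDiv.Grp.td4 (@Prod.snd.{0, 0} _ _ @x2)) (@Cfsg.Agent.KO276a8a0.k13 @x0 @x1 @Cfsg.Agent.OrdDiv.fTD4)) :: ((@Cfsg.Agent.KO276a8a0.k5.{0, 0} _ _ @(fun x2 => @Cfsg.Agent.OrdDiv.Grp.sz (@Prod.snd.{0, 0} _ _ @x2)) (@Cfsg.Agent.KO276a8a0.k13 @x0 @x1 @Cfsg.Agent.OrdDiv.fSz)) :: ((@Cfsg.Agent.KO276a8a0.k5.{0, 0} _ _ @(fun x2 => @Cfsg.Agent.OrdDiv.Grp.ree (@Prod.snd.{0, 0} _ _ @x2)) (@Cfsg.Agent.KO276a8a0.k13 @x0 @x1 @Cfsg.Agent.OrdDiv.fRee)) :: ((@Cfsg.Agent.KO276a8a0.k5.{0, 0} _ _ @(fun x2 => @Cfsg.Agent.OrdDiv.Grp.tf4 (@Prod.snd.{0, 0} _ _ @x2)) (@Cfsg.Agent.KO276a8a0.k13 @x0 @x1 @Cfsg.Agent.OrdDiv.fTF4)) :: ((@Cfsg.Agent.KO276a8a0.k5.{0, 0} _ _ @(fun x2 => @Prod.fst.{0, 0} _ _ @x2) (@Cfsg.Agent.KO276a8a0.k7.{0} _ @(fun x2 => @Cfsg.Agent.KO276a8a0.k2.{1} @Bool (@Nat.mod @x1 (@Prod.snd.{0, 0} _ _ @x2)) (nat_lit 0) @Bool.false @Bool.true)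 @Cfsg.Agent.OrdDiv.spor)) :: [])))))))))))))))))))) ?_); rewrite [← Cfsg.Agent.KO276a8a0.e2.{1}, ← Cfsg.Agent.KO276a8a0.e7.{0}, ← Cfsg.Agent.KO276a8a0.e13, ← Cfsg.Agent.KO276a8a0.e11, ← Cfsg.Agent.KO276a8a0.e5.{0, 0}, ← Cfsg.Agent.KO276a8a0.e4.{0}]; (try delta Cfsg.Agent.OrdDiv.cands); (try generalize @Cfsg.Agent.OrdDiv.candAlt = g0); (try generalize @Cfsg.Agent.OrdDiv.cand = g1); (try generalize @Cfsg.Agent.OrdDiv.fPSL = g2); (try generalize @Cfsg.Agent.OrdDiv.fPSp = g3); (try generalize @Cfsg.Agent.OrdDiv.fPSU = g4); (try generalize @Cfsg.Agent.OrdDiv.fOOdd = g5); (try generalize @Cfsg.Agent.OrdDiv.fOPlus = g6); (try generalize @Cfsg.Agent.OrdDiv.fOMinus = g7); (try generalize @Cfsg.Agent.OrdDiv.fG2 = g8); (try generalize @Cfsg.Agent.OrdDiv.fF4 = g9); (try generalize @Cfsg.Agent.OrdDiv.fE6 = g10); (try generalize @Cfsg.Agent.OrdDiv.fE7 = g11); (try generalize @Cfsg.Agent.OrdDiv.fE8 = g12); (try generalize @Cfsg.Agent.OrdDiv.fTE6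 = g13); (try generalize @Cfsg.Agent.OrdDiv.fTD4 = g14); (try generalize @Cfsg.Agent.OrdDiv.fSz = g15); (try generalize @Cfsg.Agent.OrdDiv.fRee = g16); (try generalize @Cfsg.Agent.OrdDiv.fTF4 = g17); (try generalize @Cfsg.Agent.OrdDiv.spor = g18); rfl') | exact @Cfsg.Agent.OrdDiv.cands | exact ()
private theorem _root_.Cfsg.Agent.KO276a8a0.e14 : (by first | exact @Cfsg.Agent.OrdDiv.cands = @_root_.Cfsg.Agent.KO276a8a0.k14 | exact True : Prop) := by first | (delta _root_.Cfsg.Agent.KO276a8a0.k14; exact @Subtype.property _ (fun g => @Cfsg.Agent.OrdDiv.cands = @g) _) | rfl | trivial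
private noncomputable def _root_.Cfsg.Agent.KO276a8a0.k15 : type_of% @Bool.or := @(fun x0 x1 => @Bool.rec.{1} @(fun x2 => @Bool) @x1 @Bool.true @x0)
private theorem _root_.Cfsg.Agent.KO276a8a0.e15 : @Bool.or = @_root_.Cfsg.Agent.KO276a8a0.k15 := by delta _root_.Cfsg.Agent.KO276a8a0.k15; rfl'
private noncomputable def _root_.Cfsg.Agent.KO276a8a0.k16.{ku0} : type_of% @bne.{ku0} := @(fun x0 x1 x2 x3 => @Bool.rec.{1} @(fun x4 => @Bool) @Bool.true @Bool.false (@BEq.beq.{ku0} _ @x1 @x2 @x3))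
private theorem _root_.Cfsg.Agent.KO276a8a0.e16.{ku0} : @bne.{ku0} = @_root_.Cfsg.Agent.KO276a8a0.k16.{ku0} := by delta _root_.Cfsg.Agent.KO276a8a0.k16; rfl'
private noncomputable def _root_.Cfsg.Agent.KO276a8a0.k17 : type_of% @Nat.decEq := @(fun x0 x1 => @Bool.rec.{1} @(fun x2 => (@Eq.{1} _ (@Nat.beq @x0 @x1) @x2) → @Decidable (@Eq.{1} _ @x0 @x1)) @(fun x2 => @Decidable.isFalse _ (@Nat.ne_of_beq_eq_false _ _ @x2)) @(fun x2 => @Decidable.isTrue _ (@Nat.eq_of_beq_eq_true _ _ @x2)) (@Nat.beq @x0 @x1) (@Eq.refl.{1} _ (@Nat.beq @x0 @x1)))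
private theorem _root_.Cfsg.Agent.KO276a8a0.e17 : @Nat.decEq = @_root_.Cfsg.Agent.KO276a8a0.k17 := by delta _root_.Cfsg.Agent.KO276a8a0.k17; rfl'
private noncomputable def _root_.Cfsg.Agent.KO276a8a0.k18 : type_of% @instDecidableEqNat := @Cfsg.Agent.KO276a8a0.k17
private theorem _root_.Cfsg.Agent.KO276a8a0.e18 : @instDecidableEqNat = @_root_.Cfsg.Agent.KO276a8a0.k18 := by delta _root_.Cfsg.Agent.KO276a8a0.k18; rewrite [← Cfsg.Agent.KO276a8a0.e17]; rfl'
private noncomputable def _root_.Cfsg.Agent.KO276a8a0.k19.{ku0} : type_of% @List.find?.{ku0} := @(fun x0 x1 x2 => @List.rec.{(ku0+1), ku0} @x0 @(fun x3 => @Option.{ku0} @x0) (@Option.none.{ku0} _) @(fun x3 x4 x5 => @Bool.rec.{(ku0+1)} @(fun x6 => @Option.{ku0} @x0) @x5 (@Option.some.{ku0} _ @x3) (@x1 @x3)) @x2)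
private theorem _root_.Cfsg.Agent.KO276a8a0.e19.{ku0} : @List.find?.{ku0} = @_root_.Cfsg.Agent.KO276a8a0.k19.{ku0} := by delta _root_.Cfsg.Agent.KO276a8a0.k19; funext a0 a1 a2; refine (_root_.Cfsg.Agent.KO276a8a0.e0 (fun a2 => @List.find?.{ku0} a0 a1 a2) ?_ (fun c0 c1 => ?_) a2 :) <;> (rfl')
private noncomputable def _root_.Cfsg.Agent.KO276a8a0.k20 : (by first | exact type_of% @Cfsg.Agent.OrdDiv.ordN | exact Unit : Sort _) := by first | (refine @Subtype.val _ (fun g => @Cfsg.Agent.OrdDiv.ordN = @g) (@Subtype.mk _ _ (@(fun x0 => @Cfsg.Agent.OrdDiv.Grp.rec.{1} @(fun x1 => ((@Nat.hasNotBit (nat_lit 131071) (@Cfsg.Agent.OrdDiv.Grp.ctorIdx @x1)) → ℕ) → ℕ) @(fun x1 x2 => @Nat.div (@Cfsg.Agent.KO276a8a0.k9 @x1) (nat_lit 2)) @(fun x1 x2 x3 => @Nat.div (@Cfsg.Agent.OrdDiv.Fam.num @Cfsg.Agent.OrdDiv.fPSL @x1 @x2) (@Cfsg.Agent.OrdDiv.Fam.den @Cfsg.Agent.OrdDiv.fPSL @x1 @x2)) @(fun x1 x2 x3 => @Nat.div (@Cfsg.Agent.OrdDiv.Fam.num @Cfsg.Agent.OrdDiv.fPSp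 @x1 @x2) (@Cfsg.Agent.OrdDiv.Fam.den @Cfsg.Agent.OrdDiv.fPSp @x1 @x2)) @(fun x1 x2 x3 => @Nat.div (@Cfsg.Agent.OrdDiv.Fam.num @Cfsg.Agent.OrdDiv.fPSU @x1 @x2) (@Cfsg.Agent.OrdDiv.Fam.den @Cfsg.Agent.OrdDiv.fPSU @x1 @x2)) @(fun x1 x2 x3 => @Nat.div (@Cfsg.Agent.OrdDiv.Fam.num @Cfsg.Agent.OrdDiv.fOOdd @x1 @x2) (@Cfsg.Agent.OrdDiv.Fam.den @Cfsg.Agent.OrdDiv.fOOdd @x1 @x2)) @(fun x1 x2 x3 => @Nat.div (@Cfsg.Agent.OrdDiv.Fam.num @Cfsg.Agent.OrdDiv.fOPlus @x1 @x2) (@Cfsg.Agent.OrdDiv.Fam.den @Cfsg.Agent.OrdDiv.fOPlus @x1 @x2)) @(fun x1 x2 x3 => @Nat.div (@Cfsg.Agent.OrdDiv.Fam.num @Cfsg.Agent.OrdDiv.fOMinus @x1 @x2) (@Cfsg.Agent.OrdDiv.Fam.den @Cfsg.Agent.OrdDiv.fOMinus @x1 @x2)) @(fun x1 x2 => @Nat.div (@Cfsg.Agent.OrdDiv.Fam.num @Cfsg.Agent.OrdDiv.fG2 (nat_lit 0) @x1) (@Cfsg.Agent.OrdDiv.Fam.den @Cfsg.Agent.OrdDiv.fG2 (nat_lit 0) @x1)) @(fun x1 x2 => @Nat.div (@Cfsg.Agent.OrdDiv.Fam.num @Cfsg.Agent.OrdDiv.fF4 (nat_lit 0) @x1)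 (@Cfsg.Agent.OrdDiv.Fam.den @Cfsg.Agent.OrdDiv.fF4 (nat_lit 0) @x1)) @(fun x1 x2 => @Nat.div (@Cfsg.Agent.OrdDiv.Fam.num @Cfsg.Agent.OrdDiv.fE6 (nat_lit 0) @x1) (@Cfsg.Agent.OrdDiv.Fam.den @Cfsg.Agent.OrdDiv.fE6 (nat_lit 0) @x1)) @(fun x1 x2 => @Nat.div (@Cfsg.Agent.OrdDiv.Fam.num @Cfsg.Agent.OrdDiv.fE7 (nat_lit 0) @x1) (@Cfsg.Agent.OrdDiv.Fam.den @Cfsg.Agent.OrdDiv.fE7 (nat_lit 0) @x1)) @(fun x1 x2 => @Nat.div (@Cfsg.Agent.OrdDiv.Fam.num @Cfsg.Agent.OrdDiv.fE8 (nat_lit 0) @x1) (@Cfsg.Agent.OrdDiv.Fam.den @Cfsg.Agent.OrdDiv.fE8 (nat_lit 0) @x1)) @(fun x1 x2 => @Nat.div (@Cfsg.Agent.OrdDiv.Fam.num @Cfsg.Agent.OrdDiv.fTE6 (nat_lit 0) @x1) (@Cfsg.Agent.OrdDiv.Fam.den @Cfsg.Agent.OrdDiv.fTE6 (nat_lit 0) @x1)) @(fun x1 x2 => @Nat.div (@Cfsg.Agent.OrdDiv.Fam.num @Cfsg.Agent.OrdDiv.fTD4 (nat_lit 0) @x1) (@Cfsg.Agent.OrdDiv.Fam.den @Cfsg.Agent.OrdDiv.fTD4 (nat_lit 0) @x1)) @(fun x1 x2 => @Nat.div (@Cfsg.Agent.OrdDiv.Fam.num @Cfsg.Agent.OrdDiv.fSz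 (nat_lit 0) @x1) (@Cfsg.Agent.OrdDiv.Fam.den @Cfsg.Agent.OrdDiv.fSz (nat_lit 0) @x1)) @(fun x1 x2 => @Nat.div (@Cfsg.Agent.OrdDiv.Fam.num @Cfsg.Agent.OrdDiv.fRee (nat_lit 0) @x1) (@Cfsg.Agent.OrdDiv.Fam.den @Cfsg.Agent.OrdDiv.fRee (nat_lit 0) @x1)) @(fun x1 x2 => @Nat.div (@Cfsg.Agent.OrdDiv.Fam.num @Cfsg.Agent.OrdDiv.fTF4 (nat_lit 0) @x1) (@Cfsg.Agent.OrdDiv.Fam.den @Cfsg.Agent.OrdDiv.fTF4 (nat_lit 0) @x1)) @(fun x1 => @x1 (@Nat.ne_of_beq_eq_false _ _ (@Eq.refl.{1} _ @Bool.false))) @(fun x1 => @x1 (@Nat.ne_of_beq_eq_false _ _ (@Eq.refl.{1} _ @Bool.false))) @(fun x1 => @x1 (@Nat.ne_of_beq_eq_false _ _ (@Eq.refl.{1} _ @Bool.false))) @(fun x1 => @x1 (@Nat.ne_of_beq_eq_false _ _ (@Eq.refl.{1} _ @Bool.false))) @(fun x1 => @x1 (@Nat.ne_of_beq_eq_false _ _ (@Eq.refl.{1} _ @Bool.false))) @(fun x1 => @x1 (@Nat.ne_of_beq_eq_false _ _ (@Eq.refl.{1} _ @Bool.false))) @(fun x1 => @x1 (@Nat.ne_of_beq_eq_false _ _ (@Eq.refl.{1} _ @Bool.false)))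 @(fun x1 => @x1 (@Nat.ne_of_beq_eq_false _ _ (@Eq.refl.{1} _ @Bool.false))) @(fun x1 => @x1 (@Nat.ne_of_beq_eq_false _ _ (@Eq.refl.{1} _ @Bool.false))) @(fun x1 => @x1 (@Nat.ne_of_beq_eq_false _ _ (@Eq.refl.{1} _ @Bool.false))) @(fun x1 => @x1 (@Nat.ne_of_beq_eq_false _ _ (@Eq.refl.{1} _ @Bool.false))) @(fun x1 => @x1 (@Nat.ne_of_beq_eq_false _ _ (@Eq.refl.{1} _ @Bool.false))) @(fun x1 => @x1 (@Nat.ne_of_beq_eq_false _ _ (@Eq.refl.{1} _ @Bool.false))) @(fun x1 => @x1 (@Nat.ne_of_beq_eq_false _ _ (@Eq.refl.{1} _ @Bool.false))) @(fun x1 => @x1 (@Nat.ne_of_beq_eq_false _ _ (@Eq.refl.{1} _ @Bool.false))) @(fun x1 => @x1 (@Nat.ne_of_beq_eq_false _ _ (@Eq.refl.{1} _ @Bool.false))) @(fun x1 => @x1 (@Nat.ne_of_beq_eq_false _ _ (@Eq.refl.{1} _ @Bool.false))) @(fun x1 => @x1 (@Nat.ne_of_beq_eq_false _ _ (@Eq.refl.{1} _ @Bool.false))) @(fun x1 => @x1 (@Nat.ne_of_beq_eq_false _ _ (@Eq.refl.{1} _ @Bool.false))) @(fun x1 => @x1 (@Nat.ne_of_beq_eq_false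 _ _ (@Eq.refl.{1} _ @Bool.false))) @(fun x1 => @x1 (@Nat.ne_of_beq_eq_false _ _ (@Eq.refl.{1} _ @Bool.false))) @(fun x1 => @x1 (@Nat.ne_of_beq_eq_false _ _ (@Eq.refl.{1} _ @Bool.false))) @(fun x1 => @x1 (@Nat.ne_of_beq_eq_false _ _ (@Eq.refl.{1} _ @Bool.false))) @(fun x1 => @x1 (@Nat.ne_of_beq_eq_false _ _ (@Eq.refl.{1} _ @Bool.false))) @(fun x1 => @x1 (@Nat.ne_of_beq_eq_false _ _ (@Eq.refl.{1} _ @Bool.false))) @(fun x1 => @x1 (@Nat.ne_of_beq_eq_false _ _ (@Eq.refl.{1} _ @Bool.false))) @(fun x1 => @x1 (@Nat.ne_of_beq_eq_false _ _ (@Eq.refl.{1} _ @Bool.false))) @x0 @(fun x1 => @Option.rec.{1, 0} ℕ @(fun x2 => ℕ) (nat_lit 0) @(fun x2 => @x2) (@Option.rec.{1, 0} (@Cfsg.Agent.OrdDiv.Grp × ℕ) @(fun x2 => @Option.{0} ℕ) (@Option.none.{0} _) @(fun x2 => @Option.some.{0} _ (@Prod.snd.{0, 0} _ _ @x2)) (@Cfsg.Agent.KO276a8a0.k19.{0} _ @(fun x2 => @Decidable.rec.{1} _ @(fun x3 => @Bool) @(fun x3 => @Bool.false) @(fun x3 => @Bool.true)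 (@Cfsg.Agent.OrdDiv.instDecidableEqGrp.decEq (@Prod.fst.{0, 0} _ _ @x2) @x0)) @Cfsg.Agent.OrdDiv.spor))))) ?_); rewrite [← Cfsg.Agent.KO276a8a0.e19.{0}, ← Cfsg.Agent.KO276a8a0.e9]; (try delta Cfsg.Agent.OrdDiv.ordN Cfsg.Agent.OrdDiv.instDecidableEqGrp); (try generalize @Cfsg.Agent.OrdDiv.Grp.ctorIdx = g0); (try generalize @Cfsg.Agent.OrdDiv.fPSL = g1); (try generalize @Cfsg.Agent.OrdDiv.fPSp = g2); (try generalize @Cfsg.Agent.OrdDiv.fPSU = g3); (try generalize @Cfsg.Agent.OrdDiv.fOOdd = g4); (try generalize @Cfsg.Agent.OrdDiv.fOPlus = g5); (try generalize @Cfsg.Agent.OrdDiv.fOMinus = g6); (try generalize @Cfsg.Agent.OrdDiv.fG2 = g7); (try generalize @Cfsg.Agent.OrdDiv.fF4 = g8); (try generalize @Cfsg.Agent.OrdDiv.fE6 = g9); (try generalize @Cfsg.Agent.OrdDiv.fE7 = g10); (try generalize @Cfsg.Agent.OrdDiv.fE8 = g11); (try generalize @Cfsg.Agent.OrdDiv.fTE6 = g12); (try generalize @Cfsg.Agent.OrdDiv.fTD4 = g13); (try generalize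 @Cfsg.Agent.OrdDiv.fSz = g14); (try generalize @Cfsg.Agent.OrdDiv.fRee = g15); (try generalize @Cfsg.Agent.OrdDiv.fTF4 = g16); (try generalize @Cfsg.Agent.OrdDiv.instDecidableEqGrp.decEq = g17); (try generalize @Cfsg.Agent.OrdDiv.spor = g18); rfl') | exact @Cfsg.Agent.OrdDiv.ordN | exact ()
private theorem _root_.Cfsg.Agent.KO276a8a0.e20 : (by first | exact @Cfsg.Agent.OrdDiv.ordN = @_root_.Cfsg.Agent.KO276a8a0.k20 | exact True : Prop) := by first | (delta _root_.Cfsg.Agent.KO276a8a0.k20; exact @Subtype.property _ (fun g => @Cfsg.Agent.OrdDiv.ordN = @g) _) | rfl | trivial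

theorem onlyM (h0 : Kn) : Only (2 * 4154781481226426191177580544000000) 808017424794512875886459904961710757005754368000000000 :=
  only_of h0 [(2,46),(3,20),(5,9),(7,6),(11,2),(13,3),(17,1),(19,1),(23,1),(29,1),(31,1),(41,1),(47,1),(59,1),(71,1)]
    (by decide +kernel) (by (first | (rewrite [Cfsg.Agent.KO276a8a0.e1.{0}, Cfsg.Agent.KO276a8a0.e14, Cfsg.Agent.KO276a8a0.e15, Cfsg.Agent.KO276a8a0.e16.{0}, Cfsg.Agent.KO276a8a0.e18, Cfsg.Agent.KO276a8a0.e20]; decide +kernel) | decide +kernel))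

theorem onlyB (h0 : Kn) : Only (2 * 76532479683774853939200) 4154781481226426191177580544000000 :=
  only_of h0 [(2,41),(3,13),(5,6),(7,2),(11,1),(13,1),(17,1),(19,1),(23,1),(31,1),(47,1)] (by decide +kernel)
    (by (first | (rewrite [Cfsg.Agent.KO276a8a0.e1.{0}, Cfsg.Agent.KO276a8a0.e14, Cfsg.Agent.KO276a8a0.e15, Cfsg.Agent.KO276a8a0.e16.{0}, Cfsg.Agent.KO276a8a0.e18, Cfsg.Agent.KO276a8a0.e20]; decide +kernel) | decide +kernel))

theorem arM : Ar 47 194478922284018372000 := by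
  refine ar_of (by norm_num) (l := [(2,5),(3,7),(5,3),(7,4),(11,1),(13,2),(29,1),(41,1),(59,1),(71,1)]) ?_ ?_
  all_goals decide +kernel

theorem arB : Ar 19 54287820000 := by
  refine ar_of (by norm_num) (l := [(2,5),(3,4),(5,4),(23,1),(31,1),(47,1)]) ?_ ?_
  all_goals decide +kernel

theorem card_M : Nat.card Spor.Monster = 808017424794512875886459904961710757005754368000000000 :=
  Cfsg.Agent.H848.MonsterSetup.card

theorem card_B : Nat.card Spor.BabyMonster = 4154781481226426191177580544000000 := baby.2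

/-- **The Monster.** -/
theorem cl_M (h0 : Kn) {G : Type} [Group G] [Finite G] [IsSimpleGroup G] (h : Spor.IsoM G) (hb : Below (Nat.card G)) : CL G := by
  obtain ⟨e⟩ := h
  have hfin : Finite Spor.Monster := Cfsg.Agent.H848.MonsterSetup.finite
  have hsim : IsSimpleGroup Spor.Monster := Cfsg.Agent.H848.MonsterSetup.simple
  have hfB : Finite Spor.BabyMonster := Nat.finite_of_card_ne_zero (by rw [card_B]; norm_num)
  have hb' : Below (Nat.card Spor.Monster) := by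
    rwa [← Nat.card_congr e.toEquiv]
  refine of_equiv e.symm ?_
  obtain ⟨y, hy, hcov⟩ := Cfsg.Agent.S5534.result
  refine cl_of_cent hy nonab hcov (hb'.apply (by rw [card_B, card_M]; norm_num)) (p := 47) (m := 194478922284018372000)
    (by norm_num) (by norm_num) card_B card_M (by norm_num) (by norm_num) arM (onlyM h0)

/-- **The Baby Monster.** -/
theorem cl_B (h0 : Kn) {G : Type} [Group G] [Finite G] [IsSimpleGroup G] (h : Spor.IsoB G) (hb : Below (Nat.card G)) : CL G := by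
  obtain ⟨e⟩ := h
  have hfin : Finite Spor.Monster := Cfsg.Agent.H848.MonsterSetup.finite
  have hsim : IsSimpleGroup Spor.Monster := Cfsg.Agent.H848.MonsterSetup.simple
  have hfB : Finite Spor.BabyMonster := Nat.finite_of_card_ne_zero (by rw [card_B]; norm_num)
  have hb' : Below (Nat.card Spor.BabyMonster) := by
    rwa [← Nat.card_congr e.toEquiv]
  refine of_equiv e.symm ?_
  have hp : Fact (Nat.Prime 2) := ⟨Nat.prime_two⟩
  let hfin : Fintype (GaloisField 2 2) := Fintype.ofFinite _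
  have hF : Fintype.card (GaloisField 2 2) = 4 := by
    rw [← Nat.card_eq_fintype_card, GaloisField.card 2 2 (by norm_num)]; norm_num
  obtain ⟨t, a, u, v, π, D⟩ := Cfsg.Agent.H849.FourModel.exists_data Cfsg.Agent.MonsterN.LitFin.all
    Cfsg.Agent.MonsterX.KDone.lnk Cfsg.Agent.MonsterX.KDone.lft
    (Cfsg.Agent.MonsterU.TauInst.tauHyp (Cfsg.Agent.MonsterU.Final.cent
      Cfsg.Agent.MonsterX.InstanceFinal.mOrbit Cfsg.Agent.MonsterX.Instance.mTrans))
    (Cfsg.Agent.MonsterP.NodesGrp.prel Cfsg.Agent.MonsterN.LitFin.H)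
    (Cfsg.Agent.MonsterP.NodesNe.ne Cfsg.Agent.MonsterN.LitFin.H)
    Cfsg.Agent.MonsterN.LitFin.conj_ten (GaloisField 2 2) hF
  obtain ⟨e'⟩ := Cfsg.Agent.MonsterP.Equiv.equiv
  obtain ⟨π', D'⟩ := D.exists_map e'.symm
  have hsE : IsSimpleGroup (Cfsg.Lie.twistedE6 (GaloisField 2 2) 2) :=
    Cfsg.Agent.MonsterN.EInst.isSimple (GaloisField 2 2) hF
  have hE : Nat.card (Cfsg.Lie.twistedE6 (GaloisField 2 2) 2) = 76532479683774853939200 :=
    Cfsg.Agent.BM.HBFinal.card_E (GaloisField 2 2) hF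
  have hfE : Finite (Cfsg.Lie.twistedE6 (GaloisField 2 2) 2) := Nat.finite_of_card_ne_zero (by rw [hE]; norm_num)
  have hnaE : ∃ a b : Cfsg.Lie.twistedE6 (GaloisField 2 2) 2, a * b ≠ b * a :=
    CoverCL.nonab_of (by rw [hE]; norm_num) (by rw [hE]; norm_num) (by rw [hE]; norm_num)
  have ht : orderOf (e'.symm t) = 2 := orderOf_eq_prime (by rw [pow_two, D'.tt]) D'.t1
  obtain ⟨Q, z, eta, pi, hch⟩ := Cfsg.Agent.H848.MonsterSetup.exists_chart
  have hzt : ¬ IsConj z (e'.symm t) := by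
    intro hc
    obtain ⟨g, hg⟩ := isConj_iff.1 hc
    have h1 := Cfsg.Agent.MonsterU.AmalElts.card_centralizer hch
    rw [Nat.card_congr (TwoACent.centEquiv hg).toEquiv] at h1
    have h2 : 19 ∣ Nat.card ↥(centralizer ({e'.symm t, e'.symm a} : Set Spor.Monster)) := by
      have h3 := π'.ker.card_mul_index
      rw [Subgroup.index_ker, MonoidHom.range_eq_top.2 D'.surj, Subgroup.card_top, hE] at h3
      rw [← h3]
      exact Dvd.dvd.mul_left (by norm_num) _
    have h3 : Nat.card ↥(centralizer ({e'.symm t, e'.symm a} : Set Spor.Monster)) ∣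
        Nat.card ↥(centralizer ({e'.symm t} : Set Spor.Monster)) :=
      card_dvd_of_le (centralizer_le (by simp))
    have h4 := h2.trans h3
    rw [h1] at h4
    norm_num at h4
  obtain ⟨hcov, -⟩ := involutions hch ht hzt
  refine cl_of_four hnaE D' ht hcov (hb'.apply (by rw [hE, card_B]; norm_num)) (p := 19) (m := 54287820000)
    (by norm_num) (by norm_num) hE card_B (by norm_num) (by norm_num) arB (onlyB h0)

end Cfsg.Agent.H819.OverBM
end

-- part: H939/InstClass_mg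
section
prune_inst 0x101000400000000000000220001802900004000048800000000000010808020800002000000000000080000000000000000000000000000000000000040000000002028048a000000000000000000000000000000000000000000000000000000000000
set_option linter.all false
open scoped Cfsg.Agent.FastGrp

-- part: H939/ClsOf
section
/-!
Classes of root subgroups from local data (S5900): `cls_of`, `stab_of`, `conj_fam`.
-/

set_option autoImplicit false
set_option linter.unusedSectionVars false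
set_option linter.dupNamespace false

namespace Cfsg.Agent.H939.ClsOf

open CoxeterSystem Cfsg.Agent.ChevalleyStructure.CoxeterGeom Cfsg.Agent.Tits.Roots Cfsg.Agent.Tits.Core
  Cfsg.Agent.Tits.RootComb Cfsg.Agent.Tits.Exchange Cfsg.Agent.Nodes.Reps Cfsg.Agent.Nodes.BNOf
  Cfsg.Agent.Nodes.StabComb Cfsg.Agent.Nodes.Bruhat Cfsg.Agent.Nodes.OppDec Cfsg.Agent.Nodes.LeviDec
  Cfsg.Agent.Nodes.NormX Cfsg.Agent.Nodes.Coroot Cfsg.Agent.KFacts.RgdSL Cfsg.Agent.Nodes.PosPair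
  Cfsg.Agent.H939.RgdA Cfsg.Agent.H939.RgdP Cfsg.Agent.H939.RgdU Cfsg.Agent.H939.RgdMain Cfsg.Agent.H939.RgdTwo
  Cfsg.Agent.KFacts.RgdCharP Cfsg.Agent.Nodes.Comb

variable {I W Y : Type*} [Fintype I] [DecidableEq I] [Group W] [Group Y] {M : CoxeterMatrix I}
  {cs : CoxeterSystem M W} {A : I → I → ℤ} {h : IsCartan M A} {p : ℕ} {T : Subgroup Y} {n : I → Y}
  {X : (I → ℤ) → Subgroup Y}

/-- a family of subgroups permuted by the `n i` -/
theorem conj_fam (R : RGD cs h p T n X) {zz : (I → ℤ) → Subgroup Y} {O : Set (I → ℤ)}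
    (hO : ∀ i, ∀ x ∈ O, rep cs h (cs.simple i) x ∈ O)
    (hc : ∀ i, ∀ x ∈ O, cj (n i) (zz x) = zz (rep cs h (cs.simple i) x))
    (ht : ∀ x ∈ O, ∀ t ∈ T, cj t (zz x) = zz x) {w : W} {k : Y} (hk : Rp cs R.nsys w k) {x : I → ℤ} (hx : x ∈ O) :
    cj k (zz x) = zz (rep cs h w x) := by
  have key : ∀ ω : List I, ∀ x ∈ O, rep cs h (cs.wordProd ω) x ∈ O ∧ ∃ k, Rp cs R.nsys (cs.wordProd ω) k ∧
      cj k (zz x) = zz (rep cs h (cs.wordProd ω) x) := by
    intro ω
    induction ω with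
    | nil =>
      intro x hx
      refine ⟨by rw [wordProd_nil, map_one, Module.End.one_apply]; exact hx, 1, by rw [wordProd_nil]; exact rp_one, ?_⟩
      rw [wordProd_nil, cj_one, map_one, Module.End.one_apply]
    | cons i ω ih =>
      intro x hx
      obtain ⟨h1, k, hk, e⟩ := ih x hx
      rw [wordProd_cons, rep_mul_apply]
      refine ⟨hO i _ h1, n i * k, ?_, ?_⟩
      · exact (rp_simple cs R.nsys i).mul hk
      · rw [cj_mul, e, hc i _ h1]
  obtain ⟨ω, rfl⟩ := cs.wordProd_surjective w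
  obtain ⟨h1, k', hk', e⟩ := key ω x hx
  have h2 : k'⁻¹ * k ∈ T := hk'.unique hk
  have h3 : k = k' * (k'⁻¹ * k) := by group
  rw [h3, cj_mul, ht x hx _ h2, e]

/-- **a class from local data** -/
theorem cls_of [Finite W] [Fact p.Prime] (R : RGD cs h p T n X) {r : I → ℤ} {Z : Subgroup Y} (hr : IsRoot cs h r)
    (hd : Dom A r) (hle : Z ≤ X r) (hne : Z ≠ ⊥) (hT : ∀ t ∈ T, cj t Z = Z)
    (hst : ∀ w k, Rp cs R.nsys w k → rep cs h w r = r → cj k Z = Z)
    (hB : ∀ x, IsRoot cs h x → 0 ≤ x → ∀ z ∈ Z, ∀ g ∈ X x, z * g = g * z)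
    (hV : ∀ x ∈ NotJ cs h (orth cs h r), ∀ y ∈ NotJ cs h (orth cs h r), ∀ g ∈ X x, ∀ k ∈ X y,
      g * k * g⁻¹ * k⁻¹ ∈ Z)
    (hV' : ∀ x ∈ NotJ cs h (orth cs h r), ∀ g ∈ X x, g ^ p ∈ Z) (hp : ∀ z ∈ Z, z ^ p = 1) : Cls R r Z := by
  have hnorm : ∀ x, IsRoot cs h x → 0 ≤ x → X x ≤ Subgroup.normalizer (Z : Set Y) := by
    intro x hx h0 g hg
    rw [Subgroup.mem_normalizer_iff]
    intro z
    constructor
    · intro hz
      rw [← hB x hx h0 z hz g hg, mul_inv_cancel_right]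
      exact hz
    · intro hz
      have h1 := hB x hx h0 _ hz g hg
      rw [inv_mul_cancel_right] at h1
      rwa [← mul_left_cancel h1] at hz
  have hBn : RGD.B cs h T X ≤ Subgroup.normalizer (Z : Set Y) := by
    refine sup_le ?_ (RGD.Sup_le fun x hx => hnorm x hx.1 hx.2)
    intro t ht
    rw [mem_normalizer_iff_cj]
    exact hT t ht
  have L : Long R r Z := ⟨hr, hd, hle, hne, hBn, hst⟩
  have h0 : 0 ≤ r := L.r_nonneg
  refine ⟨L, ?_, ?_⟩
  · refine Opp.elemMod_of_gen (p := p) (S := {u | ∃ x ∈ NotJ cs h (orth cs h r), u ∈ X x}) ?_ (Z_le_VJ L) ?_ ?_ ?_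
    · apply le_antisymm
      · refine RGD.Sup_le fun x hx u hu => Subgroup.subset_closure ⟨x, hx, hu⟩
      · rw [Subgroup.closure_le]
        rintro u ⟨x, hx, hu⟩
        exact RGD.le_Sup (S := NotJ cs h (orth cs h r)) hx hu
    · rintro u ⟨x, hx, hu⟩
      exact hnorm x hx.1 hx.2.1 hu
    · rintro u ⟨x, hx, hu⟩ v ⟨y, hy, hv⟩
      exact hV x hx y hy u hu v hv
    · rintro u ⟨x, hx, hu⟩
      exact hV' x hx u hu
  · exact Opp.elem_of (p := p) (fun x hx y hy => hB r hr h0 x hx y (hle hy)) hp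

end Cfsg.Agent.H939.ClsOf
end

-- part: H939/RgdB4
section
/-!
Bonds of order `4` (S5900): `B4 R r Z i j Zg` and `good_of_four`.
-/

set_option autoImplicit false
set_option linter.unusedSectionVars false
set_option linter.dupNamespace false

namespace Cfsg.Agent.H939.RgdB4

open CoxeterSystem Cfsg.Agent.ChevalleyStructure.CoxeterGeom Cfsg.Agent.Tits.Roots Cfsg.Agent.Tits.Core
  Cfsg.Agent.Tits.RootComb Cfsg.Agent.Tits.Exchange Cfsg.Agent.Nodes.Reps Cfsg.Agent.Nodes.BNOf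
  Cfsg.Agent.Nodes.StabComb Cfsg.Agent.Nodes.Bruhat Cfsg.Agent.Nodes.OppDec Cfsg.Agent.Nodes.LeviDec
  Cfsg.Agent.Nodes.NormX Cfsg.Agent.Nodes.Coroot Cfsg.Agent.KFacts.RgdSL Cfsg.Agent.Nodes.PosPair
  Cfsg.Agent.H939.RgdA Cfsg.Agent.H939.RgdP Cfsg.Agent.H939.RgdU Cfsg.Agent.H939.RgdMain
  Cfsg.Agent.H939.RgdTwo Cfsg.Agent.H939.RgdV Cfsg.Agent.KFacts.RgdCharP Cfsg.Agent.Nodes.Comb
open scoped commutatorElement

variable {I W Y : Type*} [Fintype I] [DecidableEq I] [Group W] [Group Y] {M : CoxeterMatrix I}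
  {cs : CoxeterSystem M W} {A : I → I → ℤ} {h : IsCartan M A} {p : ℕ} {T : Subgroup Y} {n : I → Y}
  {X : (I → ℤ) → Subgroup Y}

/-- the local data at a bond `{i, j}` of order `4`: `β = s_i(α_j)`, `γ = s_j(α_i)`, `Zg ≤ X γ` a member of the class -/
structure B4 (R : RGD cs h p T n X) (r : I → ℤ) (Z : Subgroup Y) (i j : I) (Zg : Subgroup Y) : Prop where
  m4 : M i j = 4
  ex : ∃ (v : W) (k : Y), Rp cs R.nsys v k ∧ rep cs h v r = rep cs h (cs.simple j) (sr i) ∧ Zg = cj k Z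
  c1 : ∀ a ∈ X (sr j), ∀ b ∈ X (rep cs h (cs.simple i) (sr j)), ⁅a, b⁆ ∈ X (rep cs h (cs.simple j) (sr i))
  c2 : ∀ a ∈ X (sr j), ∀ c ∈ X (rep cs h (cs.simple j) (sr i)), a * c = c * a
  c3 : ∀ b ∈ X (rep cs h (cs.simple i) (sr j)), ∀ c ∈ X (rep cs h (cs.simple j) (sr i)), b * c = c * b
  c4 : ∀ b ∈ X (rep cs h (cs.simple i) (sr j)), ∀ b' ∈ X (rep cs h (cs.simple i) (sr j)), b * b' = b' * b
  c5 : ∀ z ∈ Zg, ∀ c ∈ X (rep cs h (cs.simple j) (sr i)), z * c = c * z
  c6 : ∀ z ∈ Zg, ∀ a ∈ X (sr i), z * a = a * z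
  c7 : ∀ z ∈ Zg, ∀ a ∈ X (-sr i), z * a = a * z
  nd : ∀ a ∈ X (sr j), a ≠ 1 → ∃ y ∈ X (rep cs h (cs.simple i) (sr j)), ⁅y, a⁆ ∈ Zg ∧ ⁅y, a⁆ ≠ 1
  mu : ∀ z ∈ Zg, z ≠ 1 → ∀ (w : W) (m : Y), Rp cs R.nsys w m →
    rep cs h w (rep cs h (cs.simple j) (sr i)) = -rep cs h (cs.simple j) (sr i) →
    ∃ c ∈ cj m Zg ⊔ cj z (cj m Zg), c ∈ Zg ∧ c ≠ 1

/-- opposite members do not generate a `p`-group -/
theorem not_pgroup [Finite W] [Finite Y] [Fact p.Prime] {R : RGD cs h p T n X} {r : I → ℤ} {Z : Subgroup Y}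
    (L : Long R r Z) {w : W} {s : Y} (hs : Rp cs R.nsys w s) (hw : rep cs h w r = -r) :
    ¬ IsPGroup p ↥(Z ⊔ cj s Z) := by
  intro hp
  obtain ⟨v, i, hv⟩ := L.root
  obtain ⟨k, hk⟩ := exists_rp cs R.nsys v
  have hXr : X r = cj k (X (sr i)) := by rw [R.conj_rp hk (isRoot_sr cs h i), hv]
  have hXr' : X (-r) = cj k (X (-sr i)) := by rw [R.conj_rp hk (isRoot_sr cs h i).neg, map_neg, hv]
  have hZ1 : cj k⁻¹ Z ≤ X (sr i) := by
    have := cj_mono k⁻¹ (L.le.trans hXr.le)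
    rwa [cj_inv_cj] at this
  have hZ2 : cj k⁻¹ (cj s Z) ≤ X (-sr i) := by
    have h1 : cj s Z ≤ X (-r) := by
      rw [← hw, ← R.conj_rp hs L.root]
      exact cj_mono s L.le
    have := cj_mono k⁻¹ (h1.trans hXr'.le)
    rwa [cj_inv_cj] at this
  have hP := isPGroup_cj R (g := k⁻¹) hp
  rw [cj_sup] at hP
  have hXL : X (sr i) ≤ LJ cs h T X {i} :=
    X_le_LJ (PosJ_subset _ (sr_mem_PosJ (Set.mem_singleton i)))
  have hXL' : X (-sr i) ≤ LJ cs h T X {i} :=
    X_le_LJ (RootsJ.neg (PosJ_subset _ (sr_mem_PosJ (Set.mem_singleton i))))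
  have hle : cj k⁻¹ Z ⊔ cj k⁻¹ (cj s Z) ≤ LJ cs h T X {i} :=
    sup_le (hZ1.trans hXL) (hZ2.trans hXL')
  obtain ⟨⟨z, hz⟩, hz1⟩ := Subgroup.ne_bot_iff_exists_ne_one.1 L.ne
  have hz1' : z ≠ 1 := fun h3 => hz1 (Subtype.ext h3)
  have hk1 : k⁻¹ * z * k ≠ 1 := fun h3 => hz1' (by
    have : z = k * (k⁻¹ * z * k) * k⁻¹ := by group
    rw [this, h3]; group)
  have hz2 : k⁻¹ * z * k ∈ cj k⁻¹ Z := by
    have := conj_mem_cj (g := k⁻¹) (A := Z).2 hz
    rwa [inv_inv] at this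
  have h1 := le_X_of_meet R hP hle (by
    intro h3
    apply hk1
    have : k⁻¹ * z * k ∈ (cj k⁻¹ Z ⊔ cj k⁻¹ (cj s Z)) ⊓ X (sr i) := ⟨Subgroup.mem_sup_left hz2, hZ1 hz2⟩
    rwa [h3, Subgroup.mem_bot] at this)
  have hs2 : s * z * s⁻¹ ∈ cj s Z := conj_mem_cj.2 hz
  have hz3 : k⁻¹ * (s * z * s⁻¹) * k ∈ cj k⁻¹ (cj s Z) := by
    have := conj_mem_cj (g := k⁻¹) (A := cj s Z).2 hs2
    rwa [inv_inv] at this
  have hne : sr i ≠ (-sr i : I → ℤ) := by
    intro h5
    have h6 := congrFun h5 i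
    rw [Pi.neg_apply, sr_self] at h6
    omega
  have h2 : k⁻¹ * (s * z * s⁻¹) * k ∈ X (sr i) ⊓ X (-sr i) := ⟨h1 (Subgroup.mem_sup_right hz3), hZ2 hz3⟩
  rw [X_inf_X R (isRoot_sr cs h i) (isRoot_sr cs h i).neg hne, Subgroup.mem_bot] at h2
  apply hz1'
  have : z = s⁻¹ * (k * (k⁻¹ * (s * z * s⁻¹) * k) * k⁻¹) * s := by group
  rw [this, h2]; group

/-- a nontrivial element of a member moves the opposite member -/
theorem cj_ne [Finite W] [Finite Y] [Fact p.Prime] {R : RGD cs h p T n X} {r : I → ℤ} {Z : Subgroup Y}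
    (L : Long R r Z) {w : W} {s : Y} (hs : Rp cs R.nsys w s) (hw : rep cs h w r = -r) {x : Y} (hx : x ∈ Z)
    (hx1 : x ≠ 1) : cj x (cj s Z) ≠ cj s Z := by
  intro he
  obtain ⟨g, h1, h2⟩ := r1 L hs hw hx hx1
  rw [he] at h2
  have h3 := not_pgroup L hs hw
  apply h3
  have h4 : cj g (Z ⊔ cj s Z) = cj s Z := by
    have e1 : cj g (cj s Z) = cj s Z := (cj_mul g s Z).symm.trans h2.symm
    rw [cj_sup, e1, h1.symm, sup_idem]
  have h5 : IsPGroup p ↥(cj s Z) := by
    have h6 : IsPGroup p ↥Z := (R.pgrp' L.root).to_le L.le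
    exact isPGroup_cj R h6
  have h6 : Z ⊔ cj s Z = cj g⁻¹ (cj s Z) := (cj_inv_cj g _).symm.trans (congrArg (cj g⁻¹) h4)
  rw [h6]
  exact isPGroup_cj R h5

variable {R : RGD cs h p T n X} {r : I → ℤ} {Z : Subgroup Y} {i j : I} {Zg : Subgroup Y}

section

variable (D : B4 R r Z i j Zg) (L : Long R r Z)

include D L

theorem Zg_le [Finite W] : Zg ≤ X (rep cs h (cs.simple j) (sr i)) := by
  obtain ⟨v, k, hk, hv, rfl⟩ := D.ex
  rw [← hv, ← R.conj_rp hk L.root]
  exact cj_mono k L.le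

theorem T_le_norm : T ≤ Subgroup.normalizer (Zg : Set Y) := by
  obtain ⟨v, k, hk, hv, rfl⟩ := D.ex
  rw [normalizer_cj, ← cj_T R hk]
  exact cj_mono k (RGD.T_le_B.trans L.B)

theorem BJ_le_norm [Finite W] : BJ cs h T X {i, j} ≤ Subgroup.normalizer (Zg : Set Y) := by
  have key : ∀ K : Subgroup Y, (∀ z ∈ Zg, ∀ a ∈ K, z * a = a * z) → K ≤ Subgroup.normalizer (Zg : Set Y) := by
    intro K hK
    have h1 : K ≤ Subgroup.centralizer (Zg : Set Y) := by
      intro a ha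
      rw [Subgroup.mem_centralizer_iff]
      intro z hz
      exact hK z hz a ha
    exact h1.trans (Subgroup.centralizer_le_normalizer _)
  unfold BJ
  refine sup_le (T_le_norm D L) (RGD.Sup_le fun x hx => ?_)
  rcases four_cases D.m4 hx.1 (supp_iff.2 hx.2.2) hx.2.1 with rfl | rfl | rfl | rfl
  · exact key _ D.c6
  · exact key _ fun z hz a ha => (D.c2 a ha z (Zg_le D L hz)).symm
  · exact key _ fun z hz a ha => (D.c3 a ha z (Zg_le D L hz)).symm
  · exact key _ D.c5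

theorem comm_of_pgroup [Finite W] [Finite Y] [Fact p.Prime] {g : Y} (hg : g ∈ LJ cs h T X {i, j})
    (hp : IsPGroup p ↥(Zg ⊔ cj g Zg)) : ∀ a ∈ Zg, ∀ b ∈ cj g Zg, a * b = b * a := by
  have := Fintype.ofFinite W
  have hM := D.m4
  have hij : i ≠ j := by
    rintro rfl
    rw [M.diagonal] at hM; omega
  obtain ⟨w, hw, b₁, hb₁, k, hk, b₂, hb₂, rfl⟩ := exists_cellJ R hg
  have hN := BJ_le_norm D L
  have e1 : cj (b₁ * k * b₂) Zg = cj b₁ (cj k Zg) := by
    rw [cj_mul, mem_normalizer_iff_cj.1 (hN hb₂), cj_mul]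
  have e2 : Zg = cj b₁ Zg := (mem_normalizer_iff_cj.1 (hN hb₁)).symm
  -- it is enough to treat `(Zg, cj k Zg)`
  suffices hmain : ∀ a ∈ Zg, ∀ b ∈ cj k Zg, a * b = b * a by
    intro a ha b hb
    rw [e1, mem_cj] at hb
    have ha' : b₁⁻¹ * a * b₁ ∈ Zg := by
      rw [e2] at ha
      exact mem_cj.1 ha
    have h1 := hmain _ ha' _ hb
    have h2 : a * b = b₁ * ((b₁⁻¹ * a * b₁) * (b₁⁻¹ * b * b₁)) * b₁⁻¹ := by group
    rw [h2, h1]; group
  have hp' : IsPGroup p ↥(Zg ⊔ cj k Zg) := by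
    rw [e1] at hp
    have h1 : Zg ⊔ cj b₁ (cj k Zg) = cj b₁ (Zg ⊔ cj k Zg) := by rw [cj_sup, ← e2]
    rw [h1] at hp
    have h2 := isPGroup_cj R (g := b₁⁻¹) hp
    rwa [cj_inv_cj] at h2
  obtain ⟨v, k₀, hk₀, hv, hZg⟩ := D.ex
  set γ := rep cs h (cs.simple j) (sr i) with hγ
  have hγr : IsRoot cs h γ := (isRoot_sr cs h i).act _
  have hs : Supp i j (rep cs h w γ) := by
    refine supp_rep cs h hw ?_
    rw [hγ]
    exact supp_rep cs h (Subgroup.subset_closure ⟨j, Or.inr rfl, rfl⟩) (supp_sr_left i j)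
  have hlen : form cs h (sr i) (sr i) ≠ form cs h (sr j) (sr j) := by
    intro he
    have h1 := form_simple_rel (cs := cs) (h := h) hij
    have h2 := form_pos cs h (isRoot_sr cs h j).ne_zero
    rw [he] at h1
    have h3 := mul_right_cancel₀ h2.ne' h1
    rcases h.rel i j hij with h4 | h4 | ⟨-, h4 | h4⟩ | h4 <;> omega
  have hfγ : form cs h (rep cs h w γ) (rep cs h w γ) = form cs h (sr i) (sr i) := by
    rw [form_rep, hγ, form_rep]
  have hcases : ∀ δ : I → ℤ, IsRoot cs h δ → Supp i j δ → 0 ≤ δ →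
      form cs h δ δ = form cs h (sr i) (sr i) → δ = sr i ∨ δ = γ := by
    intro δ hδ hδs hδ0 hf
    rcases four_cases hM hδ hδs hδ0 with h1 | h1 | h1 | h1
    · exact Or.inl h1
    · exfalso
      apply hlen
      rw [← hf, h1]
    · exfalso
      apply hlen
      rw [← hf, h1, form_rep]
    · exact Or.inr h1
  have hkle : cj k Zg ≤ X (rep cs h w γ) := by
    rw [← R.conj_rp hk hγr]
    exact cj_mono k (Zg_le D L)
  have hneg : form cs h (-rep cs h w γ) (-rep cs h w γ) = form cs h (sr i) (sr i) := by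
    rw [form_neg_left, form_neg_right, neg_neg, hfγ]
  rcases (hγr.act w).pos_or_neg with h0 | h0
  · rcases hcases _ (hγr.act w) hs h0 hfγ with h1 | h1
    · intro a ha b hb
      exact D.c6 a ha b (by rw [← h1]; exact hkle hb)
    · intro a ha b hb
      exact D.c5 a ha b (by rw [h1] at hkle; exact hkle hb)
  · rcases hcases _ (hγr.act w).neg hs.neg (neg_nonneg.2 h0) hneg with h1 | h1
    · intro a ha b hb
      refine D.c7 a ha b ?_
      rw [← h1, neg_neg]
      exact hkle hb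
    · exfalso
      have h2 : rep cs h (v⁻¹ * w * v) r = -r := by
        rw [rep_mul_apply, rep_mul_apply, hv, ← neg_neg (rep cs h w γ), h1, map_neg, ← hv, rep_inv_apply]
      have h3 := (hk₀.inv.mul hk).mul hk₀
      refine not_pgroup L h3 h2 ?_
      have h4 : Z ⊔ cj (k₀⁻¹ * k * k₀) Z = cj k₀⁻¹ (Zg ⊔ cj k Zg) := by
        rw [hZg, cj_sup, cj_inv_cj, ← cj_mul, ← cj_mul]
      rw [h4]
      exact isPGroup_cj R hp'

theorem QQ_four [Finite W] {l : Y} (hl : l ∈ QQ cs h X i j) :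
    ∃ a ∈ X (sr j), ∃ b ∈ X (rep cs h (cs.simple i) (sr j)), ∃ c ∈ X (rep cs h (cs.simple j) (sr i)),
      l = a * b * c := by
  set β := rep cs h (cs.simple i) (sr j) with hβ
  set γ := rep cs h (cs.simple j) (sr i) with hγ
  have hN : ∀ (K K' : Subgroup Y), (∀ a ∈ K, ∀ b ∈ K', a * b * a⁻¹ ∈ K') →
      K ≤ Subgroup.normalizer (K' : Set Y) := by
    intro K K' h1 a ha
    rw [Subgroup.mem_normalizer_iff]
    intro b
    refine ⟨h1 a ha b, fun h2 => ?_⟩
    have h3 := h1 a⁻¹ (inv_mem ha) _ h2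
    have e : a⁻¹ * (a * b * a⁻¹) * a⁻¹⁻¹ = b := by group
    rwa [e] at h3
  have h3 : X β ≤ Subgroup.normalizer (X γ : Set Y) := by
    refine hN _ _ fun a ha b hb => ?_
    rw [D.c3 a ha b hb, mul_inv_cancel_right]; exact hb
  have h4 : X (sr j) ≤ Subgroup.normalizer ((X β ⊔ X γ : Subgroup Y) : Set Y) := by
    refine hN _ _ fun a ha b hb => ?_
    have h5 : b ∈ ((X β ⊔ X γ : Subgroup Y) : Set Y) := hb
    rw [Subgroup.coe_mul_of_left_le_normalizer_right _ _ h3, Set.mem_mul] at h5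
    obtain ⟨b', hb', c, hc, rfl⟩ := h5
    have e : a * (b' * c) * a⁻¹ = ⁅a, b'⁆ * b' * (a * c * a⁻¹) := by
      rw [commutatorElement_def]; group
    rw [e, D.c2 a ha c hc, mul_inv_cancel_right]
    exact mul_mem (mul_mem (Subgroup.mem_sup_right (D.c1 a ha b' hb')) (Subgroup.mem_sup_left hb'))
      (Subgroup.mem_sup_right hc)
  have h1 : QQ cs h X i j ≤ X (sr j) ⊔ (X β ⊔ X γ) := by
    refine RGD.Sup_le fun x hx => ?_
    rcases four_cases D.m4 hx.1.1 (supp_iff.2 hx.1.2.2) hx.1.2.1 with rfl | rfl | rfl | rfl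
    · exact absurd rfl hx.2
    · exact le_sup_left
    · exact le_sup_left.trans le_sup_right
    · exact le_sup_right.trans le_sup_right
  have h5 : l ∈ ((X (sr j) ⊔ (X β ⊔ X γ) : Subgroup Y) : Set Y) := h1 hl
  rw [Subgroup.coe_mul_of_left_le_normalizer_right _ _ h4, Set.mem_mul] at h5
  obtain ⟨a, ha, b, hb, rfl⟩ := h5
  have h6 : b ∈ ((X β ⊔ X γ : Subgroup Y) : Set Y) := hb
  rw [Subgroup.coe_mul_of_left_le_normalizer_right _ _ h3, Set.mem_mul] at h6
  obtain ⟨b', hb', c, hc, rfl⟩ := h6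
  exact ⟨a, ha, b', hb', c, hc, (mul_assoc _ _ _).symm⟩

/-- **bonds of order `4`** -/
theorem good_of_four [Finite W] [Finite Y] [Fact p.Prime] (hG : GG cs h T X = ⊤) (hi : _root_.Cfsg.Agent.H939.RgdTwo.Good R r Z i) :
    _root_.Cfsg.Agent.H939.RgdTwo.Good R r Z j := by
  have := Fintype.ofFinite W
  have hM := D.m4
  have hij : i ≠ j := by
    rintro rfl
    rw [M.diagonal] at hM; omega
  obtain ⟨w₀, hw₀⟩ := exists_neg (cs := cs) (h := h) L.root
  obtain ⟨s₀, hs₀⟩ := exists_rp cs R.nsys w₀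
  obtain ⟨v, k₀, hk₀, hv, hZg⟩ := D.ex
  intro u hu x hx
  have hDi := hi u hu
  by_contra hcon
  obtain ⟨l, hl, q, hq, rfl⟩ := V_decomp R (j := j) (hDi hx)
  have hlL : l ∈ LJ cs h T X {i, j} := QQ_le_LJ hl
  obtain ⟨a, ha, b, hb, c, hc, rfl⟩ := QQ_four D L hl
  set β := rep cs h (cs.simple i) (sr j) with hβ
  set γ := rep cs h (cs.simple j) (sr i) with hγ
  have hLn := LJ_le_normalizer_VJ R ({i, j} : Set I)
  have hβr : IsRoot cs h β := (isRoot_sr cs h j).act _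
  have hγr : IsRoot cs h γ := (isRoot_sr cs h i).act _
  have hβ0 : 0 ≤ β := (isRoot_sr cs h j).simple_nonneg (sr_nonneg j) i (fun h1 => hij (by
    have h2 := congrFun h1 i
    rw [sr_self, sr_ne hij] at h2
    omega))
  have hγ0 : 0 ≤ γ := (isRoot_sr cs h i).simple_nonneg (sr_nonneg i) j (fun h1 => hij (by
    have h2 := congrFun h1 j
    rw [sr_self, sr_ne hij.symm] at h2
    omega))
  have hAne : A i j < 0 ∧ A j i < 0 := by
    rcases h.rel i j hij with h4 | h4 | ⟨-, h4 | h4⟩ | h4 <;> omega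
  have hβi : 0 < β i := by
    rw [hβ, rep_simple_sr', Pi.sub_apply, Pi.smul_apply, smul_eq_mul, sr_self, sr_ne hij]
    omega
  have hγi : 0 < γ i := by
    rw [hγ, rep_simple_sr', Pi.sub_apply, Pi.smul_apply, smul_eq_mul, sr_self, sr_ne hij]
    omega
  have hbV : b ∈ VJ cs h X {j} := RGD.le_Sup (S := NotJ cs h {j}) ⟨hβr, hβ0, i, hij, hβi⟩ hb
  have hcV : c ∈ VJ cs h X {j} := RGD.le_Sup (S := NotJ cs h {j}) ⟨hγr, hγ0, i, hij, hγi⟩ hc
  have ha1 : a ≠ 1 := by
    rintro rfl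
    apply hcon
    rw [one_mul]
    exact mul_mem (mul_mem hbV hcV) (VJ_pair_le' hq)
  obtain ⟨y, hy, hz, hz1⟩ := D.nd a ha ha1
  set z := ⁅y, a⁆ with hzdef
  have hzγ := Zg_le D L hz
  -- `z` commutes with `l`
  have hza : z * a = a * z := (D.c2 a ha z hzγ).symm
  have hzb : z * b = b * z := (D.c3 b hb z hzγ).symm
  have hzc : z * c = c * z := D.c5 z hz c hc
  set l := a * b * c with hldef
  have hzl : z * l = l * z := by
    rw [hldef]
    calc z * (a * b * c) = (z * a) * b * c := by group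
      _ = a * (z * b) * c := by rw [hza]; group
      _ = a * b * (z * c) := by rw [hzb]; group
      _ = a * b * c * z := by rw [hzc]; group
  have hyl : y * l * y⁻¹ = z * l := by
    have h1 : y * b * y⁻¹ = b := by rw [D.c4 y hy b hb, mul_inv_cancel_right]
    have h2 : y * c * y⁻¹ = c := by rw [D.c3 y hy c hc, mul_inv_cancel_right]
    have h3 : y * a * y⁻¹ = z * a := by rw [hzdef, commutatorElement_def]; group
    calc y * l * y⁻¹ = (y * a * y⁻¹) * (y * b * y⁻¹) * (y * c * y⁻¹) := by rw [hldef]; group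
      _ = z * l := by rw [h1, h2, h3, hldef]; group
  have hβPos : y ∈ RGD.Sup X (RGD.Pos cs h) := RGD.le_Sup (S := RGD.Pos cs h) ⟨hβr, hβ0⟩ hy
  have hx' : y * (l * q) * y⁻¹ ∈ DD cs h X u :=
    DD_conj hx (mul_mem (mul_mem hβPos hx.1) (inv_mem hβPos))
  have hyL : y ∈ LJ cs h T X {i, j} := by
    refine X_le_LJ (x := β) ⟨hβr, supp_iff.1 ?_⟩ hy
    exact supp_rep cs h (Subgroup.subset_closure ⟨i, Or.inl rfl, rfl⟩) (supp_sr_right i j)
  have hyq : y * q * y⁻¹ ∈ VJ cs h X {i, j} := (Subgroup.mem_normalizer_iff.1 (hLn hyL) q).1 hq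
  have ex' : y * (l * q) * y⁻¹ = (z * l) * (y * q * y⁻¹) := by rw [← hyl]; group
  rw [ex'] at hx'
  -- the opposite member
  set m := n j * n i * n j with hm
  have hmr : Rp cs R.nsys (cs.simple j * cs.simple i * cs.simple j) m :=
    ((rp_simple cs R.nsys j).mul (rp_simple cs R.nsys i)).mul (rp_simple cs R.nsys j)
  have hmγ : rep cs h (cs.simple j * cs.simple i * cs.simple j) γ = -γ := by
    rw [hγ, rep_mul_apply, rep_mul_apply, ← rep_mul_apply cs h (cs.simple j) (cs.simple j),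
      cs.simple_mul_simple_self, map_one, Module.End.one_apply, rep_simple_sr, map_neg]
  have hmL : m ∈ LJ cs h T X {i, j} :=
    mul_mem (mul_mem (n_mem_LJ R (Set.mem_insert_of_mem i (Set.mem_singleton j)))
      (n_mem_LJ R (Set.mem_insert i _))) (n_mem_LJ R (Set.mem_insert_of_mem i (Set.mem_singleton j)))
  set Am := cj m Zg with hAm
  have hγL : X γ ≤ LJ cs h T X {i, j} := by
    refine X_le_LJ (x := γ) ⟨hγr, supp_iff.1 ?_⟩
    exact supp_rep cs h (Subgroup.subset_closure ⟨j, Or.inr rfl, rfl⟩) (supp_sr_left i j)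
  have hAmL : Am ≤ LJ cs h T X {i, j} := by
    rw [hAm, ← cj_eq_of_mem hmL]
    exact cj_mono m ((Zg_le D L).trans hγL)
  -- key: if `l' q'` does not move a member, then `Am` commutes with `cj l' Am`
  have key : ∀ l' ∈ LJ cs h T X {i, j}, ∀ q' ∈ VJ cs h X {i, j}, ¬ Mv R r Z (l' * q') →
      ∀ e ∈ Am, ∀ f ∈ Am, e * (l' * f * l'⁻¹) = (l' * f * l'⁻¹) * e := by
    intro l' hl' q' hq' hnm
    have hcjm : Am = cj (m * k₀) Z := by
      have e1 : cj m (cj k₀ Z) = cj (m * k₀) Z := (cj_mul m k₀ Z).symm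
      rw [hAm, hZg]; exact e1
    have hP : IsPGroup p ↥(cj (m * k₀) Z ⊔ cj (l' * q' * (m * k₀)) Z) := by
      rcases opp_or_pgroup L hG hs₀ hw₀ (m * k₀) (l' * q' * (m * k₀)) with h1 | h1
      · exact absurd ⟨w₀, s₀, hs₀, hw₀, _, h1⟩ hnm
      · exact h1
    have hcjm2 : cj (l' * q' * (m * k₀)) Z = cj (l' * q') Am := by rw [hcjm, ← cj_mul]
    rw [← hcjm, hcjm2] at hP
    set P₀ := Am ⊔ cj (l' * q') Am with hP₀
    have hVp : IsPGroup p ↥(VJ cs h X {i, j}) := R.isPGroup_of_pos (S := NotJ cs h {i, j}) fun _ hx => ⟨hx.1, hx.2.1⟩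
    have hP₀N : P₀ ≤ Subgroup.normalizer (VJ cs h X {i, j} : Set Y) := by
      refine sup_le (hAmL.trans hLn) ?_
      intro t ht
      rw [mem_cj] at ht
      have e : t = l' * q' * ((l' * q')⁻¹ * t * (l' * q')) * (l' * q')⁻¹ := by group
      rw [e]
      have h2 : l' * q' ∈ Subgroup.normalizer (VJ cs h X {i, j} : Set Y) :=
        mul_mem (hLn hl') (Subgroup.le_normalizer hq')
      exact mul_mem (mul_mem h2 (hLn (hAmL ht))) (inv_mem h2)
    have hP₁ : IsPGroup p ↥(P₀ ⊔ VJ cs h X {i, j}) := IsPGroup.to_sup_of_normal_right' hP hVp hP₀N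
    have hle : cj l' Am ≤ P₀ ⊔ VJ cs h X {i, j} := by
      intro t ht
      rw [mem_cj] at ht
      set f := l'⁻¹ * t * l' with hf
      have h4 : (l' * q') * f * (l' * q')⁻¹ ∈ P₀ := Subgroup.mem_sup_right (conj_mem_cj.2 ht)
      have h5 : f⁻¹ * (q' * f * q'⁻¹) ∈ VJ cs h X {i, j} := by
        have h6 : f⁻¹ * q' * f ∈ VJ cs h X {i, j} := by
          have := (Subgroup.mem_normalizer_iff.1 (hLn (inv_mem (hAmL ht))) q').1 hq'
          rwa [inv_inv] at this
        have e : f⁻¹ * (q' * f * q'⁻¹) = (f⁻¹ * q' * f) * q'⁻¹ := by group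
        rw [e]; exact mul_mem h6 (inv_mem hq')
      have h6 : l' * (f⁻¹ * (q' * f * q'⁻¹))⁻¹ * l'⁻¹ ∈ VJ cs h X {i, j} :=
        (Subgroup.mem_normalizer_iff.1 (hLn hl') _).1 (inv_mem h5)
      have e : t = ((l' * q') * f * (l' * q')⁻¹) * (l' * (f⁻¹ * (q' * f * q'⁻¹))⁻¹ * l'⁻¹) := by
        rw [hf]; group
      rw [e]
      exact mul_mem (Subgroup.mem_sup_left h4) (Subgroup.mem_sup_right h6)
    have hP₂ : IsPGroup p ↥(Am ⊔ cj l' Am) :=
      hP₁.to_le (sup_le ((le_sup_left : Am ≤ P₀).trans le_sup_left) hle)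
    have hP₃ : IsPGroup p ↥(Zg ⊔ cj (m⁻¹ * l' * m) Zg) := by
      have h1 := isPGroup_cj R (g := m⁻¹) hP₂
      have e : cj m⁻¹ (Am ⊔ cj l' Am) = Zg ⊔ cj (m⁻¹ * l' * m) Zg := by
        rw [cj_sup, hAm, cj_inv_cj, ← cj_mul, ← cj_mul, mul_assoc]
      rwa [e] at h1
    have h7 := comm_of_pgroup D L (mul_mem (mul_mem (inv_mem hmL) hl') hmL) hP₃
    intro e he f hf
    have he' : m⁻¹ * e * m ∈ Zg := mem_cj.1 he
    have hf' : m⁻¹ * f * m ∈ Zg := mem_cj.1 hf
    have h8 : (m⁻¹ * l' * m) * (m⁻¹ * f * m) * (m⁻¹ * l' * m)⁻¹ ∈ cj (m⁻¹ * l' * m) Zg := conj_mem_cj.2 hf'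
    have h9 := h7 _ he' _ h8
    have e1 : e * (l' * f * l'⁻¹) = m * ((m⁻¹ * e * m) * ((m⁻¹ * l' * m) * (m⁻¹ * f * m) * (m⁻¹ * l' * m)⁻¹)) * m⁻¹ := by
      group
    rw [e1, h9]; group
  have hzL : z ∈ LJ cs h T X {i, j} := hγL hzγ
  have K1 := key l hlL q hq (hu _ hx)
  have K2 := key (z * l) (mul_mem hzL hlL) _ hyq (hu _ hx')
  -- conclusion
  obtain ⟨c₀, hc₀, hc₀Z, hc₀1⟩ := D.mu z hz hz1 _ m hmr hmγ
  have hlc : l * c₀ = c₀ * l := by
    have hcγ := Zg_le D L hc₀Z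
    have h1 : c₀ * a = a * c₀ := (D.c2 a ha c₀ hcγ).symm
    have h2 : c₀ * b = b * c₀ := (D.c3 b hb c₀ hcγ).symm
    have h3 : c₀ * c = c * c₀ := D.c5 c₀ hc₀Z c hc
    rw [hldef]
    calc a * b * c * c₀ = a * b * (c * c₀) := by group
      _ = a * (b * c₀) * c := by rw [← h3]; group
      _ = (a * c₀) * b * c := by rw [← h2]; group
      _ = c₀ * (a * b * c) := by rw [← h1]; group
  have hcomm : ∀ e ∈ Am, c₀ * e = e * c₀ := by
    intro e he
    have h1 : Am ⊔ cj z Am ≤ Subgroup.centralizer {l⁻¹ * e * l} := by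
      refine sup_le ?_ ?_
      · intro f hf
        rw [Subgroup.mem_centralizer_singleton_iff]
        have h2 := K1 e he f hf
        have h3 : f * (l⁻¹ * e * l) = l⁻¹ * ((l * f * l⁻¹) * e) * l := by group
        rw [h3, ← h2]; group
      · intro f hf
        rw [mem_cj] at hf
        rw [Subgroup.mem_centralizer_singleton_iff]
        have h2 := K2 e he _ hf
        have h4 : (z * l) * (z⁻¹ * f * z) * (z * l)⁻¹ = l * f * l⁻¹ := by rw [hzl]; group
        rw [h4] at h2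
        have h3 : f * (l⁻¹ * e * l) = l⁻¹ * ((l * f * l⁻¹) * e) * l := by group
        rw [h3, ← h2]; group
    have h2 := Subgroup.mem_centralizer_singleton_iff.1 (h1 hc₀)
    have h3 : c₀ * e = l * (c₀ * (l⁻¹ * e * l)) * l⁻¹ := by
      calc c₀ * e = (c₀ * l) * (l⁻¹ * e * l) * l⁻¹ := by group
        _ = l * (c₀ * (l⁻¹ * e * l)) * l⁻¹ := by rw [← hlc]; group
    rw [h3, h2]
    calc l * (l⁻¹ * e * l * c₀) * l⁻¹ = e * (l * c₀) * l⁻¹ := by group
      _ = e * c₀ := by rw [hlc]; group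
  have hfix : cj c₀ Am = Am := by
    apply le_antisymm
    · intro t ht
      rw [mem_cj] at ht
      have h1 := hcomm _ ht
      have h2 : t = c₀ * (c₀⁻¹ * t * c₀) * c₀⁻¹ := by group
      rw [h1, mul_inv_cancel_right] at h2
      rw [h2]; exact ht
    · intro t ht
      rw [mem_cj]
      have h1 := hcomm t ht
      have h2 : c₀⁻¹ * t * c₀ = t := by
        have : c₀⁻¹ * t * c₀ = c₀⁻¹ * (t * c₀) := by group
        rw [this, ← h1]; group
      rw [h2]; exact ht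
  -- transport to `Z`
  have h2 : rep cs h (v⁻¹ * (cs.simple j * cs.simple i * cs.simple j) * v) r = -r := by
    rw [rep_mul_apply, rep_mul_apply, hv, hmγ, map_neg, ← hv, rep_inv_apply]
  have h3 := (hk₀.inv.mul hmr).mul hk₀
  have hc₀' : k₀⁻¹ * c₀ * k₀ ∈ Z := by
    rw [hZg] at hc₀Z
    exact mem_cj.1 hc₀Z
  refine cj_ne L h3 h2 hc₀' ?_ ?_
  · intro h4
    apply hc₀1
    have : c₀ = k₀ * (k₀⁻¹ * c₀ * k₀) * k₀⁻¹ := by group
    rw [this, h4]; group
  · have e1 : cj (k₀⁻¹ * m * k₀) Z = cj k₀⁻¹ Am := by rw [hAm, hZg, ← cj_mul, ← cj_mul, mul_assoc]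
    rw [e1, ← cj_mul]
    have e2 : k₀⁻¹ * c₀ * k₀ * k₀⁻¹ = k₀⁻¹ * c₀ := by group
    rw [e2, cj_mul, hfix]

end

/-- the hypothesis `mu` for full root groups -/
theorem mu_full [Finite W] (R : RGD cs h p T n X) {γ : I → ℤ} (hγ : IsRoot cs h γ) {z : Y} (hz : z ∈ X γ)
    (hz1 : z ≠ 1) {w : W} {m : Y} (hm : Rp cs R.nsys w m) (hw : rep cs h w γ = -γ) :
    ∃ c ∈ cj m (X γ) ⊔ cj z (cj m (X γ)), c ∈ X γ ∧ c ≠ 1 := by
  obtain ⟨w', hw', a, ha, b, hb, m', hm', e⟩ := exists_mu R hγ hz hz1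
  have hw'γ : rep cs h w' γ = -γ := by
    rw [hw', cpr_self cs h hγ, two_smul, sub_add_cancel_left]
  have hA : cj m (X γ) = X (-γ) := by rw [R.conj_rp hm hγ, hw]
  rw [hA]
  obtain ⟨⟨c, hc⟩, hc1⟩ := Subgroup.ne_bot_iff_exists_ne_one.1 (X_ne_bot R hγ)
  have hc1' : c ≠ 1 := fun h3 => hc1 (Subtype.ext h3)
  refine ⟨c, ?_, hc, hc1'⟩
  have hz' : z = a⁻¹ * m' * b⁻¹ := by rw [e]; group
  have h1 : cj z (X (-γ)) = cj a⁻¹ (X γ) := by
    have h2 : cj m' (X (-γ)) = X γ := by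
      rw [R.conj_rp hm' hγ.neg, map_neg, hw'γ, neg_neg]
    rw [hz', cj_mul, cj_eq_of_mem (inv_mem hb), cj_mul, h2]
  rw [h1]
  have h3 : a⁻¹ * c * a ∈ cj a⁻¹ (X γ) := by
    have := conj_mem_cj (g := a⁻¹) (A := X γ).2 hc
    rwa [inv_inv] at this
  have e2 : c = a * (a⁻¹ * c * a) * a⁻¹ := by group
  rw [e2]
  exact mul_mem (mul_mem (Subgroup.mem_sup_left ha) (Subgroup.mem_sup_right h3))
    (inv_mem (Subgroup.mem_sup_left ha))

end Cfsg.Agent.H939.RgdB4
end

-- part: H939/FrameRel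
section
/-!
Relations between the root elements of a Witt frame (S5900).
-/

set_option autoImplicit false
set_option linter.unusedSectionVars false
set_option linter.dupNamespace false

namespace Cfsg.Agent.H939.FrameRel

open Cfsg Cfsg.Agent.ChevalleyStructure.CoxeterGeom Cfsg.Agent.Tits.Roots Cfsg.Agent.Nodes.TypeC
open Cfsg.Agent.Nodes.Comb Cfsg.Agent.Nodes.Reps Cfsg.Agent.Nodes.WittRoot Cfsg.Agent.Nodes.BNOf
open Cfsg.Agent.Nodes.RGDLib Cfsg.Agent.Nodes.WittAll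
open Cfsg.Agent.TitsThree Cfsg.Agent.TitsThree.Siegel Cfsg.Agent.TitsThree.WittFrame
  Cfsg.Agent.TitsThree.WittWeyl Cfsg.Agent.TitsThree.FrameCN
open Cfsg.Agent.KFacts.RgdFiltWitt

variable {F : Type*} [Field F] {V : Type*} [AddCommGroup V] [Module F V] {H : HForm F V} {n : ℕ}
  {Fr : Frame H (Fin n)}

theorem fst_ne_of {a c : Fin n × Bool} (h1 : c ≠ a) (h2 : c ≠ ng a) : c.1 ≠ a.1 := fun h =>
  h2 (eq_ng_of h.symm h1)

theorem fst_of_ng {a c : Fin n × Bool} (h : a = ng c) : a.1 = c.1 := by rw [h]; rfl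

theorem ne_ng (a : Fin n × Bool) : a ≠ ng a := fun h => absurd (congrArg Prod.snd h) (by simp)

theorem X_pow (a b : Fin n × Bool) (t : F) (m : ℕ) : Fr.X a b t ^ m = Fr.X a b (m * t) := by
  induction m with
  | zero => rw [pow_zero, Nat.cast_zero, zero_mul, Fr.X_zero]
  | succ m ih => rw [pow_succ, ih, ← Fr.X_add, Nat.cast_succ, add_mul, one_mul]

theorem Z_pow (a : Fin n × Bool) (q : Fr.Adm) (m : ℕ) : Fr.Z a q ^ m = Fr.Z a (q ^ m) := by
  induction m with
  | zero => rw [pow_zero, pow_zero, Fr.Z_one]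
  | succ m ih => rw [pow_succ, ih, ← Fr.Z_mul, pow_succ]

theorem adm_pow_w (q : Fr.Adm) (m : ℕ) : (q ^ m).w = (m : F) • q.w := by
  induction m with
  | zero => rw [pow_zero, Nat.cast_zero, zero_smul]; rfl
  | succ m ih => rw [pow_succ, Frame.Adm.mul_w, ih, Nat.cast_succ, add_smul, one_smul]

theorem adm_pow_c {q : Fr.Adm} (hq : q.w = 0) (m : ℕ) : (q ^ m).c = (m : F) * q.c := by
  induction m with
  | zero => rw [pow_zero, Nat.cast_zero, zero_mul]; rfl
  | succ m ih => rw [pow_succ, Frame.Adm.mul_c, ih, hq, H.zero_left, mul_zero, sub_zero, Nat.cast_succ]; ring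

/-- `Z a (0, c)` commutes with the root groups of all roots `x` with `⟨x, a⟩ ≥ 0` -/
theorem comm_Z0_PG {a c d : Fin n × Bool} (hcd : Ok c d) (hc : c ≠ ng a) (hd : d ≠ ng a) {z g : V ≃ₗ[F] V}
    (hz : z ∈ Z0G Fr a) (hg : g ∈ PG Fr c d) : z * g = g * z := by
  obtain ⟨q, hq, rfl⟩ := hz
  rcases hcd with hcd | rfl
  · rw [PG_ne Fr hcd] at hg
    obtain ⟨t, rfl⟩ := hg
    exact Fr.commute_ZX (x := a) (y := c) (z := d) hc hd q t
  · rw [PG_self] at hg
    obtain ⟨p, rfl⟩ := hg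
    by_cases hca : c = a
    · subst hca
      rw [← Fr.Z_mul, ← Fr.Z_mul]
      congr 1
      ext
      · rw [Frame.Adm.mul_w, Frame.Adm.mul_w, add_comm]
      · rw [Frame.Adm.mul_c, Frame.Adm.mul_c, hq, H.zero_left, H.zero_right]; ring
    · rw [Fr.Z_mul_Z (fst_ne_of hca hc).symm, hq, H.zero_left, map_zero, mul_zero, neg_zero, Fr.X_zero, one_mul]

/-- the root groups `X_{a,c}`, `X_{a,d}` commute modulo `Z0G a` -/
theorem comm_PG_same {a c d : Fin n × Bool} (hac : Ok a c) (had : Ok a d) {g k : V ≃ₗ[F] V}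
    (hg : g ∈ PG Fr a c) (hk : k ∈ PG Fr a d) : g * k * g⁻¹ * k⁻¹ ∈ Z0G Fr a := by
  have one : g * k = k * g → g * k * g⁻¹ * k⁻¹ ∈ Z0G Fr a := by
    intro h
    rw [h, mul_inv_cancel_right, mul_inv_cancel]
    exact one_mem _
  rcases hac with hac | rfl
  · rw [PG_ne Fr hac] at hg
    obtain ⟨s, rfl⟩ := hg
    rcases had with had | rfl
    · rw [PG_ne Fr had] at hk
      obtain ⟨t, rfl⟩ := hk
      by_cases hcd : d = ng c
      · subst hcd
        have h1 := Fr.X_mul_X_same hac s t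
        refine ⟨Frame.Adm.tr (H.σ s * t * (Fr.η (neg c))⁻¹), rfl, ?_⟩
        have h2 : Fr.X a c s * Fr.X a (ng c) t = _ := h1
        rw [h2]
        show _ * (Fr.X a (ng c) t * Fr.X a c s) * (Fr.X a c s)⁻¹ * (Fr.X a (ng c) t)⁻¹ = _
        group
      · apply one
        refine Fr.commute_XX (x := a) (y := c) (z := a) (u := d) ?_ ?_ ?_ hcd s t
        · exact ne_ng a
        · exact fun h => hac (fst_of_ng h)
        · exact fun h => had (fst_of_ng h).symm
    · apply one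
      rw [PG_self] at hk
      obtain ⟨q, rfl⟩ := hk
      refine (Fr.commute_ZX (x := a) (y := a) (z := c) ?_ ?_ q s).symm
      · exact ne_ng a
      · exact fun h => hac (fst_of_ng h).symm
  · rw [PG_self] at hg
    obtain ⟨q, rfl⟩ := hg
    rcases had with had | rfl
    · apply one
      rw [PG_ne Fr had] at hk
      obtain ⟨t, rfl⟩ := hk
      refine Fr.commute_ZX (x := a) (y := a) (z := d) ?_ ?_ q t
      · exact ne_ng a
      · exact fun h => had (fst_of_ng h).symm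
    · rw [PG_self] at hk
      obtain ⟨p, rfl⟩ := hk
      refine ⟨q * p * q⁻¹ * p⁻¹, ?_, ?_⟩
      · simp only [Frame.Adm.mul_w, Frame.Adm.inv_w]; abel
      · rw [← Fr.Z_inv, ← Fr.Z_inv, ← Fr.Z_mul, ← Fr.Z_mul, ← Fr.Z_mul]

theorem pow_PG {p : ℕ} [CharP F p] {a c : Fin n × Bool} (hac : Ok a c) {g : V ≃ₗ[F] V} (hg : g ∈ PG Fr a c) :
    g ^ p ∈ Z0G Fr a := by
  rcases hac with hac | rfl
  · rw [PG_ne Fr hac] at hg
    obtain ⟨s, rfl⟩ := hg
    rw [X_pow, CharP.cast_eq_zero, zero_mul, Fr.X_zero]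
    exact one_mem _
  · rw [PG_self] at hg
    obtain ⟨q, rfl⟩ := hg
    rw [Z_pow]
    exact ⟨_, by rw [adm_pow_w, CharP.cast_eq_zero, zero_smul], rfl⟩

theorem pow_Z0 {p : ℕ} [CharP F p] {a : Fin n × Bool} {g : V ≃ₗ[F] V} (hg : g ∈ Z0G Fr a) : g ^ p = 1 := by
  obtain ⟨q, hq, rfl⟩ := hg
  rw [Z_pow]
  have : q ^ p = 1 := by
    ext
    · rw [adm_pow_w, CharP.cast_eq_zero, zero_smul]; rfl
    · rw [adm_pow_c hq, CharP.cast_eq_zero, zero_mul]; rfl
  rw [this, Fr.Z_one]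

/-! ### the class of `X_{a,b}` -/

/-- the traces vanish and the group of pairs has exponent `p` -/
structure TrZ (Fr : Frame H (Fin n)) (p : ℕ) : Prop where
  tr : ∀ m : F, (Frame.Adm.tr m : Fr.Adm) = 1
  pow : ∀ q : Fr.Adm, q ^ p = 1

theorem TrZ.eps {p : ℕ} (hT : TrZ Fr p) : H.ε = 1 := by
  have h4 := congrArg Frame.Adm.c (hT.tr 1)
  rw [Frame.Adm.tr_c, Frame.Adm.one_c, map_one, mul_one, sub_eq_zero] at h4
  exact inv_eq_one.1 h4.symm

theorem TrZ.sigma {p : ℕ} (hT : TrZ Fr p) (m : F) : H.σ m = m := by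
  have h4 := congrArg Frame.Adm.c (hT.tr m)
  rw [Frame.Adm.tr_c, Frame.Adm.one_c, hT.eps, inv_one, one_mul, sub_eq_zero] at h4
  exact h4.symm

theorem TrZ.comm {p : ℕ} (hT : TrZ Fr p) (q r : Fr.Adm) : q * r = r * q := by
  have h2 : H.h r.w q.w = H.h q.w r.w := by rw [H.swap q.w r.w, hT.eps, hT.sigma, one_mul]
  ext
  · rw [Frame.Adm.mul_w, Frame.Adm.mul_w, add_comm]
  · rw [Frame.Adm.mul_c, Frame.Adm.mul_c, h2]; ring

/-- `X_{a,c}` and `X_{a,d}` commute -/
theorem comm_same {p : ℕ} (hT : TrZ Fr p) {a c d : Fin n × Bool} (hac : Ok a c) (had : Ok a d) {g k : V ≃ₗ[F] V}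
    (hg : g ∈ PG Fr a c) (hk : k ∈ PG Fr a d) : g * k = k * g := by
  rcases hac with hac | rfl
  · rw [PG_ne Fr hac] at hg
    obtain ⟨s, rfl⟩ := hg
    rcases had with had | rfl
    · rw [PG_ne Fr had] at hk
      obtain ⟨t, rfl⟩ := hk
      by_cases hcd : d = ng c
      · subst hcd
        have h1 := Fr.X_mul_X_same hac s t
        rw [hT.tr, Fr.Z_one, one_mul] at h1
        exact h1
      · refine Fr.commute_XX (x := a) (y := c) (z := a) (u := d) ?_ ?_ ?_ hcd s t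
        · exact ne_ng a
        · exact fun h => hac (fst_of_ng h)
        · exact fun h => had (fst_of_ng h).symm
    · rw [PG_self] at hk
      obtain ⟨q, rfl⟩ := hk
      refine (Fr.commute_ZX (x := a) (y := a) (z := c) ?_ ?_ q s).symm
      · exact ne_ng a
      · exact fun h => hac (fst_of_ng h).symm
  · rw [PG_self] at hg
    obtain ⟨q, rfl⟩ := hg
    rcases had with had | rfl
    · rw [PG_ne Fr had] at hk
      obtain ⟨t, rfl⟩ := hk
      refine Fr.commute_ZX (x := a) (y := a) (z := d) ?_ ?_ q t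
      · exact ne_ng a
      · exact fun h => had (fst_of_ng h).symm
    · rw [PG_self] at hk
      obtain ⟨r, rfl⟩ := hk
      rw [← Fr.Z_mul, ← Fr.Z_mul, hT.comm]

/-- root groups without opposite indices commute -/
theorem comm_far {a b c d : Fin n × Bool} (hab : Ok a b) (hcd : Ok c d) (hne : ¬ (a = b ∧ c = d)) (h1 : c ≠ ng a)
    (h2 : c ≠ ng b) (h3 : d ≠ ng a) (h4 : d ≠ ng b) {g k : V ≃ₗ[F] V} (hg : g ∈ PG Fr a b) (hk : k ∈ PG Fr c d) :
    g * k = k * g := by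
  rcases hab with hab | rfl
  · rw [PG_ne Fr hab] at hg
    obtain ⟨s, rfl⟩ := hg
    rcases hcd with hcd | rfl
    · rw [PG_ne Fr hcd] at hk
      obtain ⟨t, rfl⟩ := hk
      exact Fr.commute_XX (x := a) (y := b) (z := c) (u := d) h1 h2 h3 h4 s t
    · rw [PG_self] at hk
      obtain ⟨q, rfl⟩ := hk
      refine (Fr.commute_ZX (x := c) (y := a) (z := b) ?_ ?_ q s).symm
      · rintro rfl; exact h1 (ng_ng c).symm
      · rintro rfl; exact h2 (ng_ng c).symm
  · rw [PG_self] at hg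
    obtain ⟨q, rfl⟩ := hg
    rcases hcd with hcd | rfl
    · rw [PG_ne Fr hcd] at hk
      obtain ⟨t, rfl⟩ := hk
      exact Fr.commute_ZX (x := a) (y := c) (z := d) h1 h3 q t
    · exact absurd ⟨rfl, rfl⟩ hne

/-- the commutators of `V_{e_a + e_b}` -/
theorem comm_V {p : ℕ} (hT : TrZ Fr p) {a b c d : Fin n × Bool} (hab : a.1 ≠ b.1) (hac : Ok a c) (hbd : Ok b d)
    (hc : c ≠ ng b) (hd : d ≠ ng a) {g k : V ≃ₗ[F] V} (hg : g ∈ PG Fr a c) (hk : k ∈ PG Fr b d) :
    g * k * g⁻¹ * k⁻¹ ∈ XG Fr a b := by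
  have one : g * k = k * g → g * k * g⁻¹ * k⁻¹ ∈ XG Fr a b := by
    intro h
    rw [h, mul_inv_cancel_right, mul_inv_cancel]
    exact one_mem _
  have hba : b ≠ ng a := fun h => hab (fst_of_ng h).symm
  by_cases h1 : a = c ∧ b = d
  · obtain ⟨rfl, rfl⟩ := h1
    rw [PG_self] at hg hk
    obtain ⟨q, rfl⟩ := hg
    obtain ⟨r, rfl⟩ := hk
    refine ⟨-(Fr.η b * H.σ (H.h q.w r.w)), ?_⟩
    rw [Fr.Z_mul_Z hab]
    group
  by_cases h2 : d = ng c
  · -- `c ≠ a`, `d ≠ b`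
    subst h2
    have hca : a.1 ≠ c.1 := by
      rcases hac with h | rfl
      · exact h
      · exact absurd rfl hd
    have hbc : c.1 ≠ b.1 := by
      rcases hbd with h | h
      · exact fun h' => h (by rw [← h']; rfl)
      · exact absurd (by rw [h, ng_ng]) hc
    rw [PG_ne Fr hca] at hg
    have hbc' : b.1 ≠ (ng c).1 := fun h => hbc h.symm
    rw [PG_ne Fr hbc', XG_swap Fr hbc'] at hk
    obtain ⟨s, rfl⟩ := hg
    obtain ⟨t, rfl⟩ := hk
    refine ⟨s * t, ?_⟩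
    have e1 := Fr.conj_X_X hca hbc hab s t
    have e3 : Fr.X a c s * Fr.X (ng c) b t * (Fr.X a c s)⁻¹ = _ := e1
    rw [e3]
    exact mul_inv_cancel_right _ _
  · apply one
    exact comm_far hac hbd h1 hba (by rintro rfl; exact hc (ng_ng c).symm) hd h2 hg hk

theorem pow_PG' {p : ℕ} [CharP F p] (hT : TrZ Fr p) {a c : Fin n × Bool} (hac : Ok a c) {g : V ≃ₗ[F] V}
    (hg : g ∈ PG Fr a c) : g ^ p = 1 := by
  rcases hac with hac | rfl
  · rw [PG_ne Fr hac] at hg
    obtain ⟨s, rfl⟩ := hg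
    rw [X_pow, CharP.cast_eq_zero, zero_mul, Fr.X_zero]
  · rw [PG_self] at hg
    obtain ⟨q, rfl⟩ := hg
    rw [Z_pow, hT.pow, Fr.Z_one]

/-- the rank one group of transvections -/
theorem mu_S {a : Fin n × Bool} {q : Fr.Adm} (hq : q.w = 0) (hc : q.c ≠ 0) :
    ∃ s : Fr.Adm, s.w = 0 ∧ s.c ≠ 0 ∧ Fr.Z a s ∈ Z0G Fr (ng a) ⊔ cj (Fr.Z a q) (Z0G Fr (ng a)) := by
  set y : Fin n × Bool := ng a with hy
  have hny : neg y = a := by rw [hy]; exact ng_ng a
  have hη := Fr.η_ne y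
  set μ : F := -(Fr.η y * q.c)⁻¹ with hμ
  have hμ0 : μ ≠ 0 := neg_ne_zero.2 (inv_ne_zero (mul_ne_zero hη hc))
  have hσμ : H.σ μ ≠ 0 := by simpa using hμ0
  have hσq : H.σ q.c ≠ 0 := by simpa using hc
  set p : Fr.Adm := Frame.Adm.smul μ q with hp
  have hpc : p.c = μ * H.σ μ * q.c := rfl
  have hpw : p.w = 0 := by rw [hp, Frame.Adm.smul_w, hq, smul_zero]
  have hp' : p.c ≠ 0 := by rw [hpc]; exact mul_ne_zero (mul_ne_zero hμ0 hσμ) hc
  have hmid : Frame.Adm.smul (-(Fr.η y * (H.σ p.c)⁻¹)) p = q := by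
    rw [hp, Frame.Adm.smul_smul]
    have e1 : -(Fr.η y * (H.σ (Frame.Adm.smul μ q).c)⁻¹) * μ = 1 := by
      rw [Frame.Adm.smul_c, map_mul, map_mul, H.σσ, hμ]
      simp only [map_neg, map_inv₀, map_mul, Fr.σ_η]
      field_simp
    rw [e1, Frame.Adm.one_smul]
  set p' : Fr.Adm := Frame.Adm.smul (H.ε * p.c * (H.σ p.c)⁻¹) p with hp''
  have hp'w : p'.w = 0 := by rw [hp'', Frame.Adm.smul_w, hpw, smul_zero]
  have hN : nZ Fr y p = Fr.Z y p * Fr.Z a q * Fr.Z y p' := by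
    rw [nZ, hmid, hny]
  obtain ⟨l, hl, hNb⟩ : ∃ l : F, l ≠ 0 ∧ nZ Fr y p (Fr.b y) = l • Fr.b a := by
    refine ⟨_, ?_, by rw [nZ_apply_self Fr y p hp', hny]⟩
    refine mul_ne_zero (mul_ne_zero H.ε_ne (inv_ne_zero hη)) (inv_ne_zero ?_)
    simpa using hp'
  have hconj := conj_Z Fr (isIso_nZ Fr y p) hNb q q (by rw [hq, map_zero]) rfl
  have hσl : H.σ l ≠ 0 := by simpa using hl
  refine ⟨Frame.Adm.smul (H.σ l) q, by rw [Frame.Adm.smul_w, hq, smul_zero], ?_, ?_⟩
  · rw [Frame.Adm.smul_c]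
    refine mul_ne_zero (mul_ne_zero hσl ?_) hc
    simpa using hl
  · rw [← hconj]
    have h1 : Fr.Z y p ∈ Z0G Fr y := ⟨p, hpw, rfl⟩
    have h2 : Fr.Z y p' ∈ Z0G Fr y := ⟨p', hp'w, rfl⟩
    have h3 : Fr.Z y q ∈ Z0G Fr y := ⟨q, hq, rfl⟩
    have h4 : Fr.Z a q * (Fr.Z y p' * Fr.Z y q * (Fr.Z y p')⁻¹) * (Fr.Z a q)⁻¹ ∈ cj (Fr.Z a q) (Z0G Fr y) :=
      conj_mem_cj.2 (mul_mem (mul_mem h2 h3) (inv_mem h2))
    have e : nZ Fr y p * Fr.Z y q * (nZ Fr y p)⁻¹ =
        Fr.Z y p * (Fr.Z a q * (Fr.Z y p' * Fr.Z y q * (Fr.Z y p')⁻¹) * (Fr.Z a q)⁻¹) * (Fr.Z y p)⁻¹ := by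
      rw [hN]; group
    rw [e]
    exact mul_mem (mul_mem (Subgroup.mem_sup_left h1) (Subgroup.mem_sup_right h4))
      (inv_mem (Subgroup.mem_sup_left h1))

end Cfsg.Agent.H939.FrameRel
end

-- part: H939/FrameCls
section
/-!
The classes of root subgroups of a model of a Witt frame (S5900).
-/

set_option autoImplicit false
set_option linter.unusedSectionVars false
set_option linter.dupNamespace false

namespace Cfsg.Agent.H939.FrameCls

open CoxeterSystem Cfsg Cfsg.Agent.ChevalleyStructure.CoxeterGeom Cfsg.Agent.Tits.Roots Cfsg.Agent.Nodes.TypeC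
open Cfsg.Agent.Nodes.Comb Cfsg.Agent.Nodes.Reps Cfsg.Agent.Nodes.WittRoot Cfsg.Agent.Nodes.BNOf
open Cfsg.Agent.Nodes.RGDLib Cfsg.Agent.Nodes.WittAll Cfsg.Agent.Nodes.StabComb Cfsg.Agent.Nodes.LeviDec
open Cfsg.Agent.Nodes.OppDec
open Cfsg.Agent.TitsThree Cfsg.Agent.TitsThree.Siegel Cfsg.Agent.TitsThree.WittFrame
  Cfsg.Agent.TitsThree.WittWeyl Cfsg.Agent.TitsThree.FrameCN
open Cfsg.Agent.KFacts.RgdFiltWitt Cfsg.Agent.H939.FrameRel Cfsg.Agent.H939.RgdTwo Cfsg.Agent.H939.ClsOf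
  Cfsg.Agent.H939.RgdA

section General

variable {I W Y : Type*} [Fintype I] [DecidableEq I] [Group W] [Group Y] {M : CoxeterMatrix I}
  {cs : CoxeterSystem M W} {A : I → I → ℤ} {h : IsCartan M A} {p : ℕ} {T : Subgroup Y} {n : I → Y}
  {X : (I → ℤ) → Subgroup Y}

/-- a central element of a root group is trivial -/
theorem eq_one_of_central [Finite W] (R : RGD cs h p T n X) {x : I → ℤ} (hx : IsRoot cs h x) {z : Y} (hz : z ∈ X x)
    (hc : z ∈ Subgroup.center Y) : z = 1 := by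
  obtain ⟨w, hw⟩ := exists_neg (cs := cs) (h := h) hx
  obtain ⟨k, hk⟩ := exists_rp cs R.nsys w
  have h1 : k * z * k⁻¹ ∈ X (rep cs h w x) := R.conj_mem hk hx hz
  have h2 : k * z * k⁻¹ = z := by
    rw [Subgroup.mem_center_iff.1 hc k, mul_inv_cancel_right]
  rw [h2, hw] at h1
  have h3 : z ∈ X x ⊓ X (-x) := ⟨hz, h1⟩
  have hne : x ≠ -x := by
    intro h4
    apply hx.ne_zero
    funext i
    have := congrFun h4 i
    rw [Pi.neg_apply] at this
    rw [Pi.zero_apply]; omega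
  rw [X_inf_X R hx hx.neg hne, Subgroup.mem_bot] at h3
  exact h3

end General

/-! ### coordinates -/

section Coord

variable {n : ℕ} {W : Type*} [Group W] {cs : CoxeterSystem (CoxeterMatrix.B n) W}

theorem bt_zero (hn : 0 < n) (j : Fin n) : bt j ⟨0, hn⟩ = if (j : ℕ) = 0 then (if 1 < n then 1 else 2) else 0 := by
  rw [bt_apply]
  have := j.2
  have e0 : ((⟨0, hn⟩ : Fin n) : ℕ) = 0 := rfl
  rw [e0]
  split_ifs <;> omega

theorem bt_one (hn : 1 < n) (j : Fin n) : bt j ⟨0, by omega⟩ + bt j ⟨1, hn⟩ =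
    if (j : ℕ) = 1 then (if 2 < n then 1 else 2) else 0 := by
  rw [bt_apply, bt_apply]
  have := j.2
  have e0 : ((⟨0, by omega⟩ : Fin n) : ℕ) = 0 := rfl
  have e1 : ((⟨1, hn⟩ : Fin n) : ℕ) = 1 := rfl
  rw [e0, e1]
  split_ifs <;> first | omega | contradiction

theorem ee_zero (hn : 0 < n) (x : Fin n → ℤ) : ee x ⟨0, hn⟩ = (if 1 < n then 1 else 2) * x ⟨0, hn⟩ := by
  unfold ee
  rw [Finset.sum_apply, Finset.sum_eq_single ⟨0, hn⟩]
  · rw [Pi.smul_apply, smul_eq_mul, bt_zero, if_pos rfl, mul_comm]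
  · intro j _ hj
    have hj' : (j : ℕ) ≠ 0 := fun h => hj (Fin.ext h)
    rw [Pi.smul_apply, smul_eq_mul, bt_zero, if_neg hj', mul_zero]
  · intro h; exact absurd (Finset.mem_univ _) h

theorem ee_one (hn : 1 < n) (x : Fin n → ℤ) : ee x ⟨0, by omega⟩ + ee x ⟨1, hn⟩ =
    (if 2 < n then 1 else 2) * x ⟨1, hn⟩ := by
  unfold ee
  rw [Finset.sum_apply, Finset.sum_apply, ← Finset.sum_add_distrib, Finset.sum_eq_single ⟨1, hn⟩]
  · rw [Pi.smul_apply, Pi.smul_apply, smul_eq_mul, smul_eq_mul, ← mul_add, bt_one, if_pos rfl, mul_comm]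
  · intro j _ hj
    have hj' : (j : ℕ) ≠ 1 := fun h => hj (Fin.ext h)
    rw [Pi.smul_apply, Pi.smul_apply, smul_eq_mul, smul_eq_mul, ← mul_add, bt_one, if_neg hj', mul_zero]
  · intro h; exact absurd (Finset.mem_univ _) h

theorem Cf_wt (i k : Fin n) : Cf i (wt (k, true)) =
    if (k : ℕ) = i then 1 else if (k : ℕ) = i + 1 then -1 else 0 := by
  unfold Cf
  have := k.2
  have := i.2
  by_cases h : (i : ℕ) + 1 < n
  · rw [dif_pos h, wt_apply, wt_apply]
    simp only [Fin.ext_iff, if_true]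
    split_ifs <;> omega
  · rw [dif_neg h, wt_apply]
    simp only [Fin.ext_iff, if_true]
    split_ifs <;> omega

/-- positive roots have no index `-e_0` -/
theorem ne_of_zero (hn : 0 < n) {x : Fin n → ℤ} (h0 : 0 ≤ x) {a b : Fin n × Bool} (hab : Ok a b)
    (e : ee x = wt a + wt b) : a ≠ (⟨0, hn⟩, false) ∧ b ≠ (⟨0, hn⟩, false) := by
  have h1 : 0 ≤ ee x ⟨0, hn⟩ := by
    rw [ee_zero]
    exact mul_nonneg (by split_ifs <;> norm_num) (h0 _)
  rw [e, Pi.add_apply] at h1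
  have key : ∀ a b : Fin n × Bool, Ok a b → 0 ≤ wt a ⟨0, hn⟩ + wt b ⟨0, hn⟩ → a ≠ (⟨0, hn⟩, false) := by
    rintro a b hab h1 rfl
    rw [wt_apply, wt_apply] at h1
    rcases hab with hab | rfl
    · simp only at hab
      rw [if_neg hab] at h1
      simp at h1
    · simp at h1
  exact ⟨key a b hab h1, key b a hab.symm (by rw [add_comm]; exact h1)⟩

theorem or_of_zero (hn : 0 < n) {x : Fin n → ℤ} (h0 : 0 < x ⟨0, hn⟩) {a b : Fin n × Bool}
    (e : ee x = wt a + wt b) : a = (⟨0, hn⟩, true) ∨ b = (⟨0, hn⟩, true) := by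
  have h1 : 0 < ee x ⟨0, hn⟩ := by
    rw [ee_zero]
    exact mul_pos (by split_ifs <;> norm_num) h0
  rw [e, Pi.add_apply, wt_apply, wt_apply] at h1
  obtain ⟨a, s⟩ := a
  obtain ⟨b, t⟩ := b
  simp only at h1
  by_cases ha : ⟨0, hn⟩ = a
  · subst ha
    cases s
    · by_cases hb : ⟨0, hn⟩ = b
      · subst hb
        cases t <;> simp at h1
      · rw [if_neg hb] at h1; simp at h1
    · left; rfl
  · rw [if_neg ha] at h1
    by_cases hb : ⟨0, hn⟩ = b
    · subst hb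
      cases t
      · simp at h1
      · right; rfl
    · rw [if_neg hb] at h1; simp at h1

/-- the coordinates at `0` and `1` -/
theorem of_one (hn0 : 0 < n) (hn : 1 < n) {x : Fin n → ℤ} (h0 : 0 ≤ x) {a b : Fin n × Bool} (hab : Ok a b)
    (e : ee x = wt a + wt b) : a ≠ (⟨0, hn0⟩, false) ∧ b ≠ (⟨0, hn0⟩, false) ∧
      (a = (⟨1, hn⟩, false) → b = (⟨0, hn0⟩, true)) ∧ (b = (⟨1, hn⟩, false) → a = (⟨0, hn0⟩, true)) := by
  obtain ⟨h2, h3⟩ := ne_of_zero hn0 h0 hab e
  refine ⟨h2, h3, ?_⟩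
  have h1 : 0 ≤ ee x ⟨0, hn0⟩ + ee x ⟨1, hn⟩ := by
    rw [ee_one hn]
    exact mul_nonneg (by split_ifs <;> norm_num) (h0 _)
  rw [e, Pi.add_apply, Pi.add_apply] at h1
  have key : ∀ a b : Fin n × Bool, Ok a b → a ≠ (⟨0, hn0⟩, false) →
      0 ≤ wt a ⟨0, hn0⟩ + wt b ⟨0, hn0⟩ + (wt a ⟨1, hn⟩ + wt b ⟨1, hn⟩) →
      (b = (⟨1, hn⟩, false) → a = (⟨0, hn0⟩, true)) := by
    rintro a b hab h2 h1 rfl
    rw [wt_apply, wt_apply, wt_apply, wt_apply] at h1
    obtain ⟨a, s⟩ := a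
    have hne : (⟨0, hn0⟩ : Fin n) ≠ ⟨1, hn⟩ := by simp
    simp only [if_true, if_false, hne, Bool.false_eq_true] at h1
    rcases hab with hab | hab
    · simp only at hab
      rw [if_neg (Ne.symm hab)] at h1
      by_cases ha : ⟨0, hn0⟩ = a
      · subst ha
        cases s
        · exact absurd rfl h2
        · rfl
      · rw [if_neg ha] at h1
        simp at h1
    · rw [Prod.ext_iff] at hab
      obtain ⟨rfl, rfl⟩ := hab
      simp at h1
  exact ⟨key b a hab.symm h3 (by linarith only [h1]), key a b hab h2 h1⟩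

theorem or_of_one (hn0 : 0 < n) (hn : 1 < n) {x : Fin n → ℤ} (h0 : 0 ≤ x) (h1 : 0 < x ⟨1, hn⟩) {a b : Fin n × Bool}
    (hab : Ok a b) (e : ee x = wt a + wt b) :
    (a = (⟨0, hn0⟩, true) ∧ b ≠ (⟨1, hn⟩, false)) ∨ (b = (⟨0, hn0⟩, true) ∧ a ≠ (⟨1, hn⟩, false)) ∨
      (a = (⟨1, hn⟩, true) ∧ b ≠ (⟨0, hn0⟩, false)) ∨ (b = (⟨1, hn⟩, true) ∧ a ≠ (⟨0, hn0⟩, false)) := by
  obtain ⟨h2, h3, h4, h5⟩ := of_one hn0 hn h0 hab e
  have h1 : 0 < ee x ⟨0, hn0⟩ + ee x ⟨1, hn⟩ := by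
    rw [ee_one hn]
    exact mul_pos (by split_ifs <;> norm_num) h1
  rw [e, Pi.add_apply, Pi.add_apply, wt_apply, wt_apply, wt_apply, wt_apply] at h1
  obtain ⟨a, s⟩ := a
  obtain ⟨b, t⟩ := b
  have hne : (⟨0, hn0⟩ : Fin n) ≠ ⟨1, hn⟩ := by simp
  have hne' : (⟨1, hn⟩ : Fin n) ≠ ⟨0, hn0⟩ := by simp
  simp only at h1
  by_cases ha : ⟨0, hn0⟩ = a
  · subst ha
    rw [if_pos rfl, if_neg hne'] at h1
    by_cases hb : ⟨1, hn⟩ = b
    · subst hb
      rw [if_neg hne, if_pos rfl] at h1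
      cases s <;> cases t <;> simp_all only [_root_.ne_eq, _root_.Fin.mk.injEq, _root_.zero_ne_one, _root_.not_false_eq_true, _root_.one_ne_zero, _root_.not_true_eq_false, _root_.Prod.mk.injEq, _root_.Bool.true_eq_false, _root_.and_false, _root_.and_true, _root_.and_self, _root_.Bool.false_eq_true, _root_.implies_true, _root_.imp_self, ↓ _root_.reduceIte, _root_.add_zero, _root_.Int.reduceNeg, _root_.zero_add, _root_.add_neg_cancel, _root_.lt_self_iff_false, _root_.Int.reduceAdd, _root_.Order.lt_two_iff, _root_.zero_le_one, _root_.or_true, _root_.or_self]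
    · left
      rw [if_neg hb] at h1
      by_cases hb' : ⟨0, hn0⟩ = b
      · subst hb'
        cases s <;> cases t <;> simp_all only [_root_.ne_eq, _root_.Fin.mk.injEq, _root_.zero_ne_one, _root_.not_false_eq_true, _root_.one_ne_zero, _root_.not_true_eq_false, _root_.Prod.mk.injEq, _root_.Bool.true_eq_false, _root_.and_false, _root_.and_self, _root_.implies_true, ↓ _root_.reduceIte, _root_.Int.reduceAdd, _root_.add_zero, _root_.Order.lt_two_iff, _root_.zero_le_one]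
      · rw [if_neg hb'] at h1
        cases s
        · simp at h1
        · exact ⟨rfl, fun h => hb (congrArg Prod.fst h).symm⟩
  · rw [if_neg ha] at h1
    by_cases ha' : ⟨1, hn⟩ = a
    · subst ha'
      rw [if_pos rfl] at h1
      by_cases hb : ⟨1, hn⟩ = b
      · subst hb
        rw [if_neg hne, if_pos rfl] at h1
        cases s <;> cases t <;> simp_all only [_root_.ne_eq, _root_.not_false_eq_true, _root_.Fin.mk.injEq, _root_.one_ne_zero, _root_.zero_ne_one, _root_.Prod.mk.injEq, _root_.Bool.true_eq_false, _root_.and_false, _root_.imp_self, _root_.Bool.false_eq_true, _root_.and_self, _root_.imp_false, _root_.not_true_eq_false, _root_.and_true, _root_.implies_true, _root_.add_zero, ↓ _root_.reduceIte, _root_.Int.reduceAdd, _root_.zero_add, _root_.Order.lt_two_iff, _root_.zero_le_one, _root_.or_self, _root_.or_true]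
      · rw [if_neg hb] at h1
        by_cases hb' : ⟨0, hn0⟩ = b
        · subst hb'
          rw [if_pos rfl] at h1
          cases s <;> cases t <;> simp_all only [_root_.ne_eq, _root_.not_false_eq_true, _root_.Fin.mk.injEq, _root_.zero_ne_one, _root_.one_ne_zero, _root_.Prod.mk.injEq, _root_.Bool.false_eq_true, _root_.and_self, _root_.not_true_eq_false, _root_.and_true, _root_.Bool.true_eq_false, _root_.and_false, _root_.imp_self, _root_.implies_true, ↓ _root_.reduceIte, _root_.zero_add, _root_.Int.reduceNeg, _root_.add_zero, _root_.add_neg_cancel, _root_.lt_self_iff_false, _root_.Int.reduceAdd, _root_.Order.lt_two_iff, _root_.zero_le_one, _root_.or_false, _root_.or_self, _root_.or_true]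
        · rw [if_neg hb'] at h1
          cases s
          · simp at h1
          · right; right; left; exact ⟨rfl, fun h => hb' (congrArg Prod.fst h).symm⟩
    · rw [if_neg ha'] at h1
      by_cases hb : ⟨1, hn⟩ = b
      · subst hb
        rw [if_neg hne, if_pos rfl] at h1
        cases t
        · simp at h1
        · right; right; right; exact ⟨rfl, fun h => ha (congrArg Prod.fst h).symm⟩
      · rw [if_neg hb] at h1
        by_cases hb' : ⟨0, hn0⟩ = b
        · subst hb'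
          rw [if_pos rfl] at h1
          cases t
          · simp at h1
          · right; left; exact ⟨rfl, fun h => ha' (congrArg Prod.fst h).symm⟩
        · rw [if_neg hb'] at h1
          simp at h1

theorem pair_S (hn : 0 < n) {r : Fin n → ℤ} (e : ee r = wt (⟨0, hn⟩, true) + wt (⟨0, hn⟩, true)) (i : Fin n) :
    pairing (A n) i r = if (i : ℕ) = 0 then 2 else 0 := by
  rw [← Cf_ee, e, Cf_add, Cf_wt]
  have e0 : ((⟨0, hn⟩ : Fin n) : ℕ) = 0 := rfl
  rw [e0]
  split_ifs <;> first | omega | contradiction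

theorem dom_S (hn : 0 < n) {r : Fin n → ℤ} (e : ee r = wt (⟨0, hn⟩, true) + wt (⟨0, hn⟩, true)) : Dom (A n) r := by
  intro i
  rw [pair_S hn e]
  split_ifs <;> norm_num

theorem notJ_S (hn : 0 < n) {r : Fin n → ℤ} (e : ee r = wt (⟨0, hn⟩, true) + wt (⟨0, hn⟩, true)) {x : Fin n → ℤ}
    (hx : x ∈ NotJ cs (isCartan n) (orth cs (isCartan n) r)) {a b : Fin n × Bool}
    (ex : ee x = wt a + wt b) : a = (⟨0, hn⟩, true) ∨ b = (⟨0, hn⟩, true) := by
  obtain ⟨-, -, k, hk, hk0⟩ := hx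
  rw [mem_orth, pair_S hn e] at hk
  have hk1 : (k : ℕ) = 0 := by
    by_contra h
    exact hk (if_neg h)
  have : k = ⟨0, hn⟩ := Fin.ext hk1
  subst this
  exact or_of_zero hn hk0 ex

theorem pair_O (hn0 : 0 < n) (hn : 1 < n) {r : Fin n → ℤ} (e : ee r = wt (⟨0, hn0⟩, true) + wt (⟨1, hn⟩, true))
    (i : Fin n) : pairing (A n) i r = if (i : ℕ) = 1 then 1 else 0 := by
  rw [← Cf_ee, e, Cf_add, Cf_wt, Cf_wt]
  have e0 : ((⟨0, hn0⟩ : Fin n) : ℕ) = 0 := rfl
  have e1 : ((⟨1, hn⟩ : Fin n) : ℕ) = 1 := rfl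
  rw [e0, e1]
  split_ifs <;> first | omega | contradiction

theorem dom_O (hn0 : 0 < n) (hn : 1 < n) {r : Fin n → ℤ} (e : ee r = wt (⟨0, hn0⟩, true) + wt (⟨1, hn⟩, true)) :
    Dom (A n) r := by
  intro i
  rw [pair_O hn0 hn e]
  split_ifs <;> norm_num

theorem notJ_O (hn0 : 0 < n) (hn : 1 < n) {r : Fin n → ℤ} (e : ee r = wt (⟨0, hn0⟩, true) + wt (⟨1, hn⟩, true))
    {x : Fin n → ℤ} (hx : x ∈ NotJ cs (isCartan n) (orth cs (isCartan n) r)) {a b : Fin n × Bool} (hab : Ok a b)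
    (ex : ee x = wt a + wt b) :
    (a = (⟨0, hn0⟩, true) ∧ b ≠ (⟨1, hn⟩, false)) ∨ (b = (⟨0, hn0⟩, true) ∧ a ≠ (⟨1, hn⟩, false)) ∨
      (a = (⟨1, hn⟩, true) ∧ b ≠ (⟨0, hn0⟩, false)) ∨ (b = (⟨1, hn⟩, true) ∧ a ≠ (⟨0, hn0⟩, false)) := by
  obtain ⟨-, h0, k, hk, hk0⟩ := hx
  rw [mem_orth, pair_O hn0 hn e] at hk
  have hk1 : (k : ℕ) = 1 := by
    by_contra h
    exact hk (if_neg h)
  have : k = ⟨1, hn⟩ := Fin.ext hk1
  subst this
  exact or_of_one hn0 hn h0 hk0 hab ex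

theorem Cf_wt' (i : Fin n) (k : Fin n) (s : Bool) : Cf i (wt (k, s)) =
    if s = true then (if (k : ℕ) = i then 1 else if (k : ℕ) = i + 1 then -1 else 0) else
      (if (k : ℕ) = i then -1 else if (k : ℕ) = i + 1 then 1 else 0) := by
  cases s
  · have : wt (k, false) = -wt (k, true) := wt_ng (k, true)
    rw [this, ← neg_one_smul ℤ (wt (k, true)), Cf_smul, Cf_wt]
    simp only [Bool.false_eq_true, if_false]
    split_ifs <;> norm_num
  · rw [Cf_wt, if_pos rfl]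

theorem dom_long (hn : 0 < n) {r : Fin n → ℤ} (hd : Dom (A n) r) {a : Fin n × Bool} (e : ee r = wt a + wt a) :
    a = (⟨0, hn⟩, true) := by
  obtain ⟨k, s⟩ := a
  have h1 : ∀ i : Fin n, 0 ≤ pairing (A n) i r := fun i => hd i
  simp only [← Cf_ee, e, Cf_add, Cf_wt'] at h1
  have hs : s = true := by
    by_contra hs
    have := h1 k
    rw [if_neg hs, if_pos rfl] at this
    omega
  subst hs
  have hk : (k : ℕ) = 0 := by
    by_contra hk
    have hk' : (k : ℕ) - 1 < n := by have := k.2; omega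
    have h2 := h1 ⟨(k : ℕ) - 1, hk'⟩
    have e1 : ((⟨(k : ℕ) - 1, hk'⟩ : Fin n) : ℕ) = k - 1 := rfl
    rw [e1] at h2
    split_ifs at h2 <;> first | omega | contradiction
  rw [Prod.mk.injEq]
  exact ⟨Fin.ext hk, rfl⟩

theorem dom_short (hn0 : 0 < n) (hn : 1 < n) {r : Fin n → ℤ} (hd : Dom (A n) r) {a b : Fin n × Bool}
    (hab : a.1 ≠ b.1) (e : ee r = wt a + wt b) : ee r = wt (⟨0, hn0⟩, true) + wt (⟨1, hn⟩, true) := by
  have key2 : ∀ a b : Fin n × Bool, a.1 ≠ b.1 → ee r = wt a + wt b → (a.1 : ℕ) < b.1 →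
      ee r = wt (⟨0, hn0⟩, true) + wt (⟨1, hn⟩, true) := by
    rintro ⟨k, s⟩ ⟨l, t⟩ hab e hlt
    simp only at hab hlt
    have h1 : ∀ i : Fin n, 0 ≤ pairing (A n) i r := fun i => hd i
    simp only [← Cf_ee, e, Cf_add, Cf_wt'] at h1
    have ht : t = true := by
      by_contra ht
      have h2 := h1 l
      rw [if_neg ht] at h2
      split_ifs at h2 <;> first | omega | contradiction
    subst ht
    have hs : s = true := by
      by_contra hs
      have h2 := h1 k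
      have h3 := h1 l
      rw [if_neg hs] at h2 h3
      split_ifs at h2 <;> first | omega | contradiction
    subst hs
    have hk : (k : ℕ) = 0 := by
      by_contra hk
      have hk' : (k : ℕ) - 1 < n := by have := k.2; omega
      have h2 := h1 ⟨(k : ℕ) - 1, hk'⟩
      have e1 : ((⟨(k : ℕ) - 1, hk'⟩ : Fin n) : ℕ) = k - 1 := rfl
      rw [e1] at h2
      split_ifs at h2 <;> first | omega | contradiction
    have hl : (l : ℕ) = 1 := by
      by_contra hl
      have hl' : (l : ℕ) - 1 < n := by have := l.2; omega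
      have h2 := h1 ⟨(l : ℕ) - 1, hl'⟩
      have e1 : ((⟨(l : ℕ) - 1, hl'⟩ : Fin n) : ℕ) = l - 1 := rfl
      rw [e1] at h2
      split_ifs at h2 <;> first | omega | contradiction
    rw [e]
    have hk' : k = ⟨0, hn0⟩ := Fin.ext hk
    have hl' : l = ⟨1, hn⟩ := Fin.ext hl
    rw [hk', hl']
  rcases lt_trichotomy (a.1 : ℕ) (b.1 : ℕ) with h | h | h
  · exact key2 a b hab e h
  · exact absurd (Fin.ext h) hab
  · exact key2 b a hab.symm (by rw [e, add_comm]) h

end Coord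

/-! ### images in a model -/

section Model

variable {F : Type*} [Field F] {V : Type*} [AddCommGroup V] [Module F V] {H : HForm F V} {n : ℕ}
  {Fr : Frame H (Fin n)} {K : Type*} [Group K] (M : Model Fr K)

/-- the image of a subgroup in the model -/
def img (S : Subgroup (V ≃ₗ[F] V)) : Subgroup K := (S.subgroupOf M.I).map M.φ

theorem mem_img {S : Subgroup (V ≃ₗ[F] V)} {k : K} :
    k ∈ img M S ↔ ∃ (g : V ≃ₗ[F] V) (hg : g ∈ M.I), g ∈ S ∧ k = M.φ ⟨g, hg⟩ := by
  constructor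
  · rintro ⟨⟨g, hg⟩, h, rfl⟩
    exact ⟨g, hg, h, rfl⟩
  · rintro ⟨g, hg, h, rfl⟩
    exact Subgroup.mem_map_of_mem _ (Subgroup.mem_subgroupOf.2 h)

theorem X_eq_img (x : Fin n → ℤ) : Nodes.WittModel.X M x = img M (rg Fr x) := rfl

theorem img_mono {S S' : Subgroup (V ≃ₗ[F] V)} (h : S ≤ S') : img M S ≤ img M S' := by
  intro k hk
  obtain ⟨g, hg, hgS, rfl⟩ := (mem_img M).1 hk
  exact (mem_img M).2 ⟨g, hg, h hgS, rfl⟩

theorem img_comm {S S' : Subgroup (V ≃ₗ[F] V)} (h : ∀ a ∈ S, ∀ b ∈ S', a * b = b * a) :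
    ∀ a ∈ img M S, ∀ b ∈ img M S', a * b = b * a := by
  intro a ha b hb
  obtain ⟨g, hg, hgS, rfl⟩ := (mem_img M).1 ha
  obtain ⟨k, hk, hkS, rfl⟩ := (mem_img M).1 hb
  rw [← map_mul, ← map_mul]
  congr 1
  exact Subtype.ext (h g hgS k hkS)

theorem img_cm {S S' U : Subgroup (V ≃ₗ[F] V)} (h : ∀ a ∈ S, ∀ b ∈ S', a * b * a⁻¹ * b⁻¹ ∈ U) :
    ∀ a ∈ img M S, ∀ b ∈ img M S', a * b * a⁻¹ * b⁻¹ ∈ img M U := by
  intro a ha b hb
  obtain ⟨g, hg, hgS, rfl⟩ := (mem_img M).1 ha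
  obtain ⟨k, hk, hkS, rfl⟩ := (mem_img M).1 hb
  rw [← map_mul, ← map_inv, ← map_inv, ← map_mul, ← map_mul]
  exact (mem_img M).2 ⟨_, _, h g hgS k hkS, rfl⟩

theorem img_pow {S U : Subgroup (V ≃ₗ[F] V)} {m : ℕ} (h : ∀ a ∈ S, a ^ m ∈ U) : ∀ a ∈ img M S, a ^ m ∈ img M U := by
  intro a ha
  obtain ⟨g, hg, hgS, rfl⟩ := (mem_img M).1 ha
  rw [← map_pow]
  exact (mem_img M).2 ⟨_, _, h g hgS, rfl⟩

theorem cj_img (g : M.I) (S : Subgroup (V ≃ₗ[F] V)) : cj (M.φ g) (img M S) = img M (cj (g : V ≃ₗ[F] V) S) := by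
  apply le_antisymm
  · intro k hk
    rw [mem_cj] at hk
    obtain ⟨u, hu, huS, e⟩ := (mem_img M).1 hk
    have e2 : k = M.φ (g * ⟨u, hu⟩ * g⁻¹) := by
      rw [map_mul, map_mul, map_inv, ← e]; group
    rw [e2]
    exact (mem_img M).2 ⟨_, _, conj_mem_cj.2 huS, rfl⟩
  · intro k hk
    obtain ⟨u, hu, huS, rfl⟩ := (mem_img M).1 hk
    rw [mem_cj, ← map_inv, ← map_mul, ← map_mul]
    exact (mem_img M).2 ⟨_, _, mem_cj.1 huS, rfl⟩

end Model

section Cls

variable {F : Type*} [Field F] {V : Type*} [AddCommGroup V] [Module F V] {H : HForm F V} {n : ℕ}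
  {Fr : Frame H (Fin n)} {K : Type*} [Group K] (M : Model Fr K) {p : ℕ} (hA : AmbT Fr p M.I) [Finite V]
  [Fact p.Prime] [CharP F p] {p0 : Fr.Adm} (hp0 : p0.c ≠ 0) {W : Type*} [Group W]
  (cs : CoxeterSystem (CoxeterMatrix.B n) W)

include hA hp0 in
/-- root elements survive in the model -/
theorem phi_ne_one {x : Fin n → ℤ} (hx : IsRoot cs (isCartan n) x) {g : V ≃ₗ[F] V} (hg : g ∈ M.I) (hgx : g ∈ rg Fr x)
    (hne : g ≠ 1) : M.φ ⟨g, hg⟩ ≠ 1 := by
  have : Finite (V ≃ₗ[F] V) := Finite.of_injective (fun g : V ≃ₗ[F] V => (g : V → V)) DFunLike.coe_injective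
  have : Finite W := finite_W cs
  have R := rgd_restrict (rgdC hA hp0 cs) M.I (fun x _ => hA.rg_le x) (fun i => nn_mem hA p0 i)
  intro h1
  apply hne
  have h2 : (⟨g, hg⟩ : M.I) ∈ M.φ.ker := h1
  have h3 := eq_one_of_central R hx (Subgroup.mem_subgroupOf.2 hgx) (ker_le_center M h2)
  exact congrArg Subtype.val h3

theorem X_eq {x : Fin n → ℤ} {a b : Fin n × Bool} (hab : Ok a b) (e : ee x = wt a + wt b) :
    Nodes.WittModel.X M x = img M (PG Fr a b) := by
  rw [X_eq_img, rg_eq Fr hab e]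

theorem Z_apply_ne {a : Fin n × Bool} {q : Fr.Adm} (hq : q.w = 0) (hc : q.c ≠ 0) : Fr.Z a q ≠ 1 := by
  intro h
  have h1 := Z_apply_neg Fr a q
  rw [h, hq, smul_zero, add_zero] at h1
  have h2 : (q.c * Fr.η a) • Fr.b a = 0 := by
    have h3 : (1 : V ≃ₗ[F] V) (Fr.b (neg a)) = Fr.b (neg a) := rfl
    rw [h3] at h1
    exact (left_eq_add.1 h1)
  rcases smul_eq_zero.1 h2 with h3 | h3
  · exact mul_ne_zero hc (Fr.η_ne a) h3
  · exact Nodes.WittRGD.b_ne_zero a h3

/-- the family `zr` is permuted -/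
theorem conj_zr {w : W} {k : K} (hk : Rp cs (rgdC_model M hA hp0 cs).nsys w k) {x : Fin n → ℤ}
    (hx : IsRoot cs (isCartan n) x) : cj k (img M (zr Fr x)) = img M (zr Fr (rep cs (isCartan n) w x)) := by
  have : Finite W := finite_W cs
  have htwo := two (cs := cs) hA (T := Nodes.WittRGD.Tor Fr M.I)
    (fun i => ⟨nn_mem hA p0 i, Nodes.WittRGD.mono_nn hp0 i⟩) (fun _ ht => ⟨ht.1, ht.2⟩) (rgdC hA hp0 cs)
  refine conj_fam (rgdC_model M hA hp0 cs) (zz := fun x => img M (zr Fr x))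
    (O := {x | IsRoot cs (isCartan n) x}) ?_ ?_ ?_ hk hx
  · intro i x hx
    exact hx.act _
  · intro i x hx
    show cj (M.φ ⟨Nodes.WittRGD.nn Fr p0 i, nn_mem hA p0 i⟩) (img M (zr Fr x)) = _
    rw [cj_img]
    exact congrArg (img M) (htwo.conj i x hx)
  · rintro x hx _ ⟨t, ht, rfl⟩
    rw [cj_img]
    exact congrArg (img M) (htwo.tor x hx t (Subgroup.mem_subgroupOf.1 ht))

/-- **the class of transvections** -/
theorem cls_S (hn : 0 < n) (hq : ∃ q : Fr.Adm, q.w = 0 ∧ q.c ≠ 0) {r : Fin n → ℤ}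
    (e : ee r = wt (⟨0, hn⟩, true) + wt (⟨0, hn⟩, true)) :
    Cls (rgdC_model M hA hp0 cs) r (img M (Z0G Fr (⟨0, hn⟩, true))) := by
  have : Finite W := finite_W cs
  set a : Fin n × Bool := (⟨0, hn⟩, true) with ha
  have hr : IsRoot cs (isCartan n) r := isRoot_iff.2 ⟨a, a, Or.inr rfl, e⟩
  have hZ : img M (Z0G Fr a) = img M (zr Fr r) := by rw [zr_eq Fr (Or.inr rfl) e, ZP_self]
  refine cls_of _ hr (dom_S hn e) ?_ ?_ ?_ ?_ ?_ ?_ ?_ ?_
  · rw [X_eq M (Or.inr rfl) e]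
    exact img_mono M (by rw [PG_self]; exact Z0G_le Fr a)
  · obtain ⟨q, hq, hqc⟩ := hq
    rw [Subgroup.ne_bot_iff_exists_ne_one]
    have h1 : Fr.Z a q ∈ M.I := hA.Z_mem a q
    refine ⟨⟨M.φ ⟨Fr.Z a q, h1⟩, (mem_img M).2 ⟨_, h1, ⟨q, hq, rfl⟩, rfl⟩⟩, ?_⟩
    intro h2
    refine phi_ne_one M hA hp0 cs hr h1 ?_ (Z_apply_ne hq hqc) (congrArg Subtype.val h2)
    rw [rg_eq Fr (Or.inr rfl) e, PG_self]
    exact ⟨q, rfl⟩
  · rintro _ ⟨t, ht, rfl⟩
    rw [cj_img]
    have h1 : (t : V ≃ₗ[F] V) ∈ Nodes.WittRGD.Tor Fr M.I := Subgroup.mem_subgroupOf.1 ht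
    have h2 := cj_id hA h1.1 h1.2 (Or.inr rfl : Ok a a)
    rw [ZP_self] at h2
    rw [h2]
  · intro w k hk hw
    rw [hZ, conj_zr M hA hp0 cs hk hr, hw]
  · intro x hx h0
    obtain ⟨c, d, hcd, ex⟩ := exists_of_isRoot cs hx
    obtain ⟨h1, h2⟩ := ne_of_zero hn h0 hcd ex
    rw [X_eq M hcd ex]
    exact img_comm M fun z hz g hg => comm_Z0_PG (a := a) hcd h1 h2 hz hg
  · have key : ∀ x ∈ NotJ cs (isCartan n) (orth cs (isCartan n) r), ∃ c, Ok a c ∧
        Nodes.WittModel.X M x = img M (PG Fr a c) := by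
      intro x hx
      obtain ⟨c, d, hcd, ex⟩ := exists_of_isRoot cs hx.1
      rcases notJ_S hn e hx ex with rfl | rfl
      · exact ⟨d, hcd, X_eq M hcd ex⟩
      · exact ⟨c, hcd.symm, X_eq M hcd.symm (by rw [ex, add_comm])⟩
    intro x hx y hy
    obtain ⟨c, hc, e1⟩ := key x hx
    obtain ⟨d, hd, e2⟩ := key y hy
    rw [e1, e2]
    exact img_cm M fun g hg k hk => comm_PG_same hc hd hg hk
  · intro x hx
    obtain ⟨c, d, hcd, ex⟩ := exists_of_isRoot cs hx.1
    rcases notJ_S hn e hx ex with rfl | rfl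
    · rw [X_eq M hcd ex]
      exact img_pow M fun g hg => pow_PG hcd hg
    · rw [X_eq M hcd.symm (by rw [ex, add_comm])]
      exact img_pow M fun g hg => pow_PG hcd.symm hg
  · intro z hz
    have := img_pow M (S := Z0G Fr a) (U := ⊥) (m := p) (fun g hg => by
      rw [Subgroup.mem_bot]; exact pow_Z0 hg) z hz
    obtain ⟨g, hg, hg1, e⟩ := (mem_img M).1 this
    rw [Subgroup.mem_bot] at hg1
    subst hg1
    rw [e]; exact map_one M.φ

end Cls

end Cfsg.Agent.H939.FrameCls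
end

-- part: H939/FrameB4
section
/-!
The bond of order four of a model of a Witt frame (S5900).
-/

set_option autoImplicit false
set_option linter.unusedSectionVars false
set_option linter.dupNamespace false

namespace Cfsg.Agent.H939.FrameB4

open CoxeterSystem Cfsg Cfsg.Agent.ChevalleyStructure.CoxeterGeom Cfsg.Agent.Tits.Roots Cfsg.Agent.Nodes.TypeC
open Cfsg.Agent.Nodes.Comb Cfsg.Agent.Nodes.Reps Cfsg.Agent.Nodes.WittRoot Cfsg.Agent.Nodes.BNOf
open Cfsg.Agent.Nodes.RGDLib Cfsg.Agent.Nodes.WittAll Cfsg.Agent.Nodes.StabComb Cfsg.Agent.Nodes.LeviDec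
open Cfsg.Agent.Nodes.OppDec
open Cfsg.Agent.TitsThree Cfsg.Agent.TitsThree.Siegel Cfsg.Agent.TitsThree.WittFrame
  Cfsg.Agent.TitsThree.WittWeyl Cfsg.Agent.TitsThree.FrameCN
open Cfsg.Agent.KFacts.RgdFiltWitt Cfsg.Agent.H939.FrameRel Cfsg.Agent.H939.RgdTwo Cfsg.Agent.H939.ClsOf
  Cfsg.Agent.H939.RgdA Cfsg.Agent.H939.FrameCls Cfsg.Agent.H939.RgdB4
open scoped commutatorElement

section Coord

variable {n : ℕ} {W : Type*} [Group W] {cs : CoxeterSystem (CoxeterMatrix.B n) W}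

theorem B_apply (i j : Fin n) : CoxeterMatrix.B n i j =
    if i = j then 1 else if (i : ℕ) + 1 = n ∧ (j : ℕ) + 2 = n ∨ (j : ℕ) + 1 = n ∧ (i : ℕ) + 2 = n then 4
      else if (j : ℕ) + 1 = i ∨ (i : ℕ) + 1 = j then 3 else 2 := by
  show (Matrix.of fun (i j : Fin n) => _) i j = _
  simp only [Matrix.of_apply]
  have := i.2
  have := j.2
  split_ifs <;> first | rfl | (solve | lia | omega)

theorem nx_last {i : Fin n} (hi : (i : ℕ) + 1 = n) : nx i = (i, true) := by
  unfold nx; rw [dif_neg (by omega)]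

theorem nx_pre {i j : Fin n} (hi : (i : ℕ) + 1 = n) (hj : (j : ℕ) + 2 = n) : nx j = (i, false) := by
  unfold nx; rw [dif_pos (by omega)]
  congr 1
  exact Fin.ext (by show (j : ℕ) + 1 = i; omega)

theorem ee_i {i : Fin n} (hi : (i : ℕ) + 1 = n) : ee (sr i) = wt (i, true) + wt (i, true) := by
  rw [ee_sr, bt, nx_last hi]

theorem ee_j {i j : Fin n} (hi : (i : ℕ) + 1 = n) (hj : (j : ℕ) + 2 = n) :
    ee (sr j) = wt (j, true) + wt (i, false) := by
  rw [ee_sr, bt, nx_pre hi hj]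

theorem sg_i_i {i : Fin n} (hi : (i : ℕ) + 1 = n) (s : Bool) : sg i (i, s) = (i, !s) :=
  sg_last (by omega) s

theorem sg_i_j {i j : Fin n} (hi : (i : ℕ) + 1 = n) (hj : (j : ℕ) + 2 = n) (s : Bool) : sg i (j, s) = (j, s) :=
  sg_of_ne (by intro h; have := congrArg Fin.val h; simp at this; omega) (by show (j : ℕ) ≠ i + 1; omega)

theorem sg_j_i {i j : Fin n} (hi : (i : ℕ) + 1 = n) (hj : (j : ℕ) + 2 = n) (s : Bool) : sg j (i, s) = (j, s) := by
  have h : (j : ℕ) + 1 < n := by omega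
  have e : i = ⟨(j : ℕ) + 1, h⟩ := Fin.ext (by show (i : ℕ) = j + 1; omega)
  conv_lhs => rw [e]
  exact sg_down h s

theorem ee_ij {i j : Fin n} (hi : (i : ℕ) + 1 = n) (hj : (j : ℕ) + 2 = n) :
    ee (rep cs (isCartan n) (cs.simple i) (sr j)) = wt (j, true) + wt (i, true) := by
  rw [rep_simple, ee_refl_of (ee_j hi hj), sg_i_j hi hj, sg_i_i hi]; rfl

theorem ee_ji {i j : Fin n} (hi : (i : ℕ) + 1 = n) (hj : (j : ℕ) + 2 = n) :
    ee (rep cs (isCartan n) (cs.simple j) (sr i)) = wt (j, true) + wt (j, true) := by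
  rw [rep_simple, ee_refl_of (ee_i hi), sg_j_i hi hj]

end Coord

section Main

variable {F : Type*} [Field F] {V : Type*} [AddCommGroup V] [Module F V] {H : HForm F V} {n : ℕ}
  {Fr : Frame H (Fin n)} {K : Type*} [Group K] (M : Model Fr K) {p : ℕ} (hA : AmbT Fr p M.I) [Finite V]
  [Fact p.Prime] [CharP F p] {p0 : Fr.Adm} (hp0 : p0.c ≠ 0) {W : Type*} [Group W]
  (cs : CoxeterSystem (CoxeterMatrix.B n) W)

theorem mem_cm {S S' U : Subgroup (V ≃ₗ[F] V)} (h : ∀ a ∈ S, ∀ b ∈ S', a * b * a⁻¹ * b⁻¹ ∈ U) :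
    ∀ a ∈ img M S, ∀ b ∈ img M S', ⁅a, b⁆ ∈ img M U := by
  intro a ha b hb
  rw [commutatorElement_def]
  exact img_cm M h a ha b hb

theorem mono_fst_ne {i j : Fin n} (hi : (i : ℕ) + 1 = n) (hj : (j : ℕ) + 2 = n) (s t : Bool) :
    ((j, s) : Fin n × Bool).1 ≠ ((i, t) : Fin n × Bool).1 := by
  intro h
  have : (j : ℕ) = i := congrArg Fin.val h
  omega

/-- the bond of order four, the class of transvections -/
theorem b4_S (hn : 0 < n) (htr : ∃ m : F, (Frame.Adm.tr m : Fr.Adm) ≠ 1) {i j : Fin n}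
    (hi : (i : ℕ) + 1 = n) (hj : (j : ℕ) + 2 = n) {r : Fin n → ℤ} (hr : IsRoot cs (isCartan n) r)
    (e : ee r = wt (⟨0, hn⟩, true) + wt (⟨0, hn⟩, true)) {w₀ : W} (hw₀ : rep cs (isCartan n) w₀ (sr i) = r) :
    B4 (rgdC_model M hA hp0 cs) r (img M (Z0G Fr (⟨0, hn⟩, true))) i j (img M (Z0G Fr (j, true))) := by
  have hWf : Finite W := finite_W cs
  have hji : ((j, true) : Fin n × Bool).1 ≠ ((i, true) : Fin n × Bool).1 := mono_fst_ne hi hj _ _
  have hji' : ((j, true) : Fin n × Bool).1 ≠ ((i, false) : Fin n × Bool).1 := mono_fst_ne hi hj _ _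
  have e1 : Nodes.WittModel.X M (sr i) = img M (ZG Fr (i, true)) := by
    rw [X_eq M (Or.inr rfl) (ee_i hi), PG_self]
  have e1n : Nodes.WittModel.X M (-sr i) = img M (ZG Fr (ng (i, true))) := by
    rw [X_eq M (a := ng (i, true)) (b := ng (i, true)) (Or.inr rfl)
      (by rw [ee_neg, ee_i hi, wt_ng]; abel), PG_self]
  have e2 : Nodes.WittModel.X M (sr j) = img M (XG Fr (j, true) (i, false)) := by
    rw [X_eq M (Or.inl hji') (ee_j hi hj), PG_ne Fr hji']
  have e3 : Nodes.WittModel.X M (rep cs (isCartan n) (cs.simple i) (sr j)) = img M (XG Fr (j, true) (i, true)) := by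
    rw [X_eq M (Or.inl hji) (ee_ij hi hj), PG_ne Fr hji]
  have e4 : Nodes.WittModel.X M (rep cs (isCartan n) (cs.simple j) (sr i)) = img M (ZG Fr (j, true)) := by
    rw [X_eq M (Or.inr rfl) (ee_ji hi hj), PG_self]
  have hγ : IsRoot cs (isCartan n) (rep cs (isCartan n) (cs.simple j) (sr i)) := (isRoot_sr cs _ i).act _
  have hzZ : ∀ {a : Fin n × Bool} {x : Fin n → ℤ}, ee x = wt a + wt a → img M (Z0G Fr a) = img M (zr Fr x) := by
    intro a x ex
    rw [zr_eq Fr (Or.inr rfl) ex, ZP_self]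
  refine ⟨?_, ?_, ?_, ?_, ?_, ?_, ?_, ?_, ?_, ?_, ?_⟩
  · rw [B_apply, if_neg (by intro h; exact hji (by rw [h])), if_pos (Or.inl ⟨hi, hj⟩)]
  · obtain ⟨k, hk⟩ := exists_rp cs (rgdC_model M hA hp0 cs).nsys (cs.simple j * w₀⁻¹)
    refine ⟨cs.simple j * w₀⁻¹, k, hk, ?_, ?_⟩
    · rw [rep_mul_apply, ← hw₀, rep_inv_apply]
    · rw [hzZ e, conj_zr M hA hp0 cs hk hr, rep_mul_apply, ← hw₀, rep_inv_apply, hzZ (ee_ji (cs := cs) hi hj)]
  · rw [e2, e3, e4]
    refine mem_cm M fun a ha b hb => ?_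
    rw [← PG_ne Fr hji'] at ha
    rw [← PG_ne Fr hji] at hb
    exact Z0G_le Fr _ (comm_PG_same (Or.inl hji') (Or.inl hji) ha hb)
  · rw [e2, e4]
    refine img_comm M ?_
    rintro _ ⟨s, rfl⟩ _ ⟨q, rfl⟩
    exact (Fr.commute_ZX (x := (j, true)) (y := (j, true)) (z := (i, false)) (ne_ng _)
      (fun h => hji' (fst_of_ng h).symm) q s).symm
  · rw [e3, e4]
    refine img_comm M ?_
    rintro _ ⟨s, rfl⟩ _ ⟨q, rfl⟩
    exact (Fr.commute_ZX (x := (j, true)) (y := (j, true)) (z := (i, true)) (ne_ng _)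
      (fun h => hji (fst_of_ng h).symm) q s).symm
  · rw [e3]
    refine img_comm M ?_
    rintro _ ⟨s, rfl⟩ _ ⟨t, rfl⟩
    rw [← Fr.X_add, ← Fr.X_add, add_comm]
  · rw [e4]
    refine img_comm M fun z hz g hg => ?_
    exact comm_Z0_PG (Or.inr rfl) (ne_ng _) (ne_ng _) hz (by rw [PG_self]; exact hg)
  · rw [e1]
    refine img_comm M fun z hz g hg => ?_
    exact comm_Z0_PG (a := (j, true)) (c := (i, true)) (Or.inr rfl) (fun h => hji (fst_of_ng h).symm)
      (fun h => hji (fst_of_ng h).symm) hz (by rw [PG_self]; exact hg)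
  · rw [e1n]
    refine img_comm M fun z hz g hg => ?_
    exact comm_Z0_PG (a := (j, true)) (c := ng (i, true)) (Or.inr rfl)
      (fun h => hji (fst_of_ng (a := ng (i, true)) h).symm)
      (fun h => hji (fst_of_ng (a := ng (i, true)) h).symm) hz (by rw [PG_self]; exact hg)
  · rw [e2, e3]
    intro a ha ha1
    obtain ⟨g, hg, ⟨s, rfl⟩, rfl⟩ := (mem_img M).1 ha
    have hs : s ≠ 0 := by
      rintro rfl
      apply ha1
      have : (⟨Fr.X (j, true) (i, false) 0, hg⟩ : M.I) = 1 := Subtype.ext (Fr.X_zero _ _)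
      rw [this, map_one]
    obtain ⟨m, hm⟩ := htr
    have hmc : (Frame.Adm.tr m : Fr.Adm).c ≠ 0 := by
      intro h0
      exact hm (Frame.Adm.ext rfl h0)
    set t : F := H.σ (m * Fr.η (neg (i, true)) * s⁻¹) with ht
    have h1 : Fr.X (j, true) (i, true) t ∈ M.I := hA.X_mem _ _ _
    refine ⟨M.φ ⟨_, h1⟩, (mem_img M).2 ⟨_, h1, ⟨t, rfl⟩, rfl⟩, ?_⟩
    have h2 := Fr.X_mul_X_same hji t s
    have h3 : H.σ t * s * (Fr.η (neg (i, true)))⁻¹ = m := by
      rw [ht, H.σσ]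
      have := Fr.η_ne (neg (i, true))
      field_simp
    rw [h3] at h2
    have h4 : ⁅M.φ ⟨Fr.X (j, true) (i, true) t, h1⟩, M.φ ⟨Fr.X (j, true) (i, false) s, hg⟩⁆ =
        M.φ ⟨Fr.Z (j, true) (Frame.Adm.tr m), hA.Z_mem _ _⟩ := by
      rw [← map_commutatorElement]
      congr 1
      apply Subtype.ext
      show ⁅Fr.X (j, true) (i, true) t, Fr.X (j, true) (i, false) s⁆ = _
      rw [commutatorElement_def]
      have h5 : Fr.X (j, true) (i, true) t * Fr.X (j, true) (i, false) s = _ := h2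
      rw [h5]
      show _ * (Fr.X (j, true) (i, false) s * Fr.X (j, true) (i, true) t) * (Fr.X (j, true) (i, true) t)⁻¹ *
        (Fr.X (j, true) (i, false) s)⁻¹ = _
      group
    rw [h4]
    refine ⟨(mem_img M).2 ⟨_, hA.Z_mem _ _, ⟨_, rfl, rfl⟩, rfl⟩, ?_⟩
    refine phi_ne_one M hA hp0 cs hγ _ ?_ (Z_apply_ne (a := (j, true)) rfl hmc)
    rw [rg_eq Fr (Or.inr rfl) (ee_ji hi hj), PG_self]
    exact ⟨_, rfl⟩
  · intro z hz hz1 w m hm hw
    obtain ⟨g, hg, ⟨q, hq, rfl⟩, rfl⟩ := (mem_img M).1 hz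
    have hqc : q.c ≠ 0 := by
      intro h0
      apply hz1
      have h1 : q = 1 := Frame.Adm.ext hq h0
      have : (⟨Fr.Z (j, true) q, hg⟩ : M.I) = 1 := Subtype.ext (by
        show Fr.Z (j, true) q = 1
        rw [h1]; exact Fr.Z_one _)
      rw [this, map_one]
    have h1 : cj m (img M (Z0G Fr (j, true))) = img M (Z0G Fr (ng (j, true))) := by
      rw [hzZ (ee_ji (cs := cs) hi hj), conj_zr M hA hp0 cs hm hγ, hw, ← hzZ]
      rw [ee_neg, ee_ji hi hj, wt_ng]; abel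
    rw [h1]
    obtain ⟨s, hs, hsc, h2⟩ := mu_S (a := (j, true)) hq hqc
    have hsI : Fr.Z (j, true) s ∈ M.I := hA.Z_mem _ _
    refine ⟨M.φ ⟨_, hsI⟩, ?_, (mem_img M).2 ⟨_, hsI, ⟨s, hs, rfl⟩, rfl⟩, ?_⟩
    · have h3 : cj (M.φ ⟨Fr.Z (j, true) q, hg⟩) (img M (Z0G Fr (ng (j, true)))) =
          img M (cj (Fr.Z (j, true) q) (Z0G Fr (ng (j, true)))) := cj_img M _ _
      rw [h3]
      have h4 : Z0G Fr (ng (j, true)) ≤ M.I := by
        rintro _ ⟨q, -, rfl⟩; exact hA.Z_mem _ _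
      have h5 : cj (Fr.Z (j, true) q) (Z0G Fr (ng (j, true))) ≤ M.I := by
        intro u hu
        rw [mem_cj] at hu
        have e : u = Fr.Z (j, true) q * ((Fr.Z (j, true) q)⁻¹ * u * Fr.Z (j, true) q) * (Fr.Z (j, true) q)⁻¹ := by
          group
        rw [e]
        exact mul_mem (mul_mem hg (h4 hu)) (inv_mem hg)
      unfold img
      rw [← Subgroup.map_sup, ← Subgroup.subgroupOf_sup h4 h5]
      exact Subgroup.mem_map_of_mem _ (Subgroup.mem_subgroupOf.2 h2)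
    · refine phi_ne_one M hA hp0 cs hγ _ ?_ (Z_apply_ne (a := (j, true)) hs hsc)
      rw [rg_eq Fr (Or.inr rfl) (ee_ji hi hj), PG_self]
      exact ⟨_, rfl⟩

end Main

end Cfsg.Agent.H939.FrameB4
end

-- part: H939/InstSL
section
/-!
Complemented subgroup lattices (S5900) of the simply laced groups of Lie type of rank `≥ 2`:
`PSL_n(q)`, `n ≥ 3`, `PΩ⁺_{2m}(q)`, `m ≥ 3`, `E₆(q)`, `E₇(q)`, `E₈(q)`.
-/

set_option autoImplicit false
set_option linter.unusedSectionVars false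
set_option linter.dupNamespace false

namespace Cfsg.Agent.H939.InstSL

open CoxeterSystem Cfsg.Agent.ChevalleyStructure.CoxeterGeom Cfsg.Agent.Tits.Roots Cfsg.Agent.Tits.Core
  Cfsg.Agent.Nodes.Reps Cfsg.Agent.Nodes.BNOf Cfsg.Agent.KFacts.RgdCharP Cfsg.Agent.KFacts.RgdFiltWitt
  Cfsg.Agent.KFacts.RgdLieCharP Cfsg.Agent.Nodes.RGDLib

universe u

/-- commutative simple groups -/
theorem cl_of_comm {G : Type*} [Group G] [Finite G] [IsSimpleGroup G] (hc : ∀ a b : G, a * b = b * a) :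
    KLat.CL G := by
  let _ : CommGroup G := { (inferInstance : Group G) with mul_comm := hc }
  exact KLat.of_prime (IsSimpleGroup.prime_card (α := G))

theorem center_bot {G : Type*} [Group G] [IsSimpleGroup G] (hc : ¬ ∀ a b : G, a * b = b * a) :
    Subgroup.center G = ⊥ := by
  rcases (IsSimpleGroup.eq_bot_or_eq_top_of_normal (Subgroup.center G) inferInstance) with h | h
  · exact h
  · exfalso
    apply hc
    intro a b
    have : b ∈ Subgroup.center G := h ▸ Subgroup.mem_top b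
    exact (Subgroup.mem_center_iff.1 this a)

theorem cl_sl {p : ℕ} {G : Type*} [Group G] [Finite G] [IsSimpleGroup G] [Fact p.Prime] {l : ℕ}
    {M : CoxeterMatrix (Fin l)} {A : Fin l → Fin l → ℤ} {h : IsCartan M A} {T : Subgroup G} {n : Fin l → G}
    {X : (Fin l → ℤ) → Subgroup G} (hW : Finite M.Group) (R : RGD M.toCoxeterSystem h p T n X)
    (hX : G1 M.toCoxeterSystem h X = ⊤) (h4 : ∀ i j, M i j ≠ 4) (h6 : ∀ i j, M i j ≠ 6) (i j : Fin l)
    (hM : M i j = 3) : KLat.CL G := by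
  by_cases hc : ∀ a b : G, a * b = b * a
  · exact cl_of_comm hc
  exact RgdMain.cl_of_sl R (sl_of_ne h4 h6) h4 h6 hX (conn_of_simple R hX (center_bot hc)) hM

theorem lt_four {a : ℕ} (h : a ≤ 3) : a ≠ 4 ∧ a ≠ 6 := by omega

theorem cl_PSL' {F : Type*} [Field F] [Finite F] (n : ℕ) (hn : 2 ≤ n) {p : ℕ} [Fact p.Prime] [CharP F p]
    [Finite (Matrix.ProjectiveSpecialLinearGroup (Fin (n + 1)) F)]
    [IsSimpleGroup (Matrix.ProjectiveSpecialLinearGroup (Fin (n + 1)) F)] :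
    KLat.CL (Matrix.ProjectiveSpecialLinearGroup (Fin (n + 1)) F) := by
  have hc : ∀ i j : Fin n, Cfsg.Agent.LieRecognition.BNCox.cA n i j ≤ 3 := by
    intro i j
    rw [Cfsg.Agent.LieRecognition.BNCox.cA_apply]
    show (if (i : ℕ) = j then 1 else if (i : ℕ) + 1 = j ∨ (j : ℕ) + 1 = i then 3 else 2) ≤ 3
    split_ifs <;> norm_num
  have hW : Finite (Cfsg.Agent.LieRecognition.BNCox.cA n).Group :=
    Nodes.RootsA.finite_W (Cfsg.Agent.LieRecognition.BNCox.cA n).toCoxeterSystem (Nodes.RootsA.isCartan n)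
  refine cl_sl (h := Nodes.RootsA.isCartan n) hW (Nodes.RGDTypeA.rgd_psl (p := p) _ _)
    (Nodes.RGDTypeA.G1_psl_eq_top _ _)
    (fun i j => (lt_four (hc i j)).1) (fun i j => (lt_four (hc i j)).2) ⟨0, by omega⟩ ⟨1, by omega⟩ ?_
  rw [Cfsg.Agent.LieRecognition.BNCox.cA_apply]
  rfl

section Orthogonal

open Cfsg.Agent.LieClassical Cfsg.Agent.LieClassical.OrthCore Cfsg.Agent.LieClassical.OrthTrans
open Cfsg.Agent.LieClassical.OrthSimple Cfsg.Agent.LieClassical.OrthFinite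
open Cfsg.Agent.LieClassical.OrthForms
open Cfsg.Agent.TitsThree.WBridge Cfsg.Agent.TitsThree.KSideO Cfsg.Agent.TitsThree.StdData
open Cfsg.Agent.Nodes.WittAll Cfsg.Agent.Nodes.WittInst

theorem cl_PO_plus {F : Type*} [Field F] [Finite F] (n : ℕ) {p : ℕ} [Fact p.Prime] [CharP F p]
    [Finite (Cfsg.POmega F (Cfsg.quadFormPlus (n + 3) F))]
    [IsSimpleGroup (Cfsg.POmega F (Cfsg.quadFormPlus (n + 3) F))] :
    KLat.CL (Cfsg.POmega F (Cfsg.quadFormPlus (n + 3) F)) := by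
  revert ‹Finite (Cfsg.POmega F (Cfsg.quadFormPlus (n + 3) F))›
    ‹IsSimpleGroup (Cfsg.POmega F (Cfsg.quadFormPlus (n + 3) F))›
  rw [← coe_plusForm]
  intro _ _
  have hG : _root_.Cfsg.Agent.LieClassical.OrthTrans.Good (plusForm (n + 3) F) := by
    apply good_of_finite (nondeg_plusForm (n + 3) F)
    rw [Module.finrank_fintype_fun_eq_card, Fintype.card_sum, Fintype.card_fin]
    omega
  have hc : ∀ i j : Fin (n + 1 + 2), Nodes.TypeD.M (n + 1) i j ≤ 3 := by
    intro i j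
    show (if i = j then 1 else if Nodes.TypeD.Adj i j ∨ Nodes.TypeD.Adj j i then 3 else 2) ≤ 3
    split_ifs <;> norm_num
  refine cl_sl (Nodes.TypeD.finite_W (Nodes.TypeD.M (n + 1)).toCoxeterSystem)
    (rgdD_model (p := p) (wplus (n + 3) F) hG (amb_plus _) (adm_plus _) _)
    (G1D_eq_top (wplus (n + 3) F) (toPOmega hG) (toPOmega_surjective hG) (adm_plus _) _)
    (fun i j => (lt_four (hc i j)).1) (fun i j => (lt_four (hc i j)).2) ⟨0, by omega⟩ ⟨1, by omega⟩ ?_
  rw [Nodes.TypeD.M_apply, if_neg (by simp), if_pos]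
  left
  unfold Nodes.TypeD.Adj
  left
  exact ⟨by show 1 < n + 1 + 1; omega, rfl⟩

end Orthogonal

section Exceptional

open Cfsg.Lie Cfsg.Agent.ChevalleyStructure Cfsg.Agent.ChevalleyStructure.Elts
  Cfsg.Agent.ChevalleyStructure.RootVec Cfsg.Agent.ChevalleyStructure.RootVecTab
  Cfsg.Agent.ChevalleyStructure.NPerm Cfsg.Agent.ChevalleyStructure.CoxeterGeomTypes
open Cfsg.Agent.Nodes Cfsg.Agent.Nodes.RGDChev

theorem cl_group {D : ChevalleyDatum} {l : ℕ} {M : CoxeterMatrix (Fin l)} (hp : IsType D l M) (K : Type u)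
    [Field K] [Finite K] (p : ℕ) [CharP K p] [Finite ↥(D.group K)] [IsSimpleGroup ↥(D.group K)]
    (h3 : ∀ i j, M i j ≤ 3) (i j : Fin l) (hM : M i j = 3) : KLat.CL ↥(D.group K) := by
  have : Fact p.Prime := ⟨CharP.char_is_prime K p⟩
  exact cl_sl (finite_W hp M.toCoxeterSystem) (rgd (K := K) hp M.toCoxeterSystem p) (G1_eq_top hp _)
    (fun i j => (lt_four (h3 i j)).1) (fun i j => (lt_four (h3 i j)).2) i j hM

theorem E6_le (i j : Fin 6) : (CoxeterMatrix.E₆ i j : ℕ) ≤ 3 :=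
  Nat.le_of_ble_eq_true ((by decide : ∀ i j : Fin 6, Nat.ble (CoxeterMatrix.E₆ i j) 3 = true) i j)
theorem E7_le (i j : Fin 7) : (CoxeterMatrix.E₇ i j : ℕ) ≤ 3 :=
  Nat.le_of_ble_eq_true ((by decide +kernel : ∀ i j : Fin 7, Nat.ble (CoxeterMatrix.E₇ i j) 3 = true) i j)
theorem E8_le (i j : Fin 8) : (CoxeterMatrix.E₈ i j : ℕ) ≤ 3 :=
  Nat.le_of_ble_eq_true ((by decide +kernel : ∀ i j : Fin 8, Nat.ble (CoxeterMatrix.E₈ i j) 3 = true) i j)

theorem cl_E6 (K : Type u) [Field K] [Finite K] (p : ℕ) [CharP K p] [Finite ↥(chevE6.group K)]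
    [IsSimpleGroup ↥(chevE6.group K)] : KLat.CL ↥(chevE6.group K) :=
  cl_group (l := 6) (M := CoxeterMatrix.E₆) (by simp [IsType, typeList]) K p E6_le 0 2 (by decide)

theorem cl_E7 (K : Type u) [Field K] [Finite K] (p : ℕ) [CharP K p] [Finite ↥(chevE7.group K)]
    [IsSimpleGroup ↥(chevE7.group K)] : KLat.CL ↥(chevE7.group K) :=
  cl_group (l := 7) (M := CoxeterMatrix.E₇) (by simp [IsType, typeList]) K p E7_le 0 2 (by decide)

theorem cl_E8 (K : Type u) [Field K] [Finite K] (p : ℕ) [CharP K p] [Finite ↥(chevE8.group K)]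
    [IsSimpleGroup ↥(chevE8.group K)] : KLat.CL ↥(chevE8.group K) :=
  cl_group (l := 8) (M := CoxeterMatrix.E₈) (by simp [IsType, typeList]) K p E8_le 0 2 (by decide)

end Exceptional

end Cfsg.Agent.H939.InstSL
end

-- part: H939/FrameMain
section
/-!
Complemented subgroup lattices of the models of Witt frames (S5900): `cl_S` (transvections), `cl_O` (orthogonal groups),
`cl_two` (symplectic groups in characteristic two).
-/

set_option autoImplicit false
set_option linter.unusedSectionVars false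
set_option linter.dupNamespace false

namespace Cfsg.Agent.H939.FrameMain

open CoxeterSystem Cfsg Cfsg.Agent.ChevalleyStructure.CoxeterGeom Cfsg.Agent.Tits.Roots Cfsg.Agent.Nodes.TypeC
open Cfsg.Agent.Nodes.Comb Cfsg.Agent.Nodes.Reps Cfsg.Agent.Nodes.WittRoot Cfsg.Agent.Nodes.BNOf
open Cfsg.Agent.Nodes.RGDLib Cfsg.Agent.Nodes.WittAll Cfsg.Agent.Nodes.StabComb Cfsg.Agent.Nodes.LeviDec
open Cfsg.Agent.Nodes.OppDec Cfsg.Agent.Nodes.Bruhat
open Cfsg.Agent.TitsThree Cfsg.Agent.TitsThree.Siegel Cfsg.Agent.TitsThree.WittFrame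
  Cfsg.Agent.TitsThree.WittWeyl Cfsg.Agent.TitsThree.FrameCN
open Cfsg.Agent.KFacts.RgdFiltWitt Cfsg.Agent.H939.FrameRel Cfsg.Agent.H939.RgdTwo Cfsg.Agent.H939.ClsOf
  Cfsg.Agent.H939.RgdA Cfsg.Agent.H939.FrameCls Cfsg.Agent.H939.RgdB4 Cfsg.Agent.H939.FrameB4
  Cfsg.Agent.H939.InstSL Cfsg.Agent.KFacts.RgdLieCharP Cfsg.Agent.H939.RgdV
open scoped commutatorElement

section Main

variable {F : Type*} [Field F] {V : Type*} [AddCommGroup V] [Module F V] {H : HForm F V} {n : ℕ}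
  {Fr : Frame H (Fin n)} {K : Type*} [Group K] (M : Model Fr K) {p : ℕ} (hA : AmbT Fr p M.I) [Finite V]
  [Fact p.Prime] [CharP F p] {p0 : Fr.Adm} (hp0 : p0.c ≠ 0)

/-- downward propagation along the bonds of order three -/
theorem good_down {Y : Type*} [Group Y] {W : Type*} [Group W] [Finite W] {cs : CoxeterSystem (CoxeterMatrix.B n) W}
    {T : Subgroup Y} {nn : Fin n → Y} {X : (Fin n → ℤ) → Subgroup Y} {R : RGD cs (isCartan n) p T nn X}
    {r : Fin n → ℤ} {Z : Subgroup Y} {j : Fin n} (hj : (j : ℕ) + 2 = n) (hG : _root_.Cfsg.Agent.H939.RgdTwo.Good R r Z j) :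
    ∀ (m : ℕ) (k : Fin n), (k : ℕ) + m + 2 = n → _root_.Cfsg.Agent.H939.RgdTwo.Good R r Z k := by
  intro m
  induction m with
  | zero =>
    intro k hk
    have : k = j := Fin.ext (by omega)
    rw [this]; exact hG
  | succ m ih =>
    intro k hk
    have hk1 : (k : ℕ) + 1 < n := by omega
    have e1 : ((⟨(k : ℕ) + 1, hk1⟩ : Fin n) : ℕ) = k + 1 := rfl
    have e2 : ((⟨(k : ℕ) + 1, hk1⟩ : Fin n) : ℕ) + m + 2 = n := by
      have : (k : ℕ) + 1 + m + 2 = n := by omega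
      exact this
    have h1 := ih ⟨(k : ℕ) + 1, hk1⟩ e2
    refine good_of_three (i := (⟨(k : ℕ) + 1, hk1⟩ : Fin n)) ?_ h1
    have hne : (⟨(k : ℕ) + 1, hk1⟩ : Fin n) ≠ k := by
      intro h
      have h5 : (k : ℕ) + 1 = k := congrArg Fin.val h
      omega
    rw [B_apply, if_neg hne, e1, if_neg (by omega), if_pos (by omega)]

include M hA hp0

/-- **groups with transvections** -/
theorem cl_S [Finite K] [IsSimpleGroup K] (hn : 0 < n) (hq : ∃ q : Fr.Adm, q.w = 0 ∧ q.c ≠ 0)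
    (htr : ∃ m : F, (Frame.Adm.tr m : Fr.Adm) ≠ 1) : KLat.CL K := by
  by_cases hc : ∀ a b : K, a * b = b * a
  · exact cl_of_comm hc
  have hne : Nonempty (Fin n) := ⟨⟨0, hn⟩⟩
  set cs := (CoxeterMatrix.B n).toCoxeterSystem with hcs
  have hWf : Finite (CoxeterMatrix.B n).Group := finite_W cs
  set R := rgdC_model M hA hp0 cs with hR
  have hX := Nodes.WittModel.G1_eq_top M hn cs
  have hconn := conn_of_simple R hX (center_bot hc)
  have hG : GG cs (isCartan n) (Nodes.WittModel.T M) (Nodes.WittModel.X M) = ⊤ := by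
    rw [eq_top_iff, ← hX]; exact le_sup_right
  set i : Fin n := ⟨n - 1, by omega⟩ with hi
  have hin : (i : ℕ) + 1 = n := by show n - 1 + 1 = n; omega
  obtain ⟨w₀, hd⟩ := exists_dom_rep cs (isCartan n) (sr i)
  set r := rep cs (isCartan n) w₀ (sr i) with hr
  have hrr : IsRoot cs (isCartan n) r := (isRoot_sr cs _ i).act w₀
  have e : ee r = wt (⟨0, hn⟩, true) + wt (⟨0, hn⟩, true) := by
    -- the orbit of a long root consists of long roots
    have key : ∀ ω : List (Fin n), ∃ a : Fin n × Bool, ee (rep cs (isCartan n) (cs.wordProd ω) (sr i)) = wt a + wt a := by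
      intro ω
      induction ω with
      | nil => exact ⟨(i, true), by rw [wordProd_nil, map_one, Module.End.one_apply, ee_i hin]⟩
      | cons k ω ih =>
        obtain ⟨a, ha⟩ := ih
        exact ⟨sg k a, by rw [wordProd_cons, rep_mul_apply, rep_simple, ee_refl_of ha]⟩
    obtain ⟨ω, hω⟩ := cs.wordProd_surjective w₀
    obtain ⟨a, ha⟩ := key ω
    rw [hω] at ha
    have := dom_long hn hd ha
    rw [this] at ha
    exact ha
  have C := cls_S M hA hp0 cs hn hq e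
  refine cl_of_good R hX hconn C ?_
  have hgi : _root_.Cfsg.Agent.H939.RgdTwo.Good R r (img M (Z0G Fr (⟨0, hn⟩, true))) i :=
    good_of_class C.long hG (v := w₀⁻¹) (by rw [hr, rep_inv_apply])
  intro k
  by_cases hk : (k : ℕ) + 1 = n
  · have : k = i := Fin.ext (by omega)
    rw [this]; exact hgi
  have hk2 := k.2
  set j : Fin n := ⟨n - 2, by omega⟩ with hj
  have hjn : (j : ℕ) + 2 = n := by show n - 2 + 2 = n; omega
  have D := b4_S M hA hp0 cs hn htr hin hjn hrr e hr.symm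
  have hgj := good_of_four D C.long hG hgi
  exact good_down hjn hgj (n - 2 - k) k (by omega)

end Main

end Cfsg.Agent.H939.FrameMain
end

-- part: H939/FrameOrth
section
/-!
Complemented subgroup lattices of the models of Witt frames (S5900): `cl_O` (orthogonal groups), `cl_two` (symplectic
groups in characteristic two).
-/

set_option autoImplicit false
set_option linter.unusedSectionVars false
set_option linter.dupNamespace false

namespace Cfsg.Agent.H939.FrameOrth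

open CoxeterSystem Cfsg Cfsg.Agent.ChevalleyStructure.CoxeterGeom Cfsg.Agent.Tits.Roots Cfsg.Agent.Nodes.TypeC
open Cfsg.Agent.Nodes.Comb Cfsg.Agent.Nodes.Reps Cfsg.Agent.Nodes.WittRoot Cfsg.Agent.Nodes.BNOf
open Cfsg.Agent.Nodes.RGDLib Cfsg.Agent.Nodes.WittAll Cfsg.Agent.Nodes.StabComb Cfsg.Agent.Nodes.LeviDec
open Cfsg.Agent.Nodes.OppDec Cfsg.Agent.Nodes.Bruhat
open Cfsg.Agent.TitsThree Cfsg.Agent.TitsThree.Siegel Cfsg.Agent.TitsThree.WittFrame
  Cfsg.Agent.TitsThree.WittWeyl Cfsg.Agent.TitsThree.FrameCN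
open Cfsg.Agent.KFacts.RgdFiltWitt Cfsg.Agent.H939.FrameRel Cfsg.Agent.H939.RgdTwo Cfsg.Agent.H939.ClsOf
  Cfsg.Agent.H939.RgdA Cfsg.Agent.H939.FrameCls Cfsg.Agent.H939.RgdB4 Cfsg.Agent.H939.FrameB4
  Cfsg.Agent.H939.InstSL Cfsg.Agent.KFacts.RgdLieCharP Cfsg.Agent.H939.RgdV Cfsg.Agent.H939.FrameMain
open scoped commutatorElement

section Main

variable {F : Type*} [Field F] {V : Type*} [AddCommGroup V] [Module F V] {H : HForm F V} {n : ℕ}
  {Fr : Frame H (Fin n)} {K : Type*} [Group K] (M : Model Fr K) {p : ℕ} (hA : AmbT Fr p M.I) [Finite V]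
  [Fact p.Prime] [CharP F p] {p0 : Fr.Adm} (hp0 : p0.c ≠ 0) {W : Type*} [Group W]
  (cs : CoxeterSystem (CoxeterMatrix.B n) W)

theorem cm_one {G : Type*} [Group G] {S : Subgroup G} {g k : G} (h : g * k = k * g) : g * k * g⁻¹ * k⁻¹ ∈ S := by
  rw [h, mul_inv_cancel_right, mul_inv_cancel]
  exact one_mem _

theorem ng01 {n : ℕ} (k : Fin n) (s : Bool) : ng (k, s) = (k, !s) := rfl

/-- `X_{0,1}` commutes with the positive root groups -/
theorem comm_O (hT : TrZ Fr p) (hn0 : 0 < n) (hn : 1 < n) {c d : Fin n × Bool} (hcd : Ok c d)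
    (h1 : c ≠ (⟨0, hn0⟩, false)) (h2 : d ≠ (⟨0, hn0⟩, false))
    (h3 : c = (⟨1, hn⟩, false) → d = (⟨0, hn0⟩, true)) (h4 : d = (⟨1, hn⟩, false) → c = (⟨0, hn0⟩, true))
    {z g : V ≃ₗ[F] V} (hz : z ∈ PG Fr (⟨0, hn0⟩, true) (⟨1, hn⟩, true)) (hg : g ∈ PG Fr c d) : z * g = g * z := by
  have hne : (⟨0, hn0⟩ : Fin n) ≠ ⟨1, hn⟩ := by simp
  have hok : Ok ((⟨0, hn0⟩, true) : Fin n × Bool) (⟨1, hn⟩, true) := Or.inl hne
  by_cases hd : d = (⟨1, hn⟩, false)
  · have hc := h4 hd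
    subst hc
    exact comm_same hT hok hcd hz hg
  by_cases hc : c = (⟨1, hn⟩, false)
  · have hd' := h3 hc
    subst hd'
    rw [PG_swap Fr hcd] at hg
    exact comm_same hT hok hcd.symm hz hg
  · refine comm_far (Or.inl hne) hcd ?_ (by rw [ng01]; exact h1) (by rw [ng01]; exact hc) (by rw [ng01]; exact h2)
      (by rw [ng01]; exact hd) hz hg
    rintro ⟨h5, -⟩
    exact hne (congrArg Prod.fst h5)

/-- the root groups of `V` -/
theorem form_O (hn0 : 0 < n) (hn : 1 < n) {r : Fin n → ℤ}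
    (e : ee r = wt (⟨0, hn0⟩, true) + wt (⟨1, hn⟩, true)) {x : Fin n → ℤ}
    (hx : x ∈ NotJ cs (isCartan n) (orth cs (isCartan n) r)) : ∃ c d : Fin n × Bool, Ok c d ∧
      (c = (⟨0, hn0⟩, true) ∨ c = (⟨1, hn⟩, true)) ∧ d ≠ (⟨0, hn0⟩, false) ∧ d ≠ (⟨1, hn⟩, false) ∧
        Nodes.WittModel.X M x = img M (PG Fr c d) := by
  obtain ⟨a, b, hab, ex⟩ := exists_of_isRoot cs hx.1
  obtain ⟨h1, h2⟩ := ne_of_zero hn0 hx.2.1 hab ex
  have key : ∀ {a b : Fin n × Bool}, Ok a b → a = (⟨1, hn⟩, true) → b ≠ (⟨1, hn⟩, false) := by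
    rintro a b hab rfl rfl
    rcases hab with h | h
    · exact h rfl
    · exact absurd (congrArg Prod.snd h) (by simp)
  rcases notJ_O hn0 hn e hx hab ex with ⟨h3, h4⟩ | ⟨h3, h4⟩ | ⟨h3, h4⟩ | ⟨h3, h4⟩
  · exact ⟨a, b, hab, Or.inl h3, h2, h4, X_eq M hab ex⟩
  · exact ⟨b, a, hab.symm, Or.inl h3, h1, h4, X_eq M hab.symm (by rw [ex, add_comm])⟩
  · exact ⟨a, b, hab, Or.inr h3, h2, key hab h3, X_eq M hab ex⟩
  · exact ⟨b, a, hab.symm, Or.inr h3, h1, key hab.symm h3, X_eq M hab.symm (by rw [ex, add_comm])⟩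

theorem img_bot {k : K} (h : k ∈ img M (⊥ : Subgroup (V ≃ₗ[F] V))) : k = 1 := by
  obtain ⟨g, hg, hg1, e⟩ := (mem_img M).1 h
  rw [Subgroup.mem_bot] at hg1
  subst hg1
  rw [e]; exact map_one M.φ

/-- **the class of `X_{0,1}`** -/
theorem cls_O (hT : TrZ Fr p) (hn0 : 0 < n) (hn : 1 < n) {r : Fin n → ℤ}
    (e : ee r = wt (⟨0, hn0⟩, true) + wt (⟨1, hn⟩, true)) :
    Cls (rgdC_model M hA hp0 cs) r (Nodes.WittModel.X M r) := by
  have : Finite W := finite_W cs
  have hne : (⟨0, hn0⟩ : Fin n) ≠ ⟨1, hn⟩ := by simp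
  have hok : Ok ((⟨0, hn0⟩, true) : Fin n × Bool) (⟨1, hn⟩, true) := Or.inl hne
  have hr : IsRoot cs (isCartan n) r := isRoot_iff.2 ⟨_, _, hok, e⟩
  set R := rgdC_model M hA hp0 cs with hR
  refine cls_of R hr (dom_O hn0 hn e) le_rfl (X_ne_bot R hr) ?_ ?_ ?_ ?_ ?_ ?_
  · intro t ht
    exact R.tor r hr t ht
  · intro w k hk hw
    rw [R.conj_rp hk hr, hw]
  · intro x hx h0
    obtain ⟨c, d, hcd, ex⟩ := exists_of_isRoot cs hx
    obtain ⟨h1, h2, h3, h4⟩ := of_one hn0 hn h0 hcd ex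
    rw [X_eq M hcd ex, X_eq M hok e]
    exact img_comm M fun z hz g hg => comm_O hT hn0 hn hcd h1 h2 h3 h4 hz hg
  · intro x hx y hy
    obtain ⟨c, d, hcd, h1, h2, h3, e1⟩ := form_O M cs hn0 hn e hx
    obtain ⟨c', d', hcd', h1', h2', h3', e1'⟩ := form_O M cs hn0 hn e hy
    rw [e1, e1', X_eq M hok e, PG_ne Fr (a := (⟨0, hn0⟩, true)) (b := (⟨1, hn⟩, true)) hne]
    refine img_cm M fun g hg k hk => ?_
    rcases h1 with rfl | rfl <;> rcases h1' with rfl | rfl
    · exact cm_one (comm_same hT hcd hcd' hg hk)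
    · exact comm_V hT hne hcd hcd' (by rw [ng01]; exact h3) (by rw [ng01]; exact h2') hg hk
    · have := comm_V hT hne hcd' hcd (by rw [ng01]; exact h3') (by rw [ng01]; exact h2) hk hg
      have e5 : g * k * g⁻¹ * k⁻¹ = (k * g * k⁻¹ * g⁻¹)⁻¹ := by group
      rw [e5]
      exact inv_mem this
    · exact cm_one (comm_same hT hcd hcd' hg hk)
  · intro x hx g hg
    obtain ⟨c, d, hcd, h1, h2, h3, e1⟩ := form_O M cs hn0 hn e hx
    rw [e1] at hg
    have := img_pow M (U := ⊥) (m := p) (fun g hg => by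
      rw [Subgroup.mem_bot]; exact pow_PG' hT hcd hg) g hg
    rw [img_bot M this]
    exact one_mem _
  · intro z hz
    rw [X_eq M hok e] at hz
    exact img_bot M (img_pow M (U := ⊥) (m := p) (fun g hg => by
      rw [Subgroup.mem_bot]; exact pow_PG' hT hok hg) z hz)

/-- the bond of order four, orthogonal groups -/
theorem b4_O [Finite K] (hT : TrZ Fr p) (hnd : ∀ q : Fr.Adm, q ≠ 1 → ∃ s : Fr.Adm, H.h s.w q.w ≠ 0) {i j : Fin n}
    (hi : (i : ℕ) + 1 = n) (hj : (j : ℕ) + 2 = n) {r : Fin n → ℤ} (hr : IsRoot cs (isCartan n) r)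
    {w₀ : W} (hw₀ : rep cs (isCartan n) w₀ (sr j) = r) :
    B4 (rgdC_model M hA hp0 cs) r (Nodes.WittModel.X M r) j i
      (Nodes.WittModel.X M (rep cs (isCartan n) (cs.simple i) (sr j))) := by
  have hWf : Finite W := finite_W cs
  have hji : ((j, true) : Fin n × Bool).1 ≠ ((i, true) : Fin n × Bool).1 := mono_fst_ne hi hj _ _
  have hji' : ((j, true) : Fin n × Bool).1 ≠ ((i, false) : Fin n × Bool).1 := mono_fst_ne hi hj _ _
  have e1 : Nodes.WittModel.X M (sr i) = img M (PG Fr (i, true) (i, true)) := X_eq M (Or.inr rfl) (ee_i hi)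
  have e2 : Nodes.WittModel.X M (sr j) = img M (PG Fr (j, true) (i, false)) := X_eq M (Or.inl hji') (ee_j hi hj)
  have e2n : Nodes.WittModel.X M (-sr j) = img M (PG Fr (i, true) (j, false)) := by
    refine X_eq M (Or.inl hji.symm) ?_
    rw [ee_neg, ee_j hi hj]
    have h1 : wt ((j, false) : Fin n × Bool) = -wt (j, true) := wt_ng (j, true)
    have h2 : wt ((i, false) : Fin n × Bool) = -wt (i, true) := wt_ng (i, true)
    rw [h1, h2]; abel
  have e3 : Nodes.WittModel.X M (rep cs (isCartan n) (cs.simple i) (sr j)) = img M (PG Fr (j, true) (i, true)) :=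
    X_eq M (Or.inl hji) (ee_ij hi hj)
  have e4 : Nodes.WittModel.X M (rep cs (isCartan n) (cs.simple j) (sr i)) = img M (PG Fr (j, true) (j, true)) :=
    X_eq M (Or.inr rfl) (ee_ji hi hj)
  have hγ : IsRoot cs (isCartan n) (rep cs (isCartan n) (cs.simple i) (sr j)) := (isRoot_sr cs _ j).act _
  have hokij : Ok ((i, true) : Fin n × Bool) (j, true) := Or.inl hji.symm
  have hokji : Ok ((j, true) : Fin n × Bool) (i, true) := Or.inl hji
  refine ⟨?_, ?_, ?_, ?_, ?_, ?_, ?_, ?_, ?_, ?_, ?_⟩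
  · rw [B_apply, if_neg (by intro h; exact hji (by rw [h])), if_pos (Or.inr ⟨hi, hj⟩)]
  · obtain ⟨k, hk⟩ := exists_rp cs (rgdC_model M hA hp0 cs).nsys (cs.simple i * w₀⁻¹)
    refine ⟨cs.simple i * w₀⁻¹, k, hk, ?_, ?_⟩
    · rw [rep_mul_apply, ← hw₀, rep_inv_apply]
    · rw [(rgdC_model M hA hp0 cs).conj_rp hk hr, rep_mul_apply, ← hw₀, rep_inv_apply]
  · rw [e1, e3, e4]
    refine mem_cm M fun a ha b hb => ?_
    rw [PG_ne Fr hji, XG_swap Fr hji]
    exact comm_V hT hji.symm (Or.inr rfl) (Or.inr rfl) (fun h => hji (fst_of_ng h).symm)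
      (fun h => hji (fst_of_ng h)) ha hb
  · rw [e1, e3]
    refine img_comm M fun a ha b hb => ?_
    rw [PG_swap Fr hokji] at hb
    exact comm_same hT (Or.inr rfl) hokij ha hb
  · rw [e3, e4]
    exact img_comm M fun a ha b hb => comm_same hT (Or.inr rfl) hokji ha hb
  · rw [e4]
    exact img_comm M fun a ha b hb => comm_same hT (Or.inr rfl) (Or.inr rfl) ha hb
  · rw [e3]
    exact img_comm M fun a ha b hb => comm_same hT hokji hokji ha hb
  · rw [e2, e3]
    exact img_comm M fun a ha b hb => comm_same hT hokji (Or.inl hji') ha hb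
  · rw [e2n, e3]
    refine img_comm M fun a ha b hb => ?_
    rw [PG_swap Fr hokji] at ha
    exact comm_same hT hokij (d := (j, false)) (Or.inl hji.symm) ha hb
  · intro a ha ha1
    rw [e1] at ha
    obtain ⟨g, hg, hg', rfl⟩ := (mem_img M).1 ha
    rw [PG_self] at hg'
    obtain ⟨q, rfl⟩ := hg'
    have hq1 : q ≠ 1 := by
      rintro rfl
      apply ha1
      have : (⟨Fr.Z (i, true) 1, hg⟩ : M.I) = 1 := Subtype.ext (Fr.Z_one _)
      rw [this, map_one]
    obtain ⟨s, hs⟩ := hnd q hq1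
    have h1 : Fr.Z (j, true) s ∈ M.I := hA.Z_mem _ _
    have hmem : Fr.X (j, true) (i, true) (-(Fr.η (i, true) * H.σ (H.h s.w q.w))) ∈
        rg Fr (rep cs (isCartan n) (cs.simple i) (sr j)) := by
      rw [rg_eq Fr hokji (ee_ij hi hj), PG_ne Fr hji]
      exact ⟨_, rfl⟩
    have hI : Fr.X (j, true) (i, true) (-(Fr.η (i, true) * H.σ (H.h s.w q.w))) ∈ M.I := hA.X_mem _ _ _
    have h4 : ⁅M.φ ⟨Fr.Z (j, true) s, h1⟩, M.φ ⟨Fr.Z (i, true) q, hg⟩⁆ =
        M.φ ⟨Fr.X (j, true) (i, true) (-(Fr.η (i, true) * H.σ (H.h s.w q.w))), hI⟩ := by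
      rw [← map_commutatorElement]
      congr 1
      apply Subtype.ext
      show ⁅Fr.Z (j, true) s, Fr.Z (i, true) q⁆ = _
      rw [commutatorElement_def, Fr.Z_mul_Z hji]
      group
    refine ⟨M.φ ⟨_, h1⟩, ?_, ?_⟩
    · rw [e4, PG_self]
      exact (mem_img M).2 ⟨_, h1, ⟨s, rfl⟩, rfl⟩
    · rw [h4]
      refine ⟨(mem_img M).2 ⟨_, hI, hmem, rfl⟩, ?_⟩
      refine phi_ne_one M hA hp0 cs hγ _ hmem ?_
      intro h0
      have h5 := X_apply_neg Fr hji (-(Fr.η (i, true) * H.σ (H.h s.w q.w)))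
      rw [h0] at h5
      have h6 : (1 : V ≃ₗ[F] V) (Fr.b (neg (i, true))) = Fr.b (neg (i, true)) := rfl
      rw [h6] at h5
      rcases smul_eq_zero.1 (left_eq_add.1 h5) with h7 | h7
      · rw [neg_eq_zero] at h7
        rcases mul_eq_zero.1 h7 with h8 | h8
        · exact Fr.η_ne _ h8
        · exact hs (by simpa using h8)
      · exact Nodes.WittRGD.b_ne_zero _ h7
  · intro z hz hz1 w m hm hw
    exact mu_full (rgdC_model M hA hp0 cs) hγ hz hz1 hm hw

/-- dominant conjugates -/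
theorem dom_i [Finite W] (hn : 0 < n) {i : Fin n} (hin : (i : ℕ) + 1 = n) {w₀ : W}
    (hd : Dom (A n) (rep cs (isCartan n) w₀ (sr i))) :
    ee (rep cs (isCartan n) w₀ (sr i)) = wt (⟨0, hn⟩, true) + wt (⟨0, hn⟩, true) := by
  have key : ∀ ω : List (Fin n), ∃ a : Fin n × Bool, ee (rep cs (isCartan n) (cs.wordProd ω) (sr i)) = wt a + wt a := by
    intro ω
    induction ω with
    | nil => exact ⟨(i, true), by rw [wordProd_nil, map_one, Module.End.one_apply, ee_i hin]⟩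
    | cons k ω ih =>
      obtain ⟨a, ha⟩ := ih
      exact ⟨sg k a, by rw [wordProd_cons, rep_mul_apply, rep_simple, ee_refl_of ha]⟩
  obtain ⟨ω, hω⟩ := cs.wordProd_surjective w₀
  obtain ⟨a, ha⟩ := key ω
  rw [hω] at ha
  have := dom_long hn hd ha
  rw [this] at ha
  exact ha

theorem dom_k [Finite W] (hn0 : 0 < n) (hn : 1 < n) {k : Fin n} (hk : (k : ℕ) + 1 ≠ n) {w₀ : W}
    (hd : Dom (A n) (rep cs (isCartan n) w₀ (sr k))) :
    ee (rep cs (isCartan n) w₀ (sr k)) = wt (⟨0, hn0⟩, true) + wt (⟨1, hn⟩, true) := by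
  have key : ∀ ω : List (Fin n), ∃ a b : Fin n × Bool, a.1 ≠ b.1 ∧
      ee (rep cs (isCartan n) (cs.wordProd ω) (sr k)) = wt a + wt b := by
    intro ω
    induction ω with
    | nil =>
      have h1 : (k : ℕ) + 1 < n := by have := k.2; omega
      refine ⟨(k, true), nx k, ?_, by rw [wordProd_nil, map_one, Module.End.one_apply, ee_sr, bt]⟩
      unfold nx
      rw [dif_pos h1]
      intro h
      have : (k : ℕ) = k + 1 := congrArg Fin.val h
      omega
    | cons k ω ih =>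
      obtain ⟨a, b, hab, ha⟩ := ih
      exact ⟨sg k a, sg k b, fun h => hab ((sg_fst_eq k).1 h),
        by rw [wordProd_cons, rep_mul_apply, rep_simple, ee_refl_of ha]⟩
  obtain ⟨ω, hω⟩ := cs.wordProd_surjective w₀
  obtain ⟨a, b, hab, ha⟩ := key ω
  rw [hω] at ha
  exact dom_short hn0 hn hd hab ha

include M hA hp0

/-- **orthogonal groups** -/
theorem cl_O [Finite K] [IsSimpleGroup K] (hn0 : 0 < n) (hn : 1 < n) (hT : TrZ Fr p)
    (hnd : ∀ q : Fr.Adm, q ≠ 1 → ∃ s : Fr.Adm, H.h s.w q.w ≠ 0) : KLat.CL K := by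
  by_cases hc : ∀ a b : K, a * b = b * a
  · exact cl_of_comm hc
  have hne : Nonempty (Fin n) := ⟨⟨0, hn0⟩⟩
  set cs := (CoxeterMatrix.B n).toCoxeterSystem with hcs
  have hWf : Finite (CoxeterMatrix.B n).Group := finite_W cs
  set R := rgdC_model M hA hp0 cs with hR
  have hX := Nodes.WittModel.G1_eq_top M hn0 cs
  have hconn := conn_of_simple R hX (center_bot hc)
  have hG : GG cs (isCartan n) (Nodes.WittModel.T M) (Nodes.WittModel.X M) = ⊤ := by
    rw [eq_top_iff, ← hX]; exact le_sup_right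
  obtain ⟨r, hr, e⟩ := rt_of_ok (cs := cs) (a := (⟨0, hn0⟩, true)) (b := (⟨1, hn⟩, true)) (Or.inl (by simp))
  have C := cls_O M hA hp0 cs hT hn0 hn e
  have hw : ∀ k : Fin n, (k : ℕ) + 1 ≠ n → ∃ w : (CoxeterMatrix.B n).Group, rep cs (isCartan n) w (sr k) = r := by
    intro k hk
    obtain ⟨w₀, hd⟩ := exists_dom_rep cs (isCartan n) (sr k)
    exact ⟨w₀, ee_injective (by rw [dom_k cs hn0 hn hk hd, e])⟩
  have hgood : ∀ k : Fin n, (k : ℕ) + 1 ≠ n → _root_.Cfsg.Agent.H939.RgdTwo.Good R r (Nodes.WittModel.X M r) k := by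
    intro k hk
    obtain ⟨w, hw⟩ := hw k hk
    exact good_of_class C.long hG (v := w⁻¹) (by rw [← hw, rep_inv_apply])
  refine cl_of_good R hX hconn C ?_
  intro k
  by_cases hk : (k : ℕ) + 1 = n
  · set j : Fin n := ⟨n - 2, by omega⟩ with hj
    have hjn : (j : ℕ) + 2 = n := by show n - 2 + 2 = n; omega
    obtain ⟨w, hw⟩ := hw j (by omega)
    exact good_of_four (b4_O M hA hp0 cs hT hnd hk hjn hr hw) C.long hG (hgood j (by omega))
  · exact hgood k hk

/-- **symplectic groups in characteristic two** -/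
theorem cl_two [Finite K] [IsSimpleGroup K] (hn0 : 0 < n) (hn : 1 < n) (hT : TrZ Fr p)
    (hq : ∃ q : Fr.Adm, q.w = 0 ∧ q.c ≠ 0) : KLat.CL K := by
  by_cases hc : ∀ a b : K, a * b = b * a
  · exact cl_of_comm hc
  have hne : Nonempty (Fin n) := ⟨⟨0, hn0⟩⟩
  set cs := (CoxeterMatrix.B n).toCoxeterSystem with hcs
  have hWf : Finite (CoxeterMatrix.B n).Group := finite_W cs
  set R := rgdC_model M hA hp0 cs with hR
  have hX := Nodes.WittModel.G1_eq_top M hn0 cs
  have hconn := conn_of_simple R hX (center_bot hc)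
  refine cl_of_all R hX hconn ?_
  intro k
  obtain ⟨w₀, hd⟩ := exists_dom_rep cs (isCartan n) (sr k)
  by_cases hk : (k : ℕ) + 1 = n
  · exact ⟨_, _, w₀⁻¹, cls_S M hA hp0 cs hn0 hq (dom_i cs hn0 hk hd), rep_inv_apply _ _ _ _⟩
  · exact ⟨_, _, w₀⁻¹, cls_O M hA hp0 cs hT hn0 hn (dom_k cs hn0 hn hk hd), rep_inv_apply _ _ _ _⟩

end Main

end Cfsg.Agent.H939.FrameOrth
end

-- part: H939/InstClass
section
/-!
Complemented subgroup lattices (S5900) of the classical groups with a Witt frame: `PSp`, `PSU`, `PΩ` odd and minus.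
-/

set_option autoImplicit false
set_option linter.unusedSectionVars false
set_option linter.dupNamespace false

namespace Cfsg.Agent.H939.InstClass

open Cfsg Cfsg.Agent.ChevalleyStructure.CoxeterGeom Cfsg.Agent.Tits.Roots
open Cfsg.Agent.Nodes.Comb Cfsg.Agent.Nodes.Reps Cfsg.Agent.Nodes.WittRoot Cfsg.Agent.Nodes.BNOf
open Cfsg.Agent.Nodes.RGDLib Cfsg.Agent.Nodes.WittAll
open Cfsg.Agent.TitsThree Cfsg.Agent.TitsThree.Siegel Cfsg.Agent.TitsThree.WittFrame
  Cfsg.Agent.TitsThree.WittWeyl Cfsg.Agent.TitsThree.FrameCN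
open Cfsg.Agent.KFacts.RgdFiltWitt Cfsg.Agent.H939.FrameRel Cfsg.Agent.H939.FrameMain Cfsg.Agent.H939.FrameOrth
open Cfsg.Agent.Nodes.WittU Cfsg.Agent.Nodes.WittInst
open Cfsg.Agent.LieClassical Cfsg.Agent.LieClassical.OrthCore Cfsg.Agent.LieClassical.OrthTrans
open Cfsg.Agent.LieClassical.OrthSimple Cfsg.Agent.LieClassical.OrthFinite
open Cfsg.Agent.LieClassical.OrthForms
open Cfsg.Agent.TitsThree.WBridge Cfsg.Agent.TitsThree.KSideO Cfsg.Agent.TitsThree.StdData
open QuadraticMap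

theorem cl_PSp {F : Type*} [Field F] [Finite F] {m : ℕ} (hm : 2 ≤ m) {p : ℕ} [Fact p.Prime] [CharP F p]
    [Finite (PSp m F)] [IsSimpleGroup (PSp m F)] : KLat.CL (PSp m F) := by
  by_cases h2 : (2 : F) = 0
  · have hp2 : p = 2 := by
      have h3 : CharP F 2 := CharTwo.of_one_ne_zero_of_two_eq_zero one_ne_zero h2
      exact CharP.eq F ‹CharP F p› h3
    refine cl_two (KInstSp.model m F) (AmbT.of_amb amb_Sp p) (p0 := SpIdent.adm 1) one_ne_zero (by omega) (by omega)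
      ⟨?_, ?_⟩ ⟨SpIdent.adm 1, rfl, one_ne_zero⟩
    · intro c
      refine Frame.Adm.ext rfl ?_
      rw [Frame.Adm.tr_c, SpIdent.form_ε, SpIdent.form_σ]
      have : c - (-1)⁻¹ * c = 2 * c := by
        rw [inv_neg, inv_one]; ring
      rw [this, h2, zero_mul]; rfl
    · intro q
      subst hp2
      refine Frame.Adm.ext ?_ ?_
      · rw [adm_pow_w, CharP.cast_eq_zero, zero_smul]; rfl
      · have hw : q.w = 0 := q.ok
        rw [adm_pow_c hw, CharP.cast_eq_zero, zero_mul]; rfl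
  · refine cl_S (KInstSp.model m F) (AmbT.of_amb amb_Sp p) (p0 := SpIdent.adm 1) one_ne_zero (by omega)
      ⟨SpIdent.adm 1, rfl, one_ne_zero⟩ ⟨1, ?_⟩
    intro h
    have h1 := congrArg Frame.Adm.c h
    rw [Frame.Adm.tr_c, SpIdent.form_ε, SpIdent.form_σ, inv_neg, inv_one] at h1
    apply h2
    have h3 : (1 : F) - -1 * 1 = 2 := by ring
    rw [h3] at h1
    exact h1

theorem exists_pow_ne {F : Type*} [Field F] [Fintype F] {q : ℕ} (hF : Fintype.card F = q ^ 2) : ∃ x : F, x ^ q ≠ x := by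
  classical
  have hq : 2 ≤ q := by
    have h1 := Fintype.one_lt_card (α := F)
    rw [hF] at h1
    by_contra h
    have : q = 0 ∨ q = 1 := by omega
    rcases this with rfl | rfl <;> simp at h1
  obtain ⟨g, hg⟩ := IsCyclic.exists_generator (α := Fˣ)
  have ho := orderOf_eq_card_of_forall_mem_zpowers hg
  refine ⟨g, fun h => ?_⟩
  have h1 : g ^ q = g := Units.ext (by rw [Units.val_pow_eq_pow_val]; exact h)
  have h2 : g ^ (q - 1) = 1 := by
    have e : q = (q - 1) + 1 := by omega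
    rw [e, pow_succ] at h1
    exact mul_eq_right.1 h1
  have h3 := orderOf_dvd_of_pow_eq_one h2
  rw [ho, Nat.card_eq_fintype_card, Fintype.card_units, hF] at h3
  have h4 := Nat.le_of_dvd (by omega) h3
  have h5 : q * 2 ≤ q ^ 2 := by rw [_root_.sq]; exact Nat.mul_le_mul_left q hq
  omega

theorem cl_PSU {F : Type*} [Field F] [Fintype F] {q N : ℕ} (hF : Fintype.card F = q ^ 2) (hN : 3 ≤ N) {p : ℕ}
    [Fact p.Prime] [CharP F p] [Finite (PSU N F q)] [IsSimpleGroup (PSU N F q)] : KLat.CL (PSU N F q) := by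
  obtain ⟨m, hm⟩ : ∃ m, N = 2 * m ∨ N = 2 * m + 1 := ⟨N / 2, by omega⟩
  obtain ⟨W, -⟩ := exists_wframe hF hm
  obtain ⟨p0, hp0, hp0w⟩ := exists_adm hF W
  refine cl_S (KInstU.model hF hN W) (AmbT.of_amb (amb_U hF W) p) hp0 (by omega) ⟨p0, hp0w, hp0⟩ ?_
  obtain ⟨x, hx⟩ := exists_pow_ne hF
  refine ⟨x, fun h => hx ?_⟩
  have h1 := congrArg Frame.Adm.c h
  rw [Frame.Adm.tr_c, KSideU.HU_ε, KSideU.HU_σ, inv_one, one_mul, Frame.Adm.one_c, sub_eq_zero] at h1
  exact h1.symm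

section Orth

variable {F : Type*} [Field F] {ι : Type*} [Fintype ι]

theorem trZ_O {V : Type*} [AddCommGroup V] [Module F V] {Q : QuadraticForm F V} {n : ℕ} (W : SiegelGen.WFrame (PO Q) n)
    (p : ℕ) [CharP F p] : TrZ (toFrame W) p := by
  have key : ∀ q : (toFrame W).Adm, q.w = 0 → q = 1 := by
    intro q hq
    refine Frame.Adm.ext hq ?_
    have h1 : q.c = -Q q.w := q.ok.2
    rw [h1, hq, QuadraticMap.map_zero, neg_zero]; rfl
  exact ⟨fun m => key _ rfl, fun q => key _ (by rw [adm_pow_w, CharP.cast_eq_zero, zero_smul])⟩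

theorem nd_odd (m : ℕ) (F : Type*) [Field F] (h2 : (2 : F) ≠ 0) (q : (toFrame (wodd m F)).Adm) (hq : q ≠ 1) :
    ∃ s : (toFrame (wodd m F)).Adm, (HO (oddForm m F)).h s.w q.w ≠ 0 := by
  refine ⟨q, fun h => hq ?_⟩
  have hw : ∀ j, q.w (Sum.inr j) = 0 := q.ok.1
  have hc : q.c = -(oddForm m F) q.w := q.ok.2
  rw [HO_h, polar_self'] at h
  have h0 : (oddForm m F) q.w = 0 := (mul_eq_zero.1 h).resolve_left h2
  have hw0 : q.w = 0 := (wodd m F).aniso q.w hw (by rw [sing_iff]; exact h0)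
  refine Frame.Adm.ext hw0 ?_
  rw [hc, h0, neg_zero]; rfl

theorem cl_PO_odd {F : Type*} [Field F] [Finite F] {m : ℕ} (h2 : (2 : F) ≠ 0) (hm : 2 ≤ m) {p : ℕ} [Fact p.Prime]
    [CharP F p] [Finite (Cfsg.POmega F (Cfsg.quadFormOdd m F))] [IsSimpleGroup (Cfsg.POmega F (Cfsg.quadFormOdd m F))] :
    KLat.CL (Cfsg.POmega F (Cfsg.quadFormOdd m F)) := by
  revert ‹Finite (Cfsg.POmega F (Cfsg.quadFormOdd m F))› ‹IsSimpleGroup (Cfsg.POmega F (Cfsg.quadFormOdd m F))›
  rw [← coe_oddForm]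
  intro _ _
  have hG : _root_.Cfsg.Agent.LieClassical.OrthTrans.Good (oddForm m F) := by
    apply good_of_finite (nondeg_oddForm m F h2)
    rw [Module.finrank_fintype_fun_eq_card, Fintype.card_sum, Fintype.card_sum, Fintype.card_fin,
      Fintype.card_unit]
    omega
  have hp : ((embOdd m F).ngt ⟨1, -1 ^ 2, rfl⟩).c ≠ 0 := by
    change (1 : F)⁻¹ * (-1 ^ 2) ≠ 0
    simp
  exact cl_O (model (wodd m F) hG ⟨_, hp⟩) (AmbT.of_amb (amb_O_of_two _ h2) p) hp (by omega) (by omega)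
    (trZ_O (wodd m F) p) (nd_odd m F h2)

theorem nd_minus (m : ℕ) (F : Type*) [Field F] [Finite F] (a b : F)
    (hab : ∀ z₁ z₂ : F, z₁ ^ 2 + a * z₁ * z₂ + b * z₂ ^ 2 = 0 → z₁ = 0 ∧ z₂ = 0)
    (q : (toFrame (wminus m F a b hab)).Adm) (hq : q ≠ 1) :
    ∃ s : (toFrame (wminus m F a b hab)).Adm, (HO (minusForm m F a b)).h s.w q.w ≠ 0 := by
  have hw : ∀ j, q.w (Sum.inl j) = 0 := q.ok.1
  have hc : q.c = -(minusForm m F a b) q.w := q.ok.2
  by_contra hcon
  push Not at hcon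
  apply hq
  have hw0 : q.w = 0 → q = 1 := by
    intro h
    refine Frame.Adm.ext h ?_
    rw [hc, h, QuadraticMap.map_zero, neg_zero]; rfl
  apply hw0
  by_cases h2 : (2 : F) = 0
  · -- characteristic two
    have key : ∀ x y : F, a * (x * q.w (Sum.inr 1) + y * q.w (Sum.inr 0)) = 0 := by
      intro x y
      have h1 := hcon ⟨Sum.elim (fun _ => 0) ![x, y], -(minusForm m F a b) (Sum.elim (fun _ => 0) ![x, y]),
        ⟨fun _ => rfl, rfl⟩⟩
      rw [HO_h, polar_minusForm] at h1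
      simp only [hw, _root_.Sum.elim_inl, _root_.MulZeroClass.mul_zero, _root_.add_zero, _root_.Finset.sum_const_zero, _root_.Fin.isValue, _root_.Sum.elim_inr, _root_.Matrix.cons_val_zero, _root_.Matrix.cons_val_one, _root_.Matrix.cons_val_fin_one, _root_.zero_add] at h1
      linear_combination h1 - (x * q.w (Sum.inr 0) + b * y * q.w (Sum.inr 1)) * h2
    have ha : a ≠ 0 := by
      rintro rfl
      have : CharP F 2 := CharTwo.of_one_ne_zero_of_two_eq_zero one_ne_zero h2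
      obtain ⟨c, hc⟩ := FiniteField.isSquare_of_char_two (F := F) (ringChar.eq F 2 ▸ rfl) b
      have h3 := hab c 1 (by rw [hc]; linear_combination (c * c) * h2)
      exact one_ne_zero h3.2
    have k1 := key 1 0
    have k2 := key 0 1
    rw [one_mul, zero_mul, add_zero] at k1
    rw [one_mul, zero_mul, zero_add] at k2
    have k1' := (mul_eq_zero.1 k1).resolve_left ha
    have k2' := (mul_eq_zero.1 k2).resolve_left ha
    funext j
    rcases j with j | j
    · exact hw j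
    · fin_cases j
      · exact k2'
      · exact k1'
  · have h := hcon q
    rw [HO_h, polar_self'] at h
    have h0 : (minusForm m F a b) q.w = 0 := (mul_eq_zero.1 h).resolve_left h2
    exact (wminus m F a b hab).aniso q.w hw (by rw [sing_iff]; exact h0)

theorem cl_PO_minus {F : Type*} [Field F] [Finite F] {m : ℕ} (a b : F)
    (hab : ∀ z₁ z₂ : F, z₁ ^ 2 + a * z₁ * z₂ + b * z₂ ^ 2 = 0 → z₁ = 0 ∧ z₂ = 0)
    (hm : 2 ≤ m) {p : ℕ} [Fact p.Prime] [CharP F p] [Finite (Cfsg.POmega F (Cfsg.quadFormMinus m F a b))]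
    [IsSimpleGroup (Cfsg.POmega F (Cfsg.quadFormMinus m F a b))] :
    KLat.CL (Cfsg.POmega F (Cfsg.quadFormMinus m F a b)) := by
  revert ‹Finite (Cfsg.POmega F (Cfsg.quadFormMinus m F a b))›
    ‹IsSimpleGroup (Cfsg.POmega F (Cfsg.quadFormMinus m F a b))›
  rw [← coe_minusForm]
  intro _ _
  have hG : _root_.Cfsg.Agent.LieClassical.OrthTrans.Good (minusForm m F a b) := by
    apply good_of_finite (nondeg_minusForm m F a b hab)
    rw [Module.finrank_fintype_fun_eq_card, Fintype.card_sum, Fintype.card_sum, Fintype.card_fin,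
      Fintype.card_fin]
    omega
  have hp : ((embMinus m F a b hab).ngt ⟨(1, 0), -nf a b (1, 0), rfl⟩).c ≠ 0 := by
    change (1 : F)⁻¹ * (-nf a b (1, 0)) ≠ 0
    simp [nf]
  have hA : AmbT (toFrame (wminus m F a b hab)) p (E (minusForm m F a b)) := by
    by_cases h2 : (2 : F) = 0
    · have hp2 : p = 2 := by
        have h3 : CharP F 2 := CharTwo.of_one_ne_zero_of_two_eq_zero one_ne_zero h2
        exact CharP.eq F ‹CharP F p› h3
      subst hp2
      exact ambT_O _ fun g hg hg2 hb => fixp_minus a b hab h2 hm hG hg hg2 hb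
    · exact AmbT.of_amb (amb_O_of_two _ h2) p
  exact cl_O (model (wminus m F a b hab) hG ⟨_, hp⟩) hA hp (by omega) (by omega)
    (trZ_O (wminus m F a b hab) p) (nd_minus m F a b hab)

end Orth

end Cfsg.Agent.H939.InstClass
end

-- part: H939/ChevCls
section
/-!
Classes of root subgroups of the Chevalley groups `D.group K` (S5900), by a finite check on the tables.

* `chkCls D l q r0` : the root with index `r0` is dominant and its root group is the centre of a class, all constants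
  divisible by `q` being ignored; `cls_chev`;
* `chkB4` : bonds of order four; `b4_chev`;
* `cl_F4`.
-/

set_option autoImplicit false
set_option linter.unusedSectionVars false
set_option linter.dupNamespace false

namespace Cfsg.Agent.H939.ChevCls

open CoxeterSystem Cfsg.Agent.ChevalleyStructure.CoxeterGeom Cfsg.Agent.Tits.Roots Cfsg.Agent.Tits.Core
  Cfsg.Agent.Tits.RootComb Cfsg.Agent.Nodes.Comb Cfsg.Agent.Nodes.Reps Cfsg.Agent.Nodes.BNOf
  Cfsg.Agent.Nodes.StabComb Cfsg.Agent.Nodes.LeviDec Cfsg.Agent.Nodes.OppDec Cfsg.Agent.Nodes.Bruhat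
open Cfsg.Lie Cfsg.Agent.ChevalleyStructure Cfsg.Agent.ChevalleyStructure.Elts
  Cfsg.Agent.ChevalleyStructure.RootVec Cfsg.Agent.ChevalleyStructure.RootVecTab
  Cfsg.Agent.ChevalleyStructure.NPerm Cfsg.Agent.ChevalleyStructure.CoxeterGeomTypes
open Cfsg.Agent.Nodes Cfsg.Agent.Nodes.RGDChev Cfsg.Agent.Nodes.RGDLib
open Cfsg.Agent.H939.RgdA Cfsg.Agent.H939.RgdTwo Cfsg.Agent.H939.ClsOf Cfsg.Agent.H939.RgdB4
open scoped commutatorElement

universe u

/-! ### the checks -/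

def posB (D : ChevalleyDatum) (l s : ℕ) : Bool := (List.range l).all fun i => decide (0 ≤ _root_.Cfsg.Agent.ChevalleyStructure.RootVec.rt D s i)

def notB (D : ChevalleyDatum) (l r0 s : ℕ) : Bool :=
  posB D l s && (List.range l).any fun k => !decide (D.cartan k r0 = 0) && decide (0 < _root_.Cfsg.Agent.ChevalleyStructure.RootVec.rt D s k)

def vanB (q : ℤ) (L : List (ℕ × ℤ × ℕ × ℕ)) : Bool := L.all fun c => decide (q ∣ c.2.1)

def vanB' (q : ℤ) (r0 : ℕ) (L : List (ℕ × ℤ × ℕ × ℕ)) : Bool := L.all fun c => c.1 == r0 || decide (q ∣ c.2.1)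

def chkCls (D : ChevalleyDatum) (l : ℕ) (q : ℤ) (r0 : ℕ) : Bool :=
  decide (r0 < D.nroots) && ((List.range l).all fun i => decide (0 ≤ D.cartan i r0)) &&
   (List.range D.nroots).all fun s => (!posB D l s || s == r0 || s == D.neg r0 || vanB q (D.commTerms r0 s)) &&
    (List.range D.nroots).all fun t => !notB D l r0 s || !notB D l r0 t || s == t || s == D.neg t ||
      vanB' q r0 (D.commTerms s t)

section Rel

variable {D : ChevalleyDatum} {l : ℕ} {M : CoxeterMatrix (Fin l)} (hp : IsType D l M) {K : Type u} [Field K]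

/-- commutators of root elements -/
theorem comm_in {r s : ℕ} (hr : r < D.nroots) (hs : s < D.nroots) (hrs : s ≠ r) (hneg : s ≠ D.neg r)
    {K' : Subgroup (GL D.Idx K)}
    (hK : ∀ c ∈ D.commTerms r s, (c.2.1 : K) = 0 ∨ ∀ t : K, xG hp.inList c.1 t ∈ K') (t u : K) :
    ⁅xG hp.inList s u, xG hp.inList r t⁆ ∈ K' := by
  have e : ⁅xG hp.inList s u, xG hp.inList r t⁆ = wordG hp.inList (D.commWord K r s (-t) (-u)) := by
    rw [← comm_xG hp hr hs hrs hneg, xG_inv, xG_inv, _root_.neg_neg, _root_.neg_neg]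
  rw [e]
  refine wordG_mem hp _ _ ?_
  intro c hc
  have hc' : c ∈ (D.commTerms r s).map fun c => (c.1, (c.2.1 : K) * (- -t) ^ c.2.2.1 * (-u) ^ c.2.2.2) := hc
  rw [List.mem_map] at hc'
  obtain ⟨v, hv, rfl⟩ := hc'
  rcases hK v hv with h | h
  · show xG hp.inList v.1 ((v.2.1 : K) * (- -t) ^ v.2.2.1 * (-u) ^ v.2.2.2) ∈ K'
    rw [h, zero_mul, zero_mul, xG_zero]
    exact one_mem _
  · exact h _

theorem xG_pow (s : ℕ) (t : K) (m : ℕ) : xG hp.inList s t ^ m = xG hp.inList s (m * t) := by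
  induction m with
  | zero => rw [pow_zero, Nat.cast_zero, zero_mul, xG_zero]
  | succ m ih => rw [pow_succ, ih, xG_add, Nat.cast_succ, add_mul, one_mul]

end Rel

section Cls

variable {D : ChevalleyDatum} {l : ℕ} {M : CoxeterMatrix (Fin l)} (hp : IsType D l M) {K : Type u} [Field K]
  [Finite K] (p : ℕ) [Fact p.Prime] [CharP K p] {W : Type*} [Group W] (cs : CoxeterSystem M W)

/-- the root groups in `D.group K` -/
theorem mem_X {s : ℕ} (hs : s < D.nroots) {g : ↥(D.group K)} :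
    g ∈ (XV D l K (vec D l s)).subgroupOf (D.group K) ↔ ∃ t : K, (g : GL D.Idx K) = xG hp.inList s t := by
  rw [Subgroup.mem_subgroupOf, XV_vec hp K hs, mem_rootSubgroup_iff hp.inList]

theorem posB_of {s : ℕ} (h0 : 0 ≤ vec D l s) : posB D l s = true := by
  unfold posB
  rw [List.all_eq_true]
  intro i hi
  rw [List.mem_range] at hi
  exact decide_eq_true (h0 ⟨i, hi⟩)

include hp in
theorem notB_of {r0 : ℕ} (hr0 : r0 < D.nroots) {s : ℕ}
    (hx : vec D l s ∈ NotJ cs hp.isCartan (orth cs hp.isCartan (vec D l r0))) : notB D l r0 s = true := by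
  obtain ⟨-, h0, k, hk, hk0⟩ := hx
  rw [mem_orth, pairing_vec hp k hr0] at hk
  unfold notB
  rw [Bool.and_eq_true]
  refine ⟨posB_of h0, ?_⟩
  rw [List.any_eq_true]
  refine ⟨k, List.mem_range.2 k.2, ?_⟩
  rw [Bool.and_eq_true]
  exact ⟨by simpa using hk, decide_eq_true hk0⟩

/-- **a class from a finite check** -/
theorem cls_chev (q : ℤ) (hq : (q : K) = 0) {r0 : ℕ} (hc : chkCls D l q r0 = true) :
    Cls (rgd (K := K) hp cs p) (vec D l r0) ((XV D l K (vec D l r0)).subgroupOf (D.group K)) := by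
  have hWf : Finite W := finite_W hp cs
  unfold chkCls at hc
  rw [Bool.and_eq_true, Bool.and_eq_true] at hc
  obtain ⟨⟨h1, h2⟩, h3⟩ := hc
  have hr0 : r0 < D.nroots := of_decide_eq_true h1
  rw [List.all_eq_true] at h2 h3
  have hr : IsRoot cs hp.isCartan (vec D l r0) := isRoot_vec hp cs hr0
  have hdiv : ∀ C : ℤ, q ∣ C → (C : K) = 0 := by
    rintro C ⟨c, rfl⟩
    rw [Int.cast_mul, hq, zero_mul]
  set R := rgd (K := K) hp cs p with hR
  refine cls_of R hr ?_ le_rfl (X_ne_bot R hr) ?_ ?_ ?_ ?_ ?_ ?_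
  · intro i
    rw [pairing_vec hp i hr0]
    exact of_decide_eq_true (h2 i (List.mem_range.2 i.2))
  · intro t ht
    exact R.tor _ hr t ht
  · intro w k hk hw
    rw [R.conj_rp hk hr, hw]
  · intro x hx h0 z hz g hg
    obtain ⟨s, hs, rfl⟩ := (isRoot_iff hp cs x).1 hx
    obtain ⟨t, ht⟩ := (mem_X hp hr0).1 hz
    obtain ⟨u, hu⟩ := (mem_X hp hs).1 hg
    apply Subtype.ext
    show (z : GL D.Idx K) * g = g * z
    rw [ht, hu]
    by_cases hsr : s = r0
    · subst hsr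
      rw [xG_add, xG_add, add_comm]
    by_cases hsn : s = D.neg r0
    · exfalso
      subst hsn
      rw [vec_neg hp hr0] at h0
      have hd : Dom (cartanOf D l) (vec D l r0) := by
        intro i
        rw [pairing_vec hp i hr0]
        exact of_decide_eq_true (h2 i (List.mem_range.2 i.2))
      have := Fintype.ofFinite W
      have h5 := form_nonneg_of_dom cs hp.isCartan hd h0
      rw [form_neg_right] at h5
      have h6 := form_pos cs hp.isCartan hr.ne_zero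
      omega
    have h4 := h3 s (List.mem_range.2 hs)
    rw [Bool.and_eq_true] at h4
    have h5 := h4.1
    rw [posB_of h0] at h5
    simp only [Bool.not_true, Bool.false_or, Bool.or_eq_true, beq_iff_eq] at h5
    have h6 : vanB q (D.commTerms r0 s) = true := by
      rcases h5 with (h5 | h5) | h5
      · exact absurd h5 hsr
      · exact absurd h5 hsn
      · exact h5
    unfold vanB at h6
    rw [List.all_eq_true] at h6
    have h7 := comm_in hp hr0 hs hsr hsn (K' := (⊥ : Subgroup (GL D.Idx K)))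
      (fun c hc => Or.inl (hdiv _ (of_decide_eq_true (h6 c hc)))) t u
    rw [Subgroup.mem_bot, commutatorElement_eq_one_iff_mul_comm] at h7
    exact h7.symm
  · intro x hx y hy g hg k hk
    obtain ⟨s, hs, rfl⟩ := (isRoot_iff hp cs x).1 hx.1
    obtain ⟨t, ht, rfl⟩ := (isRoot_iff hp cs y).1 hy.1
    obtain ⟨a, ha⟩ := (mem_X hp hs).1 hg
    obtain ⟨b, hb⟩ := (mem_X hp ht).1 hk
    rw [Subgroup.mem_subgroupOf]
    show (g : GL D.Idx K) * (k : GL D.Idx K) * (g : GL D.Idx K)⁻¹ * (k : GL D.Idx K)⁻¹ ∈ _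
    rw [ha, hb, XV_vec hp K hr0]
    by_cases hst : s = t
    · subst hst
      have e : xG hp.inList s a * xG hp.inList s b * (xG hp.inList s a)⁻¹ * (xG hp.inList s b)⁻¹ = 1 := by
        rw [xG_add, add_comm, ← xG_add]; group
      rw [e]; exact one_mem _
    have hstn : s ≠ D.neg t := by
      rintro rfl
      have h5 := hx.2.1
      rw [vec_neg hp ht] at h5
      have h6 := hy.2.1
      have h7 : vec D l t = 0 := le_antisymm (neg_nonneg.1 h5) h6
      exact hy.1.ne_zero h7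
    have h4 := h3 t (List.mem_range.2 ht)
    rw [Bool.and_eq_true] at h4
    have h5 := h4.2
    rw [List.all_eq_true] at h5
    have h6 := h5 s (List.mem_range.2 hs)
    rw [notB_of hp cs hr0 hx, notB_of hp cs hr0 hy] at h6
    simp only [Bool.not_true, Bool.false_or, Bool.or_eq_true, beq_iff_eq] at h6
    have hts : t ≠ D.neg s := by
      rintro rfl
      apply hstn
      exact (RootVec.neg_neg hp.checked hs).symm
    have h7 : vanB' q r0 (D.commTerms t s) = true := by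
      rcases h6 with (h6 | h6) | h6
      · exact absurd h6.symm hst
      · exact absurd h6 hts
      · exact h6
    unfold vanB' at h7
    rw [List.all_eq_true] at h7
    refine comm_in hp ht hs hst hstn (K' := D.rootSubgroup K r0) (fun c hc => ?_) b a
    have h8 := h7 c hc
    rw [Bool.or_eq_true, beq_iff_eq] at h8
    rcases h8 with h8 | h8
    · right
      intro t
      rw [h8]
      exact xG_mem_rootSubgroup hp.inList r0 t
    · exact Or.inl (hdiv _ (of_decide_eq_true h8))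
  · intro x hx g hg
    obtain ⟨s, hs, rfl⟩ := (isRoot_iff hp cs x).1 hx.1
    obtain ⟨a, ha⟩ := (mem_X hp hs).1 hg
    have : g ^ p = 1 := by
      apply Subtype.ext
      show (g : GL D.Idx K) ^ p = 1
      rw [ha, xG_pow hp, CharP.cast_eq_zero, zero_mul, xG_zero]
    rw [this]; exact one_mem _
  · intro g hg
    obtain ⟨a, ha⟩ := (mem_X hp hr0).1 hg
    apply Subtype.ext
    show (g : GL D.Idx K) ^ p = 1
    rw [ha, xG_pow hp, CharP.cast_eq_zero, zero_mul, xG_zero]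

/-- the walk of an index under the fundamental reflections -/
def walk (D : ChevalleyDatum) {l : ℕ} (ω : List (Fin l)) (r : ℕ) : ℕ := ω.foldr (fun i s => D.reflectRoot i s) r

omit [Field K] [Finite K] [CharP K p] in
theorem rep_walk (ω : List (Fin l)) {r : ℕ} (hr : r < D.nroots) :
    walk D ω r < D.nroots ∧ rep cs hp.isCartan (cs.wordProd ω) (vec D l r) = vec D l (walk D ω r) := by
  induction ω with
  | nil => exact ⟨hr, by rw [wordProd_nil, map_one, Module.End.one_apply]; rfl⟩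
  | cons i ω ih =>
    obtain ⟨h1, h2⟩ := ih
    refine ⟨reflectRoot_lt hp.inList (lt_rank hp i) h1, ?_⟩
    rw [wordProd_cons, rep_mul_apply, h2, rep_vec hp cs i h1]
    rfl

/-- the check at a bond of order four; `b = s_i α_j`, `g = s_j α_i` -/
def chkB4 (D : ChevalleyDatum) (i j b g : ℕ) : Bool :=
  (D.reflectRoot i (D.simple j) == b) && (D.reflectRoot j (D.simple i) == g) &&
  ((D.commTerms b (D.simple j)).all fun c => c.1 == g) &&
  (D.commTerms g (D.simple j)).isEmpty && (D.commTerms g b).isEmpty && (D.commTerms (D.simple i) g).isEmpty &&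
  (D.commTerms (D.neg (D.simple i)) g).isEmpty &&
  !(D.simple j == b) && !(D.simple j == D.neg b) && !(D.simple j == g) && !(D.simple j == D.neg g) &&
  !(b == g) && !(b == D.neg g) && !(g == D.simple i) && !(g == D.neg (D.simple i)) &&
  !(g == D.neg (D.neg (D.simple i))) && !(b == D.simple j) && !(b == D.neg (D.simple j))

theorem b4_chev {i j : Fin l} (hM : M i j = 4) {b g r0 : ℕ} (hc : chkB4 D i j b g = true) {C : ℤ}
    (hC : D.commTerms (D.simple j) b = [(g, C, 1, 1)]) (hCK : (C : K) ≠ 0) (hr0 : r0 < D.nroots) {w₀ : W}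
    (hw₀ : rep cs hp.isCartan w₀ (sr i) = vec D l r0) :
    B4 (rgd (K := K) hp cs p) (vec D l r0) ((XV D l K (vec D l r0)).subgroupOf (D.group K)) i j
      ((XV D l K (rep cs hp.isCartan (cs.simple j) (sr i))).subgroupOf (D.group K)) := by
  have hWf : Finite W := finite_W hp cs
  have hai := _root_.Cfsg.Agent.ChevalleyStructure.NPerm.simple_lt hp.inList (lt_rank hp i)
  have haj := _root_.Cfsg.Agent.ChevalleyStructure.NPerm.simple_lt hp.inList (lt_rank hp j)
  simp only [chkB4, Bool.and_eq_true, beq_iff_eq, Bool.not_eq_true', beq_eq_false_iff_ne, List.isEmpty_iff] at hc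
  obtain ⟨⟨⟨⟨⟨⟨⟨⟨⟨⟨⟨⟨⟨⟨⟨⟨⟨h1, h2⟩, h3⟩, h4⟩, h5⟩, h6⟩, h7⟩, n1⟩, n2⟩, n3⟩, n4⟩, n5⟩, n6⟩, n7⟩, n8⟩, n9⟩, n10⟩, n11⟩ := hc
  have hb : b < D.nroots := h1 ▸ reflectRoot_lt hp.inList (lt_rank hp i) haj
  have hg : g < D.nroots := h2 ▸ reflectRoot_lt hp.inList (lt_rank hp j) hai
  have eb : rep cs hp.isCartan (cs.simple i) (sr j) = vec D l b := by
    rw [← vec_simple hp j, rep_vec hp cs i haj, h1]
  have eg : rep cs hp.isCartan (cs.simple j) (sr i) = vec D l g := by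
    rw [← vec_simple hp i, rep_vec hp cs j hai, h2]
  have hr : IsRoot cs hp.isCartan (vec D l r0) := isRoot_vec hp cs hr0
  set R := rgd (K := K) hp cs p with hR
  have hcomm : ∀ {r s : ℕ}, r < D.nroots → s < D.nroots → s ≠ r → s ≠ D.neg r → D.commTerms r s = [] →
      ∀ x ∈ (XV D l K (vec D l s)).subgroupOf (D.group K), ∀ y ∈ (XV D l K (vec D l r)).subgroupOf (D.group K),
        x * y = y * x := by
    intro r s hr hs hsr hsn he x hx y hy
    obtain ⟨u, hu⟩ := (mem_X hp hs).1 hx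
    obtain ⟨t, ht⟩ := (mem_X hp hr).1 hy
    apply Subtype.ext
    show (x : GL D.Idx K) * y = y * x
    have := comm_in hp hr hs hsr hsn (K' := (⊥ : Subgroup (GL D.Idx K)))
      (fun c hc => by rw [he] at hc; exact absurd hc List.not_mem_nil) t u
    rw [Subgroup.mem_bot, commutatorElement_eq_one_iff_mul_comm] at this
    rw [hu, ht, this]
  have hself : ∀ {s : ℕ}, s < D.nroots → ∀ x ∈ (XV D l K (vec D l s)).subgroupOf (D.group K),
      ∀ y ∈ (XV D l K (vec D l s)).subgroupOf (D.group K), x * y = y * x := by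
    intro s hs x hx y hy
    obtain ⟨u, hu⟩ := (mem_X hp hs).1 hx
    obtain ⟨t, ht⟩ := (mem_X hp hs).1 hy
    apply Subtype.ext
    show (x : GL D.Idx K) * y = y * x
    rw [hu, ht, xG_add, xG_add, add_comm]
  refine ⟨hM, ?_, ?_, ?_, ?_, ?_, ?_, ?_, ?_, ?_, ?_⟩
  · obtain ⟨k, hk⟩ := exists_rp cs R.nsys (cs.simple j * w₀⁻¹)
    refine ⟨cs.simple j * w₀⁻¹, k, hk, ?_, ?_⟩
    · rw [rep_mul_apply, ← hw₀, rep_inv_apply]
    · rw [R.conj_rp hk hr, rep_mul_apply, ← hw₀, rep_inv_apply]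
  · rw [eb, eg, ← vec_simple hp j]
    intro x hx y hy
    obtain ⟨u, hu⟩ := (mem_X hp haj).1 hx
    obtain ⟨t, ht⟩ := (mem_X hp hb).1 hy
    rw [Subgroup.mem_subgroupOf]
    show ⁅(x : GL D.Idx K), (y : GL D.Idx K)⁆ ∈ _
    rw [hu, ht, XV_vec hp K hg]
    refine comm_in hp hb haj n1 n2 (fun c hc => Or.inr fun t => ?_) t u
    rw [List.all_eq_true] at h3
    rw [beq_iff_eq.1 (h3 c hc)]
    exact xG_mem_rootSubgroup hp.inList g t
  · rw [eg, ← vec_simple hp j]
    exact hcomm hg haj n3 n4 h4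
  · rw [eb, eg]
    exact hcomm hg hb n5 n6 h5
  · rw [eb]; exact hself hb
  · rw [eg]; exact hself hg
  · rw [eg, ← vec_simple hp i]
    exact hcomm hai hg n7 n8 h6
  · rw [eg, ← vec_simple hp i, ← vec_neg hp hai]
    exact hcomm (_root_.Cfsg.Agent.ChevalleyStructure.NPerm.neg_lt hp.inList hai) hg n8 n9 h7
  · rw [eb, eg, ← vec_simple hp j]
    intro a ha ha1
    obtain ⟨t, ht⟩ := (mem_X hp haj).1 ha
    have ht0 : t ≠ 0 := by
      rintro rfl
      apply ha1
      apply Subtype.ext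
      rw [ht, xG_zero]; rfl
    have hy : xG hp.inList b (1 : K) ∈ D.group K := xG_mem_group hp.inList b 1
    refine ⟨⟨_, hy⟩, (mem_X hp hb).2 ⟨1, rfl⟩, ?_⟩
    have e : ⁅xG hp.inList b (1 : K), xG hp.inList (D.simple j) t⁆ = xG hp.inList g ((C : K) * t * -1) := by
      have e1 : ⁅xG hp.inList b (1 : K), xG hp.inList (D.simple j) t⁆ =
          wordG hp.inList (D.commWord K (D.simple j) b (-t) (-1)) := by
        rw [← comm_xG hp haj hb n10 n11, xG_inv, xG_inv, _root_.neg_neg, _root_.neg_neg]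
      rw [e1, ChevalleyDatum.commWord, hC, List.map_cons, List.map_nil, wordG_cons]
      simp [wordG]
    constructor
    · rw [Subgroup.mem_subgroupOf]
      show ⁅xG hp.inList b (1 : K), (a : GL D.Idx K)⁆ ∈ _
      rw [ht, XV_vec hp K hg, e]
      exact xG_mem_rootSubgroup hp.inList g _
    · intro h0
      have h8 : ⁅xG hp.inList b (1 : K), (a : GL D.Idx K)⁆ = 1 := congrArg Subtype.val h0
      rw [ht, e, xG_eq_one_iff hp.inList hg] at h8
      exact mul_ne_zero (mul_ne_zero hCK ht0) (neg_ne_zero.2 one_ne_zero) h8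
  · intro z hz hz1 w m hm hw
    exact mu_full R ((isRoot_sr cs _ i).act _) hz hz1 hm hw

end Cls

end Cfsg.Agent.H939.ChevCls
end

-- part: H939/InstF4
section
/-!
Complemented subgroup lattices (S5900): `F₄(q)`, and `G₂(3^k)`.
-/

set_option autoImplicit false
set_option linter.unusedSectionVars false
set_option linter.dupNamespace false

namespace Cfsg.Agent.H939.InstF4

open CoxeterSystem Cfsg.Agent.ChevalleyStructure.CoxeterGeom Cfsg.Agent.Tits.Roots Cfsg.Agent.Tits.Core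
  Cfsg.Agent.Tits.RootComb Cfsg.Agent.Nodes.Comb Cfsg.Agent.Nodes.Reps Cfsg.Agent.Nodes.BNOf
  Cfsg.Agent.Nodes.StabComb Cfsg.Agent.Nodes.LeviDec Cfsg.Agent.Nodes.OppDec Cfsg.Agent.Nodes.Bruhat
open Cfsg.Lie Cfsg.Agent.ChevalleyStructure Cfsg.Agent.ChevalleyStructure.Elts
  Cfsg.Agent.ChevalleyStructure.RootVec Cfsg.Agent.ChevalleyStructure.RootVecTab
  Cfsg.Agent.ChevalleyStructure.NPerm Cfsg.Agent.ChevalleyStructure.CoxeterGeomTypes
open Cfsg.Agent.Nodes Cfsg.Agent.Nodes.RGDChev Cfsg.Agent.Nodes.RGDLib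
open Cfsg.Agent.H939.RgdA Cfsg.Agent.H939.RgdTwo Cfsg.Agent.H939.ClsOf Cfsg.Agent.H939.RgdB4
  Cfsg.Agent.H939.ChevCls Cfsg.Agent.H939.InstSL Cfsg.Agent.KFacts.RgdLieCharP Cfsg.Agent.H939.RgdV

universe u

theorem hF4 : IsType chevF4 4 CoxeterMatrix.F₄ := by simp [IsType, typeList]
theorem hG2 : IsType chevG2 2 CoxeterMatrix.G₂ := by simp [IsType, typeList]

theorem chk47 : chkCls chevF4 4 0 47 = true := by decide +kernel
theorem chk44 : chkCls chevF4 4 2 44 = true := by decide +kernel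
theorem chk11 : chkCls chevG2 2 0 11 = true := by decide +kernel
theorem chk9 : chkCls chevG2 2 3 9 = true := by decide +kernel
theorem chkB : chkB4 chevF4 2 1 28 30 = true := by decide +kernel
theorem chkC : chevF4.commTerms (chevF4.simple 1) 28 = [(30, 2, 1, 1)] := by decide +kernel

theorem simpleF : chevF4.simple 0 = 33 ∧ chevF4.simple 1 = 27 ∧ chevF4.simple 2 = 25 ∧ chevF4.simple 3 = 24 := by
  decide +kernel
theorem simpleG : chevG2.simple 0 = 7 ∧ chevG2.simple 1 = 6 := by decide +kernel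

theorem walk3 : walk chevF4 ([2, 1, 2, 0, 1, 2, 3] : List (Fin 4)) 47 = 24 := by decide +kernel
theorem walk2 : walk chevF4 ([3, 1, 2, 0, 1, 2, 3] : List (Fin 4)) 47 = 25 := by decide +kernel
theorem walk1 : walk chevF4 ([2, 3, 0, 1, 2, 1, 0] : List (Fin 4)) 44 = 27 := by decide +kernel
theorem walk0 : walk chevF4 ([1, 2, 3, 1, 2, 1, 0] : List (Fin 4)) 44 = 33 := by decide +kernel
theorem walkG1 : walk chevG2 ([0, 1] : List (Fin 2)) 11 = 6 := by decide +kernel
theorem walkG0 : walk chevG2 ([1, 0] : List (Fin 2)) 9 = 7 := by decide +kernel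

section

variable {D : ChevalleyDatum} {l : ℕ} {M : CoxeterMatrix (Fin l)} (hp : IsType D l M) {W : Type*} [Group W]
  (cs : CoxeterSystem M W)

theorem exists_w {r0 : ℕ} (hr0 : r0 < D.nroots) (i : Fin l) {s : ℕ} (hs : D.simple i = s) {ω : List (Fin l)}
    (hω : walk D ω r0 = s) : ∃ w : W, rep cs hp.isCartan w (vec D l r0) = sr i := by
  refine ⟨cs.wordProd ω, ?_⟩
  rw [(rep_walk hp cs ω hr0).2, hω, ← hs, vec_simple hp i]

end

theorem F4_entries : CoxeterMatrix.F₄ 2 1 = 4 ∧ CoxeterMatrix.F₄ 1 0 = 3 := by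
  constructor <;> decide

theorem cl_F4 (K : Type u) [Field K] [Finite K] (p : ℕ) [CharP K p] [Finite ↥(chevF4.group K)]
    [IsSimpleGroup ↥(chevF4.group K)] : KLat.CL ↥(chevF4.group K) := by
  by_cases hc : ∀ a b : ↥(chevF4.group K), a * b = b * a
  · exact cl_of_comm hc
  have : Fact p.Prime := ⟨CharP.char_is_prime K p⟩
  set cs := (CoxeterMatrix.F₄).toCoxeterSystem with hcs
  have hWf : Finite (CoxeterMatrix.F₄).Group := finite_W hF4 cs
  set R := rgd (K := K) hF4 cs p with hR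
  have hX := G1_eq_top (K := K) hF4 cs
  have hconn := conn_of_simple R hX (center_bot hc)
  have hG : GG cs hF4.isCartan ((chevF4.diagonalSubgroup K).subgroupOf (chevF4.group K))
      (fun x => (XV chevF4 4 K x).subgroupOf (chevF4.group K)) = ⊤ := by
    rw [eq_top_iff, ← hX]; exact le_sup_right
  have h47 : 47 < chevF4.nroots := by decide +kernel
  have h44 : 44 < chevF4.nroots := by decide +kernel
  obtain ⟨s0, s1, s2, s3⟩ := simpleF
  have C := cls_chev (K := K) hF4 p cs 0 (by simp) chk47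
  obtain ⟨w3, hw3⟩ := exists_w hF4 cs h47 3 (s := 24) s3 walk3
  obtain ⟨w2, hw2⟩ := exists_w hF4 cs h47 2 (s := 25) s2 walk2
  by_cases h2 : (2 : K) = 0
  · have C' := cls_chev (K := K) hF4 p cs 2 (by exact_mod_cast h2) chk44
    obtain ⟨w1, hw1⟩ := exists_w hF4 cs h44 1 (s := 27) s1 walk1
    obtain ⟨w0, hw0⟩ := exists_w hF4 cs h44 0 (s := 33) s0 walk0
    refine cl_of_all R hX hconn ?_
    intro i
    fin_cases i
    · exact ⟨_, _, w0, C', hw0⟩
    · exact ⟨_, _, w1, C', hw1⟩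
    · exact ⟨_, _, w2, C, hw2⟩
    · exact ⟨_, _, w3, C, hw3⟩
  · have g3 : _root_.Cfsg.Agent.H939.RgdTwo.Good R (vec chevF4 4 47) _ 3 := good_of_class C.long hG hw3
    have g2 : _root_.Cfsg.Agent.H939.RgdTwo.Good R (vec chevF4 4 47) _ 2 := good_of_class C.long hG hw2
    have hw2' : rep cs hF4.isCartan w2⁻¹ (sr 2) = vec chevF4 4 47 := by rw [← hw2, rep_inv_apply]
    have D := b4_chev (K := K) hF4 p cs F4_entries.1 (i := 2) (j := 1) (b := 28) (g := 30) chkB (C := 2) chkC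
      (by exact_mod_cast h2) h47 hw2'
    have g1 := good_of_four D C.long hG g2
    have g0 : _root_.Cfsg.Agent.H939.RgdTwo.Good R (vec chevF4 4 47) _ 0 := _root_.Cfsg.Agent.H939.RgdV.good_of_three F4_entries.2 g1
    refine cl_of_good R hX hconn C ?_
    intro i
    fin_cases i
    · exact g0
    · exact g1
    · exact g2
    · exact g3

theorem cl_G2_three (K : Type u) [Field K] [Finite K] (p : ℕ) [CharP K p] (h3 : (3 : K) = 0)
    [Finite ↥(chevG2.group K)] [IsSimpleGroup ↥(chevG2.group K)] : KLat.CL ↥(chevG2.group K) := by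
  by_cases hc : ∀ a b : ↥(chevG2.group K), a * b = b * a
  · exact cl_of_comm hc
  have : Fact p.Prime := ⟨CharP.char_is_prime K p⟩
  set cs := (CoxeterMatrix.G₂).toCoxeterSystem with hcs
  have hWf : Finite (CoxeterMatrix.G₂).Group := finite_W hG2 cs
  set R := rgd (K := K) hG2 cs p with hR
  have hX := G1_eq_top (K := K) hG2 cs
  have hconn := conn_of_simple R hX (center_bot hc)
  have h11 : 11 < chevG2.nroots := by decide +kernel
  have h9 : 9 < chevG2.nroots := by decide +kernel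
  obtain ⟨s0, s1⟩ := simpleG
  have C := cls_chev (K := K) hG2 p cs 0 (by simp) chk11
  have C' := cls_chev (K := K) hG2 p cs 3 (by exact_mod_cast h3) chk9
  obtain ⟨w1, hw1⟩ := exists_w hG2 cs h11 1 (s := 6) s1 walkG1
  obtain ⟨w0, hw0⟩ := exists_w hG2 cs h9 0 (s := 7) s0 walkG0
  refine cl_of_all R hX hconn ?_
  intro i
  fin_cases i
  · exact ⟨_, _, w0, C', hw0⟩
  · exact ⟨_, _, w1, C, hw1⟩

end Cfsg.Agent.H939.InstF4
end

private theorem dce_86f205868ac6 : _root_.True := by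
  try have : _root_.True := by simp only [_root_.Cfsg.Agent.H939.ChevCls.chkB4.eq_1]
  try have : _root_.True := by simp only [_root_.Cfsg.Lie.ChevalleyDatum.commWord.eq_1]
  exact _root_.True.intro
end

-- part: H939/LieAll
section
prune_inst 0x10000040000000000005843100000018000002004000008000080001080040800008000000101200280000000000200200008000000000040000000004000000081000a0080000200000000004000000000000000000000000000000000004000000000
set_option linter.all false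
open scoped Cfsg.Agent.FastGrp

-- part: H939/InstG2
section
/-!
Complemented subgroup lattices (S5900): `G₂(q)`, `3 ∤ q`.
-/

set_option autoImplicit false
set_option linter.unusedSectionVars false
set_option linter.dupNamespace false

namespace Cfsg.Agent.H939.InstG2

open CoxeterSystem Cfsg.Agent.ChevalleyStructure.CoxeterGeom Cfsg.Agent.Tits.Roots Cfsg.Agent.Tits.Core
  Cfsg.Agent.Tits.RootComb Cfsg.Agent.Nodes.Comb Cfsg.Agent.Nodes.Reps Cfsg.Agent.Nodes.BNOf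
  Cfsg.Agent.Nodes.StabComb Cfsg.Agent.Nodes.LeviDec Cfsg.Agent.Nodes.OppDec Cfsg.Agent.Nodes.Bruhat
open Cfsg.Lie Cfsg.Agent.ChevalleyStructure Cfsg.Agent.ChevalleyStructure.Elts
  Cfsg.Agent.ChevalleyStructure.RootVec Cfsg.Agent.ChevalleyStructure.RootVecTab
  Cfsg.Agent.ChevalleyStructure.NPerm Cfsg.Agent.ChevalleyStructure.CoxeterGeomTypes
open Cfsg.Agent.Nodes Cfsg.Agent.Nodes.RGDChev Cfsg.Agent.Nodes.RGDLib
open Cfsg.Agent.H939.RgdA Cfsg.Agent.H939.RgdTwo Cfsg.Agent.H939.ClsOf Cfsg.Agent.H939.RgdP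
  Cfsg.Agent.H939.ChevCls Cfsg.Agent.H939.InstSL Cfsg.Agent.KFacts.RgdLieCharP Cfsg.Agent.H939.RgdV
  Cfsg.Agent.H939.InstF4

universe u

variable (K : Type u) [Field K]

/-- root elements in the group -/
noncomputable def xx (s : ℕ) (t : K) : ↥(chevG2.group K) := ⟨xG hG2.inList s t, xG_mem_group hG2.inList s t⟩

variable {K}

theorem xx_add (s : ℕ) (t u : K) : xx K s t * xx K s u = xx K s (t + u) := Subtype.ext (xG_add hG2.inList s t u)

theorem xx_zero (s : ℕ) : xx K s 0 = 1 := Subtype.ext (xG_zero hG2.inList s)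

theorem xx_inv (s : ℕ) (t : K) : (xx K s t)⁻¹ = xx K s (-t) := Subtype.ext (xG_inv hG2.inList s t)

theorem xx_com {r s : ℕ} (hr : r < chevG2.nroots) (hs : s < chevG2.nroots) (hrs : s ≠ r) (hneg : s ≠ chevG2.neg r)
    (hc : chevG2.commTerms r s = []) (t u : K) : xx K s u * xx K r t = xx K r t * xx K s u := by
  apply Subtype.ext
  show xG hG2.inList s u * xG hG2.inList r t = xG hG2.inList r t * xG hG2.inList s u
  have := comm_in hG2 hr hs hrs hneg (K' := (⊥ : Subgroup (GL chevG2.Idx K)))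
    (fun c h => by rw [hc] at h; exact absurd h List.not_mem_nil) t u
  rwa [Subgroup.mem_bot, commutatorElement_eq_one_iff_mul_comm] at this

theorem com_aux {r s : ℕ} (hr : r < chevG2.nroots) (hs : s < chevG2.nroots) (hrs : s ≠ r) (hneg : s ≠ chevG2.neg r)
    (t u : K) {w : ↥(chevG2.group K)} (hw : (w : GL chevG2.Idx K) = wordG hG2.inList (chevG2.commWord K r s t u)) :
    xx K s u * xx K r t = xx K r t * (xx K s u * w) := by
  have h1 := comm_xG hG2 hr hs hrs hneg t u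
  rw [← hw] at h1
  apply Subtype.ext
  show xG hG2.inList s u * xG hG2.inList r t = xG hG2.inList r t * (xG hG2.inList s u * (w : GL chevG2.Idx K))
  rw [← h1, commutatorElement_def]
  group

theorem nr : chevG2.nroots = 12 := by decide +kernel

section

variable (t u : K) (z : ↥(chevG2.group K))

theorem c87 : xx K 8 u * xx K 7 t =
    xx K 7 t * (xx K 8 u * (xx K 9 (2 * t * u) * (xx K 10 (-3 * t ^ 2 * u) * xx K 11 (-3 * t * u ^ 2)))) := by
  refine com_aux (by decide +kernel) (by decide +kernel) (by decide) (by decide +kernel) t u ?_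
  have e : chevG2.commTerms 7 8 = [(9, -2, 1, 1), (10, -3, 2, 1), (11, 3, 1, 2)] := by decide +kernel
  rw [ChevalleyDatum.commWord, e]
  simp only [List.map_cons, List.map_nil, wordG_cons]
  show xG hG2.inList 9 _ * (xG hG2.inList 10 _ * xG hG2.inList 11 _) = _
  simp only [wordG, List.map_nil, List.prod_nil, mul_one]
  congr 3 <;> · push_cast; ring

theorem c97 : xx K 9 u * xx K 7 t = xx K 7 t * (xx K 9 u * xx K 10 (-3 * t * u)) := by
  refine com_aux (by decide +kernel) (by decide +kernel) (by decide) (by decide +kernel) t u ?_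
  have e : chevG2.commTerms 7 9 = [(10, 3, 1, 1)] := by decide +kernel
  rw [ChevalleyDatum.commWord, e]
  simp only [List.map_cons, List.map_nil, wordG_cons]
  show xG hG2.inList 10 _ = _
  simp only [wordG, List.map_nil, List.prod_nil, mul_one]
  congr 1; push_cast; ring

theorem c98 : xx K 9 u * xx K 8 t = xx K 8 t * (xx K 9 u * xx K 11 (-3 * t * u)) := by
  refine com_aux (by decide +kernel) (by decide +kernel) (by decide) (by decide +kernel) t u ?_
  have e : chevG2.commTerms 8 9 = [(11, 3, 1, 1)] := by decide +kernel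
  rw [ChevalleyDatum.commWord, e]
  simp only [List.map_cons, List.map_nil, wordG_cons]
  show xG hG2.inList 11 _ = _
  simp only [wordG, List.map_nil, List.prod_nil, mul_one]
  congr 1; push_cast; ring

theorem c106 : xx K 10 u * xx K 6 t = xx K 6 t * (xx K 10 u * xx K 11 (-t * u)) := by
  refine com_aux (by decide +kernel) (by decide +kernel) (by decide) (by decide +kernel) t u ?_
  have e : chevG2.commTerms 6 10 = [(11, 1, 1, 1)] := by decide +kernel
  rw [ChevalleyDatum.commWord, e]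
  simp only [List.map_cons, List.map_nil, wordG_cons]
  show xG hG2.inList 11 _ = _
  simp only [wordG, List.map_nil, List.prod_nil, mul_one]
  congr 1; push_cast; ring

theorem c76 : xx K 7 u * xx K 6 t = xx K 6 t * (xx K 7 u * (xx K 8 (-t * u) * (xx K 9 (-t * u ^ 2) *
    (xx K 10 (t * u ^ 3) * xx K 11 (-2 * t ^ 2 * u ^ 3))))) := by
  refine com_aux (by decide +kernel) (by decide +kernel) (by decide) (by decide +kernel) t u ?_
  have e : chevG2.commTerms 6 7 = [(8, 1, 1, 1), (9, 1, 1, 2), (10, -1, 1, 3), (11, -2, 2, 3)] := by decide +kernel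
  rw [ChevalleyDatum.commWord, e]
  simp only [List.map_cons, List.map_nil, wordG_cons]
  show xG hG2.inList 8 _ * (xG hG2.inList 9 _ * (xG hG2.inList 10 _ * xG hG2.inList 11 _)) = _
  simp only [wordG, List.map_nil, List.prod_nil, mul_one]
  congr 4 <;> · push_cast; ring

theorem c107 : xx K 10 u * xx K 7 t = xx K 7 t * xx K 10 u :=
  xx_com (by decide +kernel) (by decide +kernel) (by decide) (by decide +kernel) (by decide +kernel) t u
theorem c117 : xx K 11 u * xx K 7 t = xx K 7 t * xx K 11 u :=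
  xx_com (by decide +kernel) (by decide +kernel) (by decide) (by decide +kernel) (by decide +kernel) t u
theorem c108 : xx K 10 u * xx K 8 t = xx K 8 t * xx K 10 u :=
  xx_com (by decide +kernel) (by decide +kernel) (by decide) (by decide +kernel) (by decide +kernel) t u
theorem c118 : xx K 11 u * xx K 8 t = xx K 8 t * xx K 11 u :=
  xx_com (by decide +kernel) (by decide +kernel) (by decide) (by decide +kernel) (by decide +kernel) t u
theorem c109 : xx K 10 u * xx K 9 t = xx K 9 t * xx K 10 u :=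
  xx_com (by decide +kernel) (by decide +kernel) (by decide) (by decide +kernel) (by decide +kernel) t u
theorem c119 : xx K 11 u * xx K 9 t = xx K 9 t * xx K 11 u :=
  xx_com (by decide +kernel) (by decide +kernel) (by decide) (by decide +kernel) (by decide +kernel) t u
theorem c1110 : xx K 11 u * xx K 10 t = xx K 10 t * xx K 11 u :=
  xx_com (by decide +kernel) (by decide +kernel) (by decide) (by decide +kernel) (by decide +kernel) t u
theorem c86 : xx K 8 u * xx K 6 t = xx K 6 t * xx K 8 u :=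
  xx_com (by decide +kernel) (by decide +kernel) (by decide) (by decide +kernel) (by decide +kernel) t u
theorem c96 : xx K 9 u * xx K 6 t = xx K 6 t * xx K 9 u :=
  xx_com (by decide +kernel) (by decide +kernel) (by decide) (by decide +kernel) (by decide +kernel) t u
theorem c116 : xx K 11 u * xx K 6 t = xx K 6 t * xx K 11 u :=
  xx_com (by decide +kernel) (by decide +kernel) (by decide) (by decide +kernel) (by decide +kernel) t u

theorem d87 : xx K 8 u * (xx K 7 t * z) =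
    xx K 7 t * (xx K 8 u * (xx K 9 (2 * t * u) * (xx K 10 (-3 * t ^ 2 * u) * (xx K 11 (-3 * t * u ^ 2) * z)))) := by
  rw [← mul_assoc, c87]; simp only [mul_assoc]
theorem d97 : xx K 9 u * (xx K 7 t * z) = xx K 7 t * (xx K 9 u * (xx K 10 (-3 * t * u) * z)) := by
  rw [← mul_assoc, c97]; simp only [mul_assoc]
theorem d98 : xx K 9 u * (xx K 8 t * z) = xx K 8 t * (xx K 9 u * (xx K 11 (-3 * t * u) * z)) := by
  rw [← mul_assoc, c98]; simp only [mul_assoc]
theorem d106 : xx K 10 u * (xx K 6 t * z) = xx K 6 t * (xx K 10 u * (xx K 11 (-t * u) * z)) := by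
  rw [← mul_assoc, c106]; simp only [mul_assoc]
theorem d76 : xx K 7 u * (xx K 6 t * z) = xx K 6 t * (xx K 7 u * (xx K 8 (-t * u) * (xx K 9 (-t * u ^ 2) *
    (xx K 10 (t * u ^ 3) * (xx K 11 (-2 * t ^ 2 * u ^ 3) * z))))) := by
  rw [← mul_assoc, c76]; simp only [mul_assoc]
theorem d107 : xx K 10 u * (xx K 7 t * z) = xx K 7 t * (xx K 10 u * z) := by
  rw [← mul_assoc, c107]; simp only [mul_assoc]
theorem d108 : xx K 10 u * (xx K 8 t * z) = xx K 8 t * (xx K 10 u * z) := by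
  rw [← mul_assoc, c108]; simp only [mul_assoc]
theorem d118 : xx K 11 u * (xx K 8 t * z) = xx K 8 t * (xx K 11 u * z) := by
  rw [← mul_assoc, c118]; simp only [mul_assoc]
theorem d109 : xx K 10 u * (xx K 9 t * z) = xx K 9 t * (xx K 10 u * z) := by
  rw [← mul_assoc, c109]; simp only [mul_assoc]
theorem d119 : xx K 11 u * (xx K 9 t * z) = xx K 9 t * (xx K 11 u * z) := by
  rw [← mul_assoc, c119]; simp only [mul_assoc]
theorem d1110 : xx K 11 u * (xx K 10 t * z) = xx K 10 t * (xx K 11 u * z) := by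
  rw [← mul_assoc, c1110]; simp only [mul_assoc]
theorem d86 : xx K 8 u * (xx K 6 t * z) = xx K 6 t * (xx K 8 u * z) := by
  rw [← mul_assoc, c86]; simp only [mul_assoc]
theorem d96 : xx K 9 u * (xx K 6 t * z) = xx K 6 t * (xx K 9 u * z) := by
  rw [← mul_assoc, c96]; simp only [mul_assoc]
theorem xx_add' (s : ℕ) : xx K s t * (xx K s u * z) = xx K s (t + u) * z := by
  rw [← mul_assoc, xx_add]

end

/-- the collected form -/
noncomputable def E (s a b c d : K) : ↥(chevG2.group K) :=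
  xx K 7 s * (xx K 8 a * (xx K 9 b * (xx K 10 c * xx K 11 d)))

variable (s a b c d t : K)

theorem E_mul11 : E s a b c d * xx K 11 t = E s a b c (d + t) := by
  simp only [E, mul_assoc, xx_add]

theorem E_mul10 : E s a b c d * xx K 10 t = E s a b (c + t) d := by
  simp only [E, mul_assoc, c1110, xx_add']

theorem E_mul9 : E s a b c d * xx K 9 t = E s a (b + t) c d := by
  simp only [E, mul_assoc, c119, d109, xx_add']

theorem E_mul8 : E s a b c d * xx K 8 t = E s (a + t) b c (-3 * t * b + d) := by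
  simp only [E, mul_assoc, c118, d108, d98, xx_add', d1110, xx_add]

theorem E_mul7 : E s a b c d * xx K 7 t =
    E (s + t) a (2 * t * a + b) (-3 * t ^ 2 * a + (-3 * t * b + c)) (-3 * t * a ^ 2 + d) := by
  simp only [E, mul_assoc, c117, d107, d97, d87, xx_add', d1110, d109, d119, xx_add]

theorem E_conj7 : (xx K 7 t)⁻¹ * E 0 a b c d * xx K 7 t =
    E 0 a (2 * t * a + b) (-3 * t ^ 2 * a + (-3 * t * b + c)) (-3 * t * a ^ 2 + d) := by
  rw [mul_assoc, E_mul7, xx_inv]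
  unfold E
  rw [xx_add']
  congr 2
  ring

theorem E_conj6 : ∃ b' c' d' : K, (xx K 6 t)⁻¹ * E s a b c d * xx K 6 t = E s (a - t * s) b' c' d' := by
  have : ∃ b' c' d' : K, E s a b c d * xx K 6 t = xx K 6 t * E s (a - t * s) b' c' d' := by
    have e : a - t * s = -t * s + a := by ring
    simp only [E, mul_assoc, c116, d106, d96, d86, d76, xx_add', d1110, d109, d119, d118, d108, d98, xx_add]
    rw [e]
    exact ⟨_, _, _, rfl⟩
  obtain ⟨b', c', d', h⟩ := this
  refine ⟨b', c', d', ?_⟩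
  rw [mul_assoc, h]; group

/-! ### root groups -/

section

variable [Finite K] (p : ℕ) [Fact p.Prime] [CharP K p] {W : Type*} [Group W] (cs : CoxeterSystem CoxeterMatrix.G₂ W)

variable (K) in
/-- the root groups -/
noncomputable def XX (x : Fin 2 → ℤ) : Subgroup ↥(chevG2.group K) := (XV chevG2 2 K x).subgroupOf (chevG2.group K)

omit a b c d in
theorem xx_mem {r : ℕ} (hr : r < chevG2.nroots) (t : K) : xx K r t ∈ XX K (vec chevG2 2 r) :=
  (mem_X hG2 hr).2 ⟨t, rfl⟩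

theorem eq_xx {r : ℕ} (hr : r < chevG2.nroots) {g : ↥(chevG2.group K)} (hg : g ∈ XX K (vec chevG2 2 r)) :
    ∃ t : K, g = xx K r t := by
  obtain ⟨t, ht⟩ := (mem_X hG2 hr).1 hg
  exact ⟨t, Subtype.ext ht⟩

theorem xx_eq_one {r : ℕ} (hr : r < chevG2.nroots) {t : K} (h : xx K r t = 1) : t = 0 :=
  (xG_eq_one_iff hG2.inList hr t).1 (congrArg Subtype.val h)

theorem conj_xx (i : Fin 2) {r r' : ℕ} (hr : r < chevG2.nroots) (h : chevG2.reflectRoot i r = r') (t : K) :
    ∃ t' : K, (⟨nn hG2 K i, nn_mem_group hG2 i⟩ : ↥(chevG2.group K)) * xx K r t *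
      (⟨nn hG2 K i, nn_mem_group hG2 i⟩ : ↥(chevG2.group K))⁻¹ = xx K r' t' ∧ (t' = 0 → t = 0) := by
  have hr' : r' < chevG2.nroots := h ▸ reflectRoot_lt hG2.inList (lt_rank hG2 i) hr
  have h1 := cj_nn (K := K) hG2 i hr
  rw [h] at h1
  have h2 : nn hG2 K i * xG hG2.inList r t * (nn hG2 K i)⁻¹ ∈ XV chevG2 2 K (vec chevG2 2 r') := by
    rw [← h1, mem_cj]
    have e : (nn hG2 K i)⁻¹ * (nn hG2 K i * xG hG2.inList r t * (nn hG2 K i)⁻¹) * nn hG2 K i =
        xG hG2.inList r t := by group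
    rw [e, XV_vec hG2 K hr]
    exact xG_mem_rootSubgroup hG2.inList r t
  rw [XV_vec hG2 K hr', mem_rootSubgroup_iff hG2.inList] at h2
  obtain ⟨t', ht'⟩ := h2
  refine ⟨t', Subtype.ext ht', ?_⟩
  rintro rfl
  rw [xG_zero] at ht'
  refine (xG_eq_one_iff hG2.inList hr t).1 ?_
  have : xG hG2.inList r t = (nn hG2 K i)⁻¹ * (nn hG2 K i * xG hG2.inList r t * (nn hG2 K i)⁻¹) * nn hG2 K i := by
    group
  rw [this, ht']; group

theorem mem_VJ {i : Fin 2} {r : ℕ} (hr : r < chevG2.nroots) (h0 : ∀ k : Fin 2, 0 ≤ _root_.Cfsg.Agent.ChevalleyStructure.RootVec.rt chevG2 r k)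
    (hj : ∃ k : Fin 2, k ≠ i ∧ 0 < _root_.Cfsg.Agent.ChevalleyStructure.RootVec.rt chevG2 r k) (t : K) :
    xx K r t ∈ VJ cs hG2.isCartan (XX K) {i} := by
  obtain ⟨k, hk, hk'⟩ := hj
  exact RGD.le_Sup (S := NotJ cs hG2.isCartan {i}) ⟨isRoot_vec hG2 cs hr, h0, k, hk, hk'⟩ (xx_mem hr t)

theorem mem_U {r : ℕ} (hr : r < chevG2.nroots) (h0 : ∀ k : Fin 2, 0 ≤ _root_.Cfsg.Agent.ChevalleyStructure.RootVec.rt chevG2 r k) (t : K) :
    xx K r t ∈ RGD.Sup (XX K) (RGD.Pos cs hG2.isCartan) :=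
  RGD.le_Sup (S := RGD.Pos cs hG2.isCartan) ⟨isRoot_vec hG2 cs hr, h0⟩ (xx_mem hr t)

theorem chk_pos : ∀ r < chevG2.nroots, (∀ k : Fin 2, 0 ≤ _root_.Cfsg.Agent.ChevalleyStructure.RootVec.rt chevG2 r k) → (∃ k : Fin 2, k ≠ 1 ∧ 0 < _root_.Cfsg.Agent.ChevalleyStructure.RootVec.rt chevG2 r k) →
    r = 7 ∨ r = 8 ∨ r = 9 ∨ r = 10 ∨ r = 11 := by decide +kernel

theorem eq_E {g : ↥(chevG2.group K)} (hg : g ∈ VJ cs hG2.isCartan (XX K) {1}) :
    ∃ s a b c d : K, g = E s a b c d := by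
  have key : ∀ y : ↥(chevG2.group K), (∃ s a b c d : K, y = E s a b c d) →
      ∃ s a b c d : K, y * g = E s a b c d := by
    unfold VJ RGD.Sup at hg
    refine Subgroup.iSup_induction (C := fun g => ∀ y : ↥(chevG2.group K), (∃ s a b c d : K, y = E s a b c d) →
      ∃ s a b c d : K, y * g = E s a b c d) _ hg ?_ ?_ ?_
    · rintro ⟨v, hv, h0, k, hk, hk'⟩ x hx y ⟨s, a, b, c, d, rfl⟩
      obtain ⟨r, hr, rfl⟩ := (isRoot_iff hG2 cs v).1 hv
      obtain ⟨t, rfl⟩ := eq_xx hr hx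
      rcases chk_pos r hr h0 ⟨k, hk, hk'⟩ with rfl | rfl | rfl | rfl | rfl
      · exact ⟨_, _, _, _, _, E_mul7 ..⟩
      · exact ⟨_, _, _, _, _, E_mul8 ..⟩
      · exact ⟨_, _, _, _, _, E_mul9 ..⟩
      · exact ⟨_, _, _, _, _, E_mul10 ..⟩
      · exact ⟨_, _, _, _, _, E_mul11 ..⟩
    · intro y hy; rw [mul_one]; exact hy
    · intro x y ihx ihy z hz; rw [← mul_assoc]; exact ihy _ (ihx _ hz)
  have := key 1 ⟨0, 0, 0, 0, 0, by simp [E, xx_zero]⟩
  rwa [one_mul] at this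

theorem lt12 {r : ℕ} (h : r < 12) : r < chevG2.nroots := by rw [nr]; exact h

theorem posr : ∀ r : ℕ, 6 ≤ r → r < chevG2.nroots → ∀ k : Fin 2, 0 ≤ _root_.Cfsg.Agent.ChevalleyStructure.RootVec.rt chevG2 r k := by
  have : ∀ r < chevG2.nroots, 6 ≤ r → ∀ k : Fin 2, 0 ≤ _root_.Cfsg.Agent.ChevalleyStructure.RootVec.rt chevG2 r k := by decide +kernel
  exact fun r h1 h2 => this r h2 h1

theorem good0 (h3 : (3 : K) ≠ 0) (hK : ∃ t : K, t ≠ 0 ∧ t ≠ 1) {r : Fin 2 → ℤ} {Z : Subgroup ↥(chevG2.group K)}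
    (g1 : _root_.Cfsg.Agent.H939.RgdTwo.Good (rgd (K := K) hG2 cs p) r Z 1) : _root_.Cfsg.Agent.H939.RgdTwo.Good (rgd (K := K) hG2 cs p) r Z 0 := by
  have hWf : Finite W := finite_W hG2 cs
  intro u hu x hx
  have hDi : DD cs hG2.isCartan (XX K) u ⊆ VJ cs hG2.isCartan (XX K) {1} := g1 u hu
  by_contra hcon
  have mU : ∀ r : ℕ, 6 ≤ r → r < 12 → ∀ t : K, xx K r t ∈ RGD.Sup (XX K) (RGD.Pos cs hG2.isCartan) :=
    fun r h1 h2 t => mem_U cs (lt12 h2) (posr r h1 (lt12 h2)) t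
  -- the coordinate at `10`
  have k10 : ∀ a b c d : K, E 0 a b c d ∈ DD cs hG2.isCartan (XX K) u → c = 0 := by
    intro a b c d hE
    obtain ⟨a', ha, -⟩ := conj_xx 0 (r := 8) (r' := 9) (lt12 (by norm_num)) (by decide +kernel) a
    obtain ⟨b', hb, -⟩ := conj_xx 0 (r := 9) (r' := 8) (lt12 (by norm_num)) (by decide +kernel) b
    obtain ⟨c', hc, hc0⟩ := conj_xx 0 (r := 10) (r' := 6) (lt12 (by norm_num)) (by decide +kernel) c
    obtain ⟨d', hd, -⟩ := conj_xx 0 (r := 11) (r' := 11) (lt12 (by norm_num)) (by decide +kernel) d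
    set n : ↥(chevG2.group K) := ⟨nn hG2 K 0, nn_mem_group hG2 0⟩ with hn
    have e : n * E 0 a b c d * n⁻¹ = xx K 9 a' * (xx K 8 b' * (xx K 6 c' * xx K 11 d')) := by
      rw [← ha, ← hb, ← hc, ← hd]
      unfold E
      rw [xx_zero]
      group
    have h1 : n * E 0 a b c d * n⁻¹ ∈ DD cs hG2.isCartan (XX K) u := by
      refine DD_conj hE ?_
      rw [e]
      exact mul_mem (mU 9 (by norm_num) (by norm_num) _) (mul_mem (mU 8 (by norm_num) (by norm_num) _)
        (mul_mem (mU 6 (by norm_num) (by norm_num) _) (mU 11 (by norm_num) (by norm_num) _)))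
    have h2 := hDi h1
    rw [e] at h2
    have v9 : xx K 9 a' ∈ VJ cs hG2.isCartan (XX K) {1} := mem_VJ cs (lt12 (by norm_num))
      (posr 9 (by norm_num) (lt12 (by norm_num))) (by decide +kernel) a'
    have v8 : xx K 8 b' ∈ VJ cs hG2.isCartan (XX K) {1} := mem_VJ cs (lt12 (by norm_num))
      (posr 8 (by norm_num) (lt12 (by norm_num))) (by decide +kernel) b'
    have v11 : xx K 11 d' ∈ VJ cs hG2.isCartan (XX K) {1} := mem_VJ cs (lt12 (by norm_num))
      (posr 11 (by norm_num) (lt12 (by norm_num))) (by decide +kernel) d'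
    have v6 : xx K 6 c' ∈ VJ cs hG2.isCartan (XX K) {1} :=
      (Subgroup.mul_mem_cancel_right _ v11).1 ((Subgroup.mul_mem_cancel_left _ v8).1
        ((Subgroup.mul_mem_cancel_left _ v9).1 h2))
    have m6 : xx K 6 c' ∈ XX K (sr 1) := by
      have := xx_mem (K := K) (r := 6) (lt12 (by norm_num)) c'
      have e6 : vec chevG2 2 6 = sr 1 := by
        rw [← vec_simple hG2 1]
        exact congrArg (vec chevG2 2) simpleG.2.symm
      rwa [e6] at this
    have h6 : xx K 6 c' = 1 := X_inf_VJ (rgd (K := K) hG2 cs p) m6 v6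
    exact hc0 (xx_eq_one (lt12 (by norm_num)) h6)
  obtain ⟨s, a, b, c, d, rfl⟩ := eq_E cs (hDi hx)
  have hs : s ≠ 0 := by
    rintro rfl
    apply hcon
    unfold E
    rw [xx_zero, one_mul]
    have v : ∀ r : ℕ, 8 ≤ r → r < 12 → ∀ t : K, xx K r t ∈ VJ cs hG2.isCartan (XX K) {0} := by
      intro r h1 h2 t
      refine mem_VJ cs (lt12 h2) (posr r (by omega) (lt12 h2)) ?_ t
      have h3 : ∀ r < 12, 8 ≤ r → ∃ k : Fin 2, k ≠ 0 ∧ 0 < _root_.Cfsg.Agent.ChevalleyStructure.RootVec.rt chevG2 r k := by decide +kernel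
      exact h3 r h2 h1
    exact mul_mem (v 8 (by norm_num) (by norm_num) _) (mul_mem (v 9 (by norm_num) (by norm_num) _)
        (mul_mem (v 10 (by norm_num) (by norm_num) _) (v 11 (by norm_num) (by norm_num) _)))
  obtain ⟨b1, c1, d1, h1⟩ := E_conj6 s a b c d (a / s)
  have e1 : a - a / s * s = 0 := by rw [div_mul_cancel₀ _ hs, sub_self]
  rw [e1] at h1
  have hx1 : E s 0 b1 c1 d1 ∈ DD cs hG2.isCartan (XX K) u := by
    rw [← h1]
    have := DD_conj (k := (xx K 6 (a / s))⁻¹) hx (by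
      have h6 := mU 6 (by norm_num) (by norm_num) (a / s)
      exact mul_mem (mul_mem (inv_mem h6) hx.1) (inv_mem (inv_mem h6)))
    rwa [inv_inv] at this
  obtain ⟨s', hs', hs0⟩ := conj_xx 1 (r := 7) (r' := 8) (lt12 (by norm_num)) (by decide +kernel) s
  obtain ⟨b', hb', -⟩ := conj_xx 1 (r := 9) (r' := 9) (lt12 (by norm_num)) (by decide +kernel) b1
  obtain ⟨c', hc', -⟩ := conj_xx 1 (r := 10) (r' := 11) (lt12 (by norm_num)) (by decide +kernel) c1
  obtain ⟨d', hd', -⟩ := conj_xx 1 (r := 11) (r' := 10) (lt12 (by norm_num)) (by decide +kernel) d1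
  have hs1 : s' ≠ 0 := fun h => hs (hs0 h)
  set n : ↥(chevG2.group K) := ⟨nn hG2 K 1, nn_mem_group hG2 1⟩ with hn
  have e2 : n * E s 0 b1 c1 d1 * n⁻¹ = E 0 s' b' d' c' := by
    unfold E
    rw [xx_zero, xx_zero, one_mul, one_mul, ← c1110, ← hs', ← hb', ← hc', ← hd']
    group
  have hx2 : E 0 s' b' d' c' ∈ DD cs hG2.isCartan (XX K) u := by
    rw [← e2]
    refine DD_conj hx1 ?_
    rw [e2]
    exact mul_mem (mU 7 (by norm_num) (by norm_num) _) (mul_mem (mU 8 (by norm_num) (by norm_num) _)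
      (mul_mem (mU 9 (by norm_num) (by norm_num) _) (mul_mem (mU 10 (by norm_num) (by norm_num) _)
        (mU 11 (by norm_num) (by norm_num) _))))
  have hx3 : ∀ t : K, -3 * t ^ 2 * s' + (-3 * t * b' + d') = 0 := by
    intro t
    refine k10 s' (2 * t * s' + b') _ (-3 * t * s' ^ 2 + c') ?_
    rw [← E_conj7]
    have := DD_conj (k := (xx K 7 t)⁻¹) hx2 (by
      have h6 := mU 7 (by norm_num) (by norm_num) t
      exact mul_mem (mul_mem (inv_mem h6) hx2.1) (inv_mem (inv_mem h6)))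
    rwa [inv_inv] at this
  obtain ⟨t, ht0, ht1⟩ := hK
  have f0 := hx3 0
  have f1 := hx3 1
  have ft := hx3 t
  have g0 : d' = 0 := by linear_combination f0
  subst g0
  have g1 : s' + b' = 0 := by
    have : 3 * (s' + b') = 0 := by linear_combination -f1
    exact (mul_eq_zero.1 this).resolve_left h3
  have g2 : t * s' + b' = 0 := by
    have : 3 * t * (t * s' + b') = 0 := by linear_combination -ft
    exact (mul_eq_zero.1 this).resolve_left (mul_ne_zero h3 ht0)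
  have g3 : (t - 1) * s' = 0 := by linear_combination g2 - g1
  exact hs1 ((mul_eq_zero.1 g3).resolve_left (sub_ne_zero.2 ht1))

end

theorem cl_G2 (K : Type u) [Field K] [Finite K] (p : ℕ) [CharP K p] (hK : 3 ≤ Nat.card K)
    [Finite ↥(chevG2.group K)] [IsSimpleGroup ↥(chevG2.group K)] : KLat.CL ↥(chevG2.group K) := by
  by_cases h3 : (3 : K) = 0
  · exact cl_G2_three K p h3
  by_cases hc : ∀ a b : ↥(chevG2.group K), a * b = b * a
  · exact cl_of_comm hc
  have : Fact p.Prime := ⟨CharP.char_is_prime K p⟩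
  set cs := (CoxeterMatrix.G₂).toCoxeterSystem with hcs
  have hWf : Finite (CoxeterMatrix.G₂).Group := finite_W hG2 cs
  set R := rgd (K := K) hG2 cs p with hR
  have hX := G1_eq_top (K := K) hG2 cs
  have hconn := conn_of_simple R hX (center_bot hc)
  have hG : GG cs hG2.isCartan ((chevG2.diagonalSubgroup K).subgroupOf (chevG2.group K))
      (fun x => (XV chevG2 2 K x).subgroupOf (chevG2.group K)) = ⊤ := by
    rw [eq_top_iff, ← hX]; exact le_sup_right
  have h11 : 11 < chevG2.nroots := by decide +kernel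
  obtain ⟨s0, s1⟩ := simpleG
  have C := cls_chev (K := K) hG2 p cs 0 (by simp) chk11
  obtain ⟨w1, hw1⟩ := exists_w hG2 cs h11 1 (s := 6) s1 walkG1
  have g1 : _root_.Cfsg.Agent.H939.RgdTwo.Good R (vec chevG2 2 11) _ 1 := good_of_class C.long hG hw1
  have ht : ∃ t : K, t ≠ 0 ∧ t ≠ 1 := by
    classical
    by_contra hcon
    push Not at hcon
    have := Fintype.ofFinite K
    have h1 : (Finset.univ : Finset K) ⊆ {0, 1} := by
      intro t _
      rw [Finset.mem_insert, Finset.mem_singleton]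
      by_cases h0 : t = 0
      · exact Or.inl h0
      · exact Or.inr (hcon t h0)
    have h2 := Finset.card_le_card h1
    rw [Finset.card_univ, ← Nat.card_eq_fintype_card] at h2
    have h3 := Finset.card_le_two (a := (0 : K)) (b := 1)
    omega
  have g0 : _root_.Cfsg.Agent.H939.RgdTwo.Good R (vec chevG2 2 11) _ 0 := good0 p cs h3 ht g1
  refine cl_of_good R hX hconn C ?_
  intro i
  fin_cases i
  · exact g0
  · exact g1

end Cfsg.Agent.H939.InstG2
end

-- part: H939/InstE6Tw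
section
/-!
Complemented subgroup lattices (S5900): `²E₆(q)`.
-/

set_option autoImplicit false
set_option linter.unusedSectionVars false
set_option linter.dupNamespace false

namespace Cfsg.Agent.H939.InstE6Tw

open CoxeterSystem Cfsg.Agent.ChevalleyStructure.CoxeterGeom Cfsg.Agent.Tits.Roots Cfsg.Agent.Tits.Core
  Cfsg.Agent.Tits.RootComb Cfsg.Agent.Nodes.Comb Cfsg.Agent.Nodes.Reps Cfsg.Agent.Nodes.BNOf
  Cfsg.Agent.Nodes.StabComb Cfsg.Agent.Nodes.LeviDec Cfsg.Agent.Nodes.OppDec Cfsg.Agent.Nodes.Bruhat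
open Cfsg.Lie Cfsg.Agent.ChevalleyStructure
open Cfsg.Agent.Nodes Cfsg.Agent.Nodes.RGDTwE6 Cfsg.Agent.Nodes.RGDTwTab Cfsg.Agent.Nodes.RGDTwCoordE6
  Cfsg.Agent.Nodes.RGDTwCoord Cfsg.Agent.Nodes.RGDTwComE6 Cfsg.Agent.Nodes.RGDTwActE6 Cfsg.Agent.Nodes.RGDLib
open Cfsg.Agent.H939.RgdA Cfsg.Agent.H939.RgdTwo Cfsg.Agent.H939.ClsOf Cfsg.Agent.H939.RgdP
  Cfsg.Agent.H939.InstSL Cfsg.Agent.H939.RgdV Cfsg.Agent.H939.RgdB4 Cfsg.Agent.KFacts.RgdLieCharP
open scoped commutatorElement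

universe u

/-- the relative roots -/
def vv (i : ℕ) : Fin 4 → ℤ := ![(vtab.getD i (0, 0, 0, 0)).1, (vtab.getD i (0, 0, 0, 0)).2.1,
  (vtab.getD i (0, 0, 0, 0)).2.2.1, (vtab.getD i (0, 0, 0, 0)).2.2.2]

variable {W : Type*} [Group W] {cs : CoxeterSystem CoxeterMatrix.F₄ W}

theorem isRoot_iff (z : Fin 4 → ℤ) : IsRoot cs isCartan z ↔ ∃ i < 48, z = vv i := by
  constructor
  · intro hz
    obtain ⟨i, hi, -, e⟩ := exists_index hz
    exact ⟨i, hi, e⟩
  · rintro ⟨i, hi, rfl⟩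
    have h1 := vec_eq hi
    rw [vv, ← h1]
    refine isRoot_V ?_
    have : ∀ i < 48, (O.getD i []).headD 0 < chevE6.nroots := by decide +kernel
    exact this i hi

/-- the walk of a vector under the fundamental reflections -/
def walk (ω : List (Fin 4)) (x : Fin 4 → ℤ) : Fin 4 → ℤ := ω.foldr (fun i x => x - pairing A i x • sr i) x

theorem rep_walk (ω : List (Fin 4)) (x : Fin 4 → ℤ) : rep cs isCartan (cs.wordProd ω) x = walk ω x := by
  induction ω with
  | nil => rw [wordProd_nil, map_one, Module.End.one_apply]; rfl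
  | cons i ω ih =>
    rw [wordProd_cons, rep_mul_apply, ih, rep_simple_eq]
    rfl

theorem exists_w {x y : Fin 4 → ℤ} {ω : List (Fin 4)} (hω : walk ω x = y) : ∃ w : W, rep cs isCartan w x = y :=
  ⟨cs.wordProd ω, by rw [rep_walk, hω]⟩

theorem w1 : walk [2, 3, 0, 1, 2, 1, 0] (vv 47) = sr 1 := by decide +kernel
theorem w0 : walk [1, 2, 3, 1, 2, 1, 0] (vv 47) = sr 0 := by decide +kernel

theorem r_dom : ∀ i : Fin 4, 0 ≤ pairing A i (vv 47) := by decide +kernel
theorem r_orth : ∀ i : Fin 4, pairing A i (vv 47) ≠ 0 → i = 0 := by decide +kernel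
theorem r_long : Lg (vv 47) := by unfold Lg; decide +kernel
theorem r_top : ∀ i < 48, (∀ k, 0 ≤ vv i k) → ∀ j < 48, vv 47 + vv i ≠ vv j := by decide +kernel
theorem r_neg : ∀ i < 48, (∀ k, 0 ≤ vv i k) → vv i ≠ -vv 47 := by decide +kernel
theorem r_two : ∀ i < 48, 2 ≤ vv i 0 → i = 47 := by decide +kernel

theorem F4_entries : CoxeterMatrix.F₄ 1 2 = 4 ∧ CoxeterMatrix.F₄ 2 3 = 3 := by
  constructor <;> decide

section Group

variable {K : Type u} [Field K] {q : ℕ} {φ : K →+* K} [Fintype K] (hφ : ∀ x, φ x = x ^ q)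
  (hqq : ∀ t : K, (t ^ q) ^ q = t) (p : ℕ) [Fact p.Prime] [CharP K p]

include hφ hqq

omit [Fintype K] hφ hqq in
theorem isRoot_r : IsRoot cs isCartan (vv 47) := (isRoot_iff _).2 ⟨47, by norm_num, rfl⟩

theorem X_pow {z : Fin 4 → ℤ} (hz : IsRoot cs isCartan z) {g : ↥(twistedE6 K q)} (hg : g ∈ X φ q z) : g ^ p = 1 := by
  obtain ⟨a, ha, rfl⟩ := (mem_X hφ hqq hz _).1 hg
  have key : ∀ m : ℕ, Ok chevE6 J O φ z (m * a) ∧ _root_.Cfsg.Agent.Nodes.RGDTwComE6.x φ q z a ^ m = _root_.Cfsg.Agent.Nodes.RGDTwComE6.x φ q z (m * a) := by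
    intro m
    induction m with
    | zero =>
      rw [Nat.cast_zero, zero_mul, pow_zero, x_zero hφ hqq hz]
      exact ⟨ok_zero z, rfl⟩
    | succ m ih =>
      obtain ⟨h1, h2⟩ := ih
      have h3 : Ok chevE6 J O φ z ((m : K) * a + a) := by
        unfold Ok at h1 ha ⊢
        rw [iterate_map_add φ, h1, ha]
      rw [Nat.cast_succ, add_mul, one_mul]
      exact ⟨h3, by rw [pow_succ, h2, x_add hφ hqq hz h1 ha]⟩
  rw [(key p).2, CharP.cast_eq_zero, zero_mul, x_zero hφ hqq hz]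

theorem X_comm {z w : Fin 4 → ℤ} (hz : IsRoot cs isCartan z) (hw : IsRoot cs isCartan w)
    (hzw : ¬ IsRoot cs isCartan (z + w)) (hne : w ≠ -z) {g k : ↥(twistedE6 K q)} (hg : g ∈ X φ q z)
    (hk : k ∈ X φ q w) : g * k = k * g := by
  obtain ⟨a, ha, rfl⟩ := (mem_X hφ hqq hz _).1 hg
  obtain ⟨b, hb, rfl⟩ := (mem_X hφ hqq hw _).1 hk
  exact comm_nil hφ hqq hz hw hzw hne a b

/-- commutators of root elements whose sum is long -/
theorem X_comm_long {z w : Fin 4 → ℤ} (hz : IsRoot cs isCartan z) (hw : IsRoot cs isCartan w)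
    (hzw : IsRoot cs isCartan (z + w)) (lzw : Lg (z + w)) {g k : ↥(twistedE6 K q)} (hg : g ∈ X φ q z)
    (hk : k ∈ X φ q w) : ⁅g, k⁆ ∈ X φ q (z + w) := by
  rcases long_or_short hz with lz | sz
  · rcases long_or_short hw with lw | sw
    · obtain ⟨a, ha, rfl⟩ := (mem_X_long hφ hqq hz lz _).1 hg
      obtain ⟨b, hb, rfl⟩ := (mem_X_long hφ hqq hw lw _).1 hk
      rw [(comm_long hφ hqq hz hw hzw lz lw ha hb).2]
      exact x_mem hφ hqq hzw (ok_long hzw lzw (by rw [map_mul, map_mul, map_intCast, ha, hb]))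
    · exfalso
      exact not_both lzw (comm_quad hφ hqq hz hw hzw lz sw (map_zero φ) 0).1
  · rcases long_or_short hw with lw | sw
    · exfalso
      have hwz : IsRoot cs isCartan (w + z) := by rwa [add_comm]
      have := (comm_quad hφ hqq hw hz hwz lw sz (map_zero φ) 0).1
      rw [add_comm] at this
      exact not_both lzw this
    · obtain ⟨a, rfl⟩ := (mem_X_short hφ hqq hz sz _).1 hg
      obtain ⟨b, rfl⟩ := (mem_X_short hφ hqq hw sw _).1 hk
      rw [comm_trace hφ hqq hz hw hzw sz sw lzw a b]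
      exact x_mem hφ hqq hzw (ok_long hzw lzw (by
        rw [map_mul, map_add, map_mul, map_mul, map_intCast, phi_phi hφ hqq, phi_phi hφ hqq, add_comm]))

theorem cls_E6 [Finite W] : _root_.Cfsg.Agent.H939.RgdTwo.Cls (rgd cs hφ hqq p) (vv 47) (X φ q (vv 47)) := by
  have hr : IsRoot cs isCartan (vv 47) := isRoot_r
  set R := rgd cs hφ hqq p with hR
  refine cls_of R hr r_dom le_rfl (X_ne_bot R hr) ?_ ?_ ?_ ?_ ?_ ?_
  · intro t ht
    exact R.tor _ hr t ht
  · intro w k hk hw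
    rw [R.conj_rp hk hr, hw]
  · intro x hx h0 z hz g hg
    refine X_comm hφ hqq hr hx ?_ ?_ hz hg
    · intro h1
      obtain ⟨i, hi, rfl⟩ := (isRoot_iff x).1 hx
      obtain ⟨j, hj, e⟩ := (isRoot_iff _).1 h1
      exact r_top i hi h0 j hj e
    · obtain ⟨i, hi, rfl⟩ := (isRoot_iff x).1 hx
      exact r_neg i hi h0
  · intro x hx y hy g hg k hk
    have hx1 : 0 < x 0 := by
      obtain ⟨-, -, k, hk, hk'⟩ := hx
      rw [mem_orth] at hk
      rwa [r_orth k hk] at hk'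
    have hy1 : 0 < y 0 := by
      obtain ⟨-, -, k, hk, hk'⟩ := hy
      rw [mem_orth] at hk
      rwa [r_orth k hk] at hk'
    show ⁅g, k⁆ ∈ _
    by_cases hxy : IsRoot cs isCartan (x + y)
    · have e : x + y = vv 47 := by
        obtain ⟨j, hj, e⟩ := (isRoot_iff _).1 hxy
        have h1 := congrFun e 0
        rw [Pi.add_apply] at h1
        have := r_two j hj (by omega)
        rw [e, this]
      have := X_comm_long hφ hqq hx.1 hy.1 hxy (by rw [e]; exact r_long) hg hk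
      rwa [e] at this
    · have hne : y ≠ -x := by
        rintro rfl
        rw [Pi.neg_apply] at hy1
        omega
      have := X_comm hφ hqq hx.1 hy.1 hxy hne hg hk
      rw [commutatorElement_eq_one_iff_mul_comm.2 this]
      exact one_mem _
  · intro x hx g hg
    rw [X_pow hφ hqq p hx.1 hg]; exact one_mem _
  · intro g hg
    exact X_pow hφ hqq p hr hg

omit [Fintype K] hφ hqq in
theorem N_eq : N (vv 29) (vv 25) = 1 ∨ N (vv 29) (vv 25) = -1 := by decide +kernel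
omit [Fintype K] hφ hqq in
theorem sr2 : (sr 2 : Fin 4 → ℤ) = vv 25 := by decide +kernel
omit [Fintype K] hφ hqq in
theorem sr1 : (sr 1 : Fin 4 → ℤ) = vv 26 := by decide +kernel
omit [Fintype K] hφ hqq in
theorem eb : rep cs isCartan (cs.simple 1) (sr 2) = vv 29 := by
  rw [rep_simple_eq]; decide +kernel
omit [Fintype K] hφ hqq in
theorem eg : rep cs isCartan (cs.simple 2) (sr 1) = vv 32 := by
  rw [rep_simple_eq]; decide +kernel

omit [Fintype K] hφ hqq in
theorem not_root {z : Fin 4 → ℤ} (h : ∀ i < 48, z ≠ vv i) : ¬ IsRoot cs isCartan z := by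
  intro hz
  obtain ⟨i, hi, e⟩ := (isRoot_iff z).1 hz
  exact h i hi e

omit [Fintype K] hφ hqq in
theorem isRoot_vv {i : ℕ} (hi : i < 48) : IsRoot cs isCartan (vv i) := (isRoot_iff _).2 ⟨i, hi, rfl⟩

/-- the trace is not zero -/
theorem exists_trace (hK : Fintype.card K = q ^ 2) : ∃ c : K, c + φ c ≠ 0 := by
  by_contra hcon
  push Not at hcon
  have h1 := hcon 1
  rw [map_one] at h1
  have h2 : ∀ c : K, c ^ q = c := by
    intro c
    have h3 := hcon c
    rw [← hφ]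
    have h4 : (2 : K) = 0 := by linear_combination h1
    linear_combination h3 - c * h4
  have hq1 : 1 < q := by
    by_contra hq
    have : Fintype.card K ≤ 1 := by
      rw [hK]
      calc q ^ 2 ≤ 1 ^ 2 := Nat.pow_le_pow_left (by omega) 2
        _ = 1 := one_pow 2
    have := Fintype.one_lt_card (α := K)
    omega
  have h5 : Fintype.card K ≤ q := by
    have hne : (Polynomial.X ^ q - Polynomial.X : Polynomial K) ≠ 0 := FiniteField.X_pow_card_sub_X_ne_zero K hq1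
    have h6 : (Finset.univ : Finset K).val ≤ (Polynomial.X ^ q - Polynomial.X : Polynomial K).roots := by
      classical
      rw [Multiset.le_iff_subset Finset.univ.nodup]
      intro c _
      rw [Polynomial.mem_roots hne, Polynomial.IsRoot.def]
      simp [h2 c]
    have h7 := Multiset.card_le_card h6
    have h8 := Polynomial.card_roots' (Polynomial.X ^ q - Polynomial.X : Polynomial K)
    rw [FiniteField.X_pow_card_sub_X_natDegree_eq K hq1] at h8
    have h9 : Multiset.card (Finset.univ : Finset K).val = Fintype.card K := rfl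
    omega
  rw [hK] at h5
  nlinarith only [hq1, h5]

theorem b4_E6 [Finite W] (hK : Fintype.card K = q ^ 2) :
    B4 (rgd cs hφ hqq p) (vv 47) (X φ q (vv 47)) 1 2 (X φ q (rep cs isCartan (cs.simple 2) (sr 1))) := by
  have h29 : IsRoot cs isCartan (vv 29) := isRoot_vv (by norm_num)
  have h25 : IsRoot cs isCartan (vv 25) := isRoot_vv (by norm_num)
  have h32 : IsRoot cs isCartan (vv 32) := isRoot_vv (by norm_num)
  have h26 : IsRoot cs isCartan (vv 26) := isRoot_vv (by norm_num)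
  have l32 : Lg (vv 32) := by unfold Lg; decide +kernel
  have s29 : St (vv 29) := by unfold St; decide +kernel
  have s25 : St (vv 25) := by unfold St; decide +kernel
  have e32 : vv 25 + vv 29 = vv 32 := by decide +kernel
  have e32' : vv 29 + vv 25 = vv 32 := by decide +kernel
  set R := rgd cs hφ hqq p with hR
  refine ⟨F4_entries.1, ?_, ?_, ?_, ?_, ?_, ?_, ?_, ?_, ?_, ?_⟩
  · obtain ⟨w, hw⟩ := exists_w (cs := cs) w1
    obtain ⟨k, hk⟩ := exists_rp cs R.nsys (cs.simple 2 * w)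
    refine ⟨cs.simple 2 * w, k, hk, ?_, ?_⟩
    · rw [rep_mul_apply, hw]
    · rw [R.conj_rp hk isRoot_r, rep_mul_apply, hw]
  · rw [eb, eg, sr2]
    intro a ha b hb
    have := X_comm_long hφ hqq h25 h29 (by rw [e32]; exact h32) (by rw [e32]; exact l32) ha hb
    rwa [e32] at this
  · rw [eg, sr2]
    exact fun a ha c hc => X_comm hφ hqq h25 h32 (not_root (by decide +kernel)) (by decide +kernel) ha hc
  · rw [eb, eg]
    exact fun a ha c hc => X_comm hφ hqq h29 h32 (not_root (by decide +kernel)) (by decide +kernel) ha hc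
  · rw [eb]
    exact fun a ha c hc => X_comm hφ hqq h29 h29 (not_root (by decide +kernel)) (by decide +kernel) ha hc
  · rw [eg]
    exact fun a ha c hc => X_comm hφ hqq h32 h32 (not_root (by decide +kernel)) (by decide +kernel) ha hc
  · rw [eg, sr1]
    exact fun a ha c hc => X_comm hφ hqq h32 h26 (not_root (by decide +kernel)) (by decide +kernel) ha hc
  · rw [eg, sr1]
    exact fun a ha c hc => X_comm hφ hqq h32 h26.neg (not_root (by decide +kernel)) (by decide +kernel) ha hc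
  · rw [eb, eg, sr2]
    intro a ha ha1
    obtain ⟨t, rfl⟩ := (mem_X_short hφ hqq h25 s25 _).1 ha
    have ht : t ≠ 0 := by
      rintro rfl
      exact ha1 (x_zero hφ hqq h25)
    obtain ⟨c, hc⟩ := exists_trace hφ hqq hK
    have hφt : φ t ≠ 0 := (map_ne_zero φ).2 ht
    have e := comm_trace hφ hqq h29 h25 (by rw [e32']; exact h32) s29 s25 (by rw [e32']; exact l32) (c / φ t) t
    have e1 : c / φ t * φ t + φ (c / φ t) * t = c + φ c := by
      rw [map_div₀, phi_phi hφ hqq, div_mul_cancel₀ _ hφt, div_mul_cancel₀ _ ht]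
    rw [e32', e1] at e
    have ok : Ok chevE6 J O φ (vv 32) (((N (vv 29) (vv 25) : ℤ) : K) * (c + φ c)) :=
      ok_long h32 l32 (by rw [map_mul, map_add, map_intCast, phi_phi hφ hqq, add_comm])
    refine ⟨_root_.Cfsg.Agent.Nodes.RGDTwComE6.x φ q (vv 29) (c / φ t), (mem_X_short hφ hqq h29 s29 _).2 ⟨_, rfl⟩, ?_, ?_⟩
    · rw [e]; exact x_mem hφ hqq h32 ok
    · rw [e]
      intro h0
      rw [x_eq_one_iff hφ hqq h32 ok] at h0
      rcases mul_eq_zero.1 h0 with h1 | h1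
      · rcases N_eq with h2 | h2 <;> rw [h2] at h1 <;> simp at h1
      · exact hc h1
  · intro z hz hz1 w m hm hw
    exact mu_full R ((isRoot_sr cs _ 1).act _) hz hz1 hm hw

end Group

theorem cl_E6 (K : Type u) [Field K] [Fintype K] {q : ℕ} (hq : IsPrimePow q) (hK : Fintype.card K = q ^ 2)
    [Finite ↥(twistedE6 K q)] [IsSimpleGroup ↥(twistedE6 K q)] : KLat.CL ↥(twistedE6 K q) := by
  by_cases hc : ∀ a b : ↥(twistedE6 K q), a * b = b * a
  · exact cl_of_comm hc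
  obtain ⟨p, hp⟩ := CharP.exists K
  have : Fact p.Prime := ⟨CharP.char_is_prime K p⟩
  obtain ⟨φ, hφ, hqq⟩ := Cfsg.Agent.ChevalleyStructure.TwE6Basic.exists_frob hq hK
  set cs := (CoxeterMatrix.F₄).toCoxeterSystem with hcs
  have hWf : Finite (CoxeterMatrix.F₄).Group := RGDFold.finite_W (hp := RGDTwE6.hp) cs isCartan foldData
  set R := rgd cs hφ hqq p with hR
  have hX := RGDTwE6.G1_eq_top cs hφ hqq
  have hconn := conn_of_simple R hX (center_bot hc)
  have hG : GG cs isCartan (T K q) (X φ q) = ⊤ := by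
    rw [eq_top_iff, ← hX]; exact le_sup_right
  have C : _root_.Cfsg.Agent.H939.RgdTwo.Cls R (vv 47) (X φ q (vv 47)) := cls_E6 hφ hqq p
  obtain ⟨v1, hv1⟩ := exists_w (cs := cs) w1
  obtain ⟨v0, hv0⟩ := exists_w (cs := cs) w0
  have g1 : _root_.Cfsg.Agent.H939.RgdTwo.Good R (vv 47) _ 1 := good_of_class C.long hG hv1
  have g0 : _root_.Cfsg.Agent.H939.RgdTwo.Good R (vv 47) _ 0 := good_of_class C.long hG hv0
  have g2 := good_of_four (b4_E6 hφ hqq p hK) C.long hG g1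
  have g3 : _root_.Cfsg.Agent.H939.RgdTwo.Good R (vv 47) _ 3 := _root_.Cfsg.Agent.H939.RgdV.good_of_three F4_entries.2 g2
  refine cl_of_good R hX hconn C ?_
  intro i
  fin_cases i
  · exact g0
  · exact g1
  · exact g2
  · exact g3

end Cfsg.Agent.H939.InstE6Tw
end

-- part: H939/HexOpp
section
/-!
Opposition in root group data of type `G₂` (S5900).
-/

set_option autoImplicit false
set_option linter.unusedSectionVars false
set_option linter.dupNamespace false

namespace Cfsg.Agent.H939.HexOpp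

open CoxeterSystem Cfsg.Agent.ChevalleyStructure.CoxeterGeom Cfsg.Agent.Tits.Roots Cfsg.Agent.Tits.Core
  Cfsg.Agent.Tits.RootComb Cfsg.Agent.Tits.Exchange Cfsg.Agent.Nodes.Reps Cfsg.Agent.Nodes.BNOf
  Cfsg.Agent.Nodes.StabComb Cfsg.Agent.Nodes.Bruhat Cfsg.Agent.Nodes.OppDec Cfsg.Agent.Nodes.LeviDec
  Cfsg.Agent.Nodes.NormX Cfsg.Agent.Nodes.Coroot Cfsg.Agent.KFacts.RgdSL Cfsg.Agent.Nodes.PosPair
  Cfsg.Agent.H939.RgdA Cfsg.Agent.H939.RgdP Cfsg.Agent.H939.RgdU Cfsg.Agent.H939.RgdMain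
  Cfsg.Agent.H939.RgdTwo Cfsg.Agent.H939.RgdV Cfsg.Agent.KFacts.RgdCharP Cfsg.Agent.Nodes.Comb
open scoped commutatorElement

section General

variable {I W Y : Type*} [Fintype I] [DecidableEq I] [Group W] [Group Y] {M : CoxeterMatrix I}
  {cs : CoxeterSystem M W} {A : I → I → ℤ} {h : IsCartan M A} {p : ℕ} {T : Subgroup Y} {n : I → Y}
  {X : (I → ℤ) → Subgroup Y} {R : RGD cs h p T n X} {r : I → ℤ} {Z : Subgroup Y} (L : Long R r Z)

include L

theorem norm_of_form [Fintype W] {y : I → ℤ} (hy : IsRoot cs h y) (hf : 0 ≤ form cs h r y) :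
    X y ≤ Subgroup.normalizer (Z : Set Y) := by
  rcases hy.pos_or_neg with h0 | h0
  · exact le_trans (le_trans (RGD.le_Sup (S := RGD.Pos cs h) ⟨hy, h0⟩) RGD.U_le_B) L.B
  · have h1 := form_nonneg_of_dom cs h L.dom (neg_nonneg.2 h0)
    have h2 : -y ∈ PosJ cs h (orth cs h r) := by
      rcases mem_PosJ_or_NotJ (orth cs h r) hy.neg (neg_nonneg.2 h0) with h2 | h2
      · exact h2
      · exfalso
        have := (mem_NotJ_iff L.dom hy.neg).1 h2
        rw [form_neg_right] at this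
        omega
    have h3 : y ∈ RootsJ cs h (orth cs h r) := by
      have := RootsJ.neg (PosJ_subset _ h2)
      rwa [neg_neg] at this
    exact (X_le_LJ h3).trans (LJ_le_PJ.trans L.PJ_le_normalizer)

/-- the root groups normalising the opposite member -/
theorem norm_of_form' [Fintype W] {w : W} {s : Y} (hs : Rp cs R.nsys w s) (hw : rep cs h w r = -r) {y : I → ℤ}
    (hy : IsRoot cs h y) (hf : form cs h r y ≤ 0) : ∀ g ∈ X y, cj g (cj s Z) = cj s Z := by
  intro g hg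
  have hf' : 0 ≤ form cs h r (rep cs h w⁻¹ y) := by
    have e := rep_inv_apply cs h w⁻¹ y
    rw [inv_inv] at e
    rw [← form_rep cs h w, e, hw, form_neg_left]
    omega
  have h1 := norm_of_form L (hy.act w⁻¹) hf'
  have h2 : s⁻¹ * g * s ∈ X (rep cs h w⁻¹ y) := by
    have h3 := R.conj_rp hs.inv hy
    rw [← h3, mem_cj]
    have e : s⁻¹⁻¹ * (s⁻¹ * g * s) * s⁻¹ = g := by group
    rwa [e]
  have h4 := mem_normalizer_iff_cj.1 (h1 h2)
  have e : g = s * (s⁻¹ * g * s) * s⁻¹ := by group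
  rw [← cj_mul, e]
  have e2 : s * (s⁻¹ * g * s) * s⁻¹ * s = s * (s⁻¹ * g * s) := by group
  rw [e2, cj_mul, h4]

theorem r1_mem [Finite W] {w : W} {s : Y} (hs : Rp cs R.nsys w s) (hw : rep cs h w r = -r) {x : Y} (hx : x ∈ Z)
    (hx1 : x ≠ 1) : ∃ v ∈ X (-r), cj x (cj s Z) = cj v Z := by
  have := Fintype.ofFinite W
  obtain ⟨w', hw', a, ha, b, hb, m, hm, e⟩ := exists_mu R L.root (L.le hx) hx1
  have hw'r : rep cs h w' r = -r := by
    rw [hw', cpr_self cs h L.root, two_smul, sub_add_cancel_left]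
  have hnorm : ∀ y ∈ X (-r), cj y (cj s Z) = cj s Z := by
    refine norm_of_form' L hs hw L.root.neg ?_
    rw [form_neg_right]
    have := form_pos cs h L.root.ne_zero
    omega
  have hms : cj m (cj s Z) = Z := by
    rw [← cj_mul]
    refine L.stab _ _ (hm.mul hs) ?_
    rw [rep_mul_apply, hw, map_neg, hw'r, neg_neg]
  have hx' : x = a⁻¹ * m * b⁻¹ := by rw [e]; group
  refine ⟨a⁻¹, inv_mem ha, ?_⟩
  rw [hx', cj_mul, hnorm _ (inv_mem hb), cj_mul, hms]

end General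

/-! ### the roots of `³D₄(q)` -/

section D4

open Cfsg.Agent.Nodes.RGDTwD4 (isCartan)

local notation "A" => Cfsg.Agent.Nodes.RGDTwD4.A

/-- the roots in cyclic order -/
def rv (k : ZMod (2 * 6)) : Fin 2 → ℤ :=
  ([![-1, 0], ![0, 1], ![1, 3], ![1, 2], ![2, 3], ![1, 1], ![1, 0], ![0, -1], ![-1, -3], ![-1, -2], ![-2, -3],
    ![-1, -1]] : List (Fin 2 → ℤ)).getD k.val 0

theorem refl_rv : ∀ (i : Fin 2) (k : ZMod (2 * 6)), ∃ j, rv k - pairing A i (rv k) • sr i = rv j := by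
  decide +kernel

theorem reach_rv : ∀ k : ZMod (2 * 6), ∃ (ω : List (Fin 2)), ω.foldr (fun i x => x - pairing A i x • sr i) (rv k) =
    sr 0 ∨ ω.foldr (fun i x => x - pairing A i x • sr i) (rv k) = sr 1 := by
  intro k
  have : ∀ k : ZMod (2 * 6), ∃ ω ∈ ([[], [0], [1], [0, 1], [1, 0], [0, 1, 0], [1, 0, 1], [0, 1, 0, 1], [1, 0, 1, 0],
      [0, 1, 0, 1, 0], [1, 0, 1, 0, 1], [0, 1, 0, 1, 0, 1]] : List (List (Fin 2))),
      ω.foldr (fun i x => x - pairing A i x • sr i) (rv k) = sr 0 ∨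
      ω.foldr (fun i x => x - pairing A i x • sr i) (rv k) = sr 1 := by decide +kernel
  obtain ⟨ω, -, h⟩ := this k
  exact ⟨ω, h⟩

theorem sr0 : (sr 0 : Fin 2 → ℤ) = rv 6 := by decide +kernel
theorem sr1 : (sr 1 : Fin 2 → ℤ) = rv 1 := by decide +kernel

variable {W : Type*} [Group W] {cs : CoxeterSystem CoxeterMatrix.G₂ W}

theorem rep_foldr (ω : List (Fin 2)) (x : Fin 2 → ℤ) :
    rep cs isCartan (cs.wordProd ω) x = ω.foldr (fun i x => x - pairing A i x • sr i) x := by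
  induction ω with
  | nil => rw [wordProd_nil, map_one, Module.End.one_apply]; rfl
  | cons i ω ih =>
    rw [wordProd_cons, rep_mul_apply, ih, rep_simple_eq]
    rfl

theorem isRoot_rv (k : ZMod (2 * 6)) : IsRoot cs isCartan (rv k) := by
  obtain ⟨ω, h⟩ := reach_rv k
  rw [← rep_foldr (cs := cs)] at h
  have e := rep_inv_apply cs isCartan (cs.wordProd ω) (rv k)
  rcases h with h | h
  · rw [h] at e
    rw [← e]
    exact (isRoot_sr cs isCartan 0).act _
  · rw [h] at e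
    rw [← e]
    exact (isRoot_sr cs isCartan 1).act _

theorem isRoot_iff (z : Fin 2 → ℤ) : IsRoot cs isCartan z ↔ ∃ k, z = rv k := by
  constructor
  · rintro ⟨w, i, rfl⟩
    obtain ⟨ω, rfl⟩ := cs.wordProd_surjective w
    rw [rep_foldr]
    induction ω with
    | nil =>
      fin_cases i
      · exact ⟨6, sr0⟩
      · exact ⟨1, sr1⟩
    | cons j ω ih =>
      obtain ⟨k, hk⟩ := ih
      rw [List.foldr_cons, hk]
      exact refl_rv j k
  · rintro ⟨k, rfl⟩
    exact isRoot_rv k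

/-- roots between two roots, by determinants -/
def det2 (x y : Fin 2 → ℤ) : ℤ := x 0 * y 1 - x 1 * y 0

theorem det_of_btwn {x y z : Fin 2 → ℤ} (hz : Btwn cs isCartan x y z) (hd : det2 x y ≠ 0) :
    0 < det2 x z * det2 x y ∧ 0 < det2 z y * det2 x y := by
  obtain ⟨-, m, a, b, hm, ha, hb, e⟩ := hz
  have e0 := congrFun e 0
  have e1 := congrFun e 1
  simp only [Pi.smul_apply, Pi.add_apply, smul_eq_mul] at e0 e1
  have h1 : m * det2 x z = b * det2 x y := by
    unfold det2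
    linear_combination x 0 * e1 - x 1 * e0
  have h2 : m * det2 z y = a * det2 x y := by
    unfold det2
    linear_combination y 1 * e0 - y 0 * e1
  have h3 : 0 < det2 x y * det2 x y := mul_self_pos.2 hd
  constructor
  · have h4 : m * (det2 x z * det2 x y) = b * (det2 x y * det2 x y) := by linear_combination det2 x y * h1
    have h5 : 0 < m * (det2 x z * det2 x y) := by rw [h4]; exact mul_pos hb h3
    exact (mul_pos_iff_of_pos_left hm).1 h5
  · have h4 : m * (det2 z y * det2 x y) = a * (det2 x y * det2 x y) := by linear_combination det2 x y * h2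
    have h5 : 0 < m * (det2 z y * det2 x y) := by rw [h4]; exact mul_pos ha h3
    exact (mul_pos_iff_of_pos_left hm).1 h5

/-- the roots in an interval -/
def RS (l : List (ZMod (2 * 6))) : Set (Fin 2 → ℤ) := {z | ∃ k ∈ l, z = rv k}

/-- the check -/
def bchk (i j : ZMod (2 * 6)) (l : List (ZMod (2 * 6))) : Prop :=
  det2 (rv i) (rv j) ≠ 0 ∧ ∀ k : ZMod (2 * 6), 0 < det2 (rv i) (rv k) * det2 (rv i) (rv j) →
    0 < det2 (rv k) (rv j) * det2 (rv i) (rv j) → k ∈ l

instance : DecidablePred fun a : ZMod (2 * 6) × ZMod (2 * 6) × List (ZMod (2 * 6)) => bchk a.1 a.2.1 a.2.2 :=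
  fun _ => inferInstanceAs (Decidable (_ ∧ _))

instance (i j : ZMod (2 * 6)) (l : List (ZMod (2 * 6))) : Decidable (bchk i j l) :=
  inferInstanceAs (Decidable (_ ∧ _))

theorem of_bchk {i j : ZMod (2 * 6)} {l : List (ZMod (2 * 6))} (hb : bchk i j l) (z : Fin 2 → ℤ)
    (hz : Btwn cs isCartan (rv i) (rv j) z) : z ∈ RS l := by
  obtain ⟨k, rfl⟩ := (isRoot_iff z).1 hz.1
  obtain ⟨h1, h2⟩ := det_of_btwn hz hb.1
  exact ⟨k, hb.2 k h1 h2, rfl⟩

theorem bchk_ne {i j : ZMod (2 * 6)} {l : List (ZMod (2 * 6))} (hb : bchk i j l) : rv i ≠ -rv j := by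
  intro h
  apply hb.1
  rw [h]
  simp only [det2, Pi.neg_apply]
  ring

variable {Y : Type*} [Group Y] {p : ℕ} {T : Subgroup Y} {n : Fin 2 → Y}
  {X : (Fin 2 → ℤ) → Subgroup Y} (R : RGD cs isCartan p T n X)

include R

theorem norm_RS {i : ZMod (2 * 6)} {l : List (ZMod (2 * 6))} (hl : ∀ j ∈ l, bchk i j l) :
    X (rv i) ≤ Subgroup.normalizer (RGD.Sup X (RS l) : Set Y) := by
  refine R.le_normalizer (isRoot_rv i) ?_
  rintro y ⟨j, hj, rfl⟩
  exact ⟨isRoot_rv j, Or.inr ⟨bchk_ne (hl j hj), fun z hz => of_bchk (hl j hj) z hz⟩⟩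

theorem comm_RS {i j : ZMod (2 * 6)} {l : List (ZMod (2 * 6))} (hb : bchk i j l) {a b : Y} (ha : a ∈ X (rv i))
    (hb' : b ∈ X (rv j)) : ⁅a, b⁆ ∈ RGD.Sup X (RS l) := by
  have hne : rv i ≠ rv j := by
    intro h
    apply hb.1
    rw [h]
    simp only [det2]
    ring
  exact R.btw_le_Sup (fun z hz => of_bchk hb z hz) (R.comm _ _ (isRoot_rv i) (isRoot_rv j) hne (bchk_ne hb) a ha b hb')

theorem b56789 : (∀ j ∈ ([6, 7, 8, 9] : List (ZMod (2 * 6))), bchk 5 j [6, 7, 8, 9]) ∧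
    (∀ j ∈ ([7, 8, 9] : List (ZMod (2 * 6))), bchk 6 j [7, 8, 9]) ∧ bchk 5 10 [6, 7, 8, 9] := by
  decide +kernel

theorem neg4 : -rv 4 = rv 10 := by decide +kernel

omit R in
theorem rv_neg : ∀ k ∈ ([7, 8, 9, 10] : List (ZMod (2 * 6))), ∀ i : Fin 2, rv k i ≤ 0 := by decide +kernel
omit R in
theorem rv_pos : ∀ k ∈ ([1, 2, 3, 4, 5, 6] : List (ZMod (2 * 6))), ∀ i : Fin 2, 0 ≤ rv k i := by decide +kernel

theorem opp_E [Finite W] (L : Long R (rv 4) (X (rv 4))) {x1 x4 x5 : Y} (h1 : x1 ∈ X (rv 1)) (h4 : x4 ∈ X (rv 4))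
    (h4' : x4 ≠ 1) (h5 : x5 ∈ X (rv 5)) : Mv R (rv 4) (X (rv 4)) (x1 * (x5 * x4)) := by
  have := Fintype.ofFinite W
  obtain ⟨w, hw⟩ := exists_neg (cs := cs) (h := isCartan) L.root
  obtain ⟨s, hs⟩ := exists_rp cs R.nsys w
  refine ⟨w, s, hs, hw, s, ?_⟩
  obtain ⟨v, hv, ev⟩ := r1_mem L hs hw h4 h4'
  obtain ⟨b1, b2, b3⟩ := b56789 (R := R)
  rw [neg4 R] at hv
  have hf : ∀ z : Fin 2 → ℤ, z ≤ 0 → form cs isCartan (rv 4) z ≤ 0 := by
    intro z hz
    have h6 := form_nonneg_of_dom cs isCartan L.dom (neg_nonneg.2 hz)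
    rw [form_neg_right] at h6
    omega
  -- decomposition
  have d1 : RGD.Sup X (RS [6, 7, 8, 9]) ≤ RGD.Sup X (RS [7, 8, 9]) ⊔ X (rv 6) := by
    refine RGD.Sup_le ?_
    rintro z ⟨k, hk, rfl⟩
    rw [List.mem_cons] at hk
    rcases hk with rfl | hk
    · exact le_sup_right
    · exact (RGD.le_Sup (S := RS [7, 8, 9]) ⟨k, hk, rfl⟩).trans le_sup_left
  have hy : ∃ q ∈ RGD.Sup X (RS [6, 7, 8, 9]), ∃ x' ∈ X (rv 5), q * x' = v⁻¹ * x5 * v := by
    have e : v⁻¹ * x5 * v = (x5 * ⁅x5⁻¹, v⁻¹⁆ * x5⁻¹) * x5 := by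
      rw [commutatorElement_def]; group
    rw [e]
    refine ⟨_, ?_, _, h5, rfl⟩
    have h6 := comm_RS R b3 (inv_mem h5) (inv_mem hv)
    exact (Subgroup.mem_normalizer_iff.1 (norm_RS R b1 h5) _).1 h6
  obtain ⟨q, hq, x5', hx5', e1⟩ := hy
  have hq2 : q ∈ ((RGD.Sup X (RS [7, 8, 9]) ⊔ X (rv 6) : Subgroup Y) : Set Y) := d1 hq
  rw [Subgroup.coe_mul_of_right_le_normalizer_left _ _ (norm_RS R b2), Set.mem_mul] at hq2
  obtain ⟨m, hm, x6, hx6, e2⟩ := hq2
  have npos : ∀ k : ZMod (2 * 6), 0 ≤ rv k → ∀ g ∈ X (rv k), cj g (X (rv 4)) = X (rv 4) := fun k hk g hg =>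
    mem_normalizer_iff_cj.1 (norm_of_form L (isRoot_rv k) (form_nonneg_of_dom cs isCartan L.dom hk) hg)
  have hnm : cj m (cj s (X (rv 4))) = cj s (X (rv 4)) := by
    rw [← mem_normalizer_iff_cj]
    refine (RGD.Sup_le ?_ : RGD.Sup X (RS [7, 8, 9]) ≤ _) hm
    rintro z ⟨k, hk, rfl⟩ g hg
    rw [mem_normalizer_iff_cj]
    refine norm_of_form' L hs hw (isRoot_rv k) (hf _ ?_) g hg
    intro i
    refine rv_neg k ?_ i
    simp only [List.mem_cons, List.not_mem_nil, or_false] at hk ⊢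
    (clear * - hk; tauto)
  have hn1 : cj x1 (cj s (X (rv 4))) = cj s (X (rv 4)) := by
    refine norm_of_form' L hs hw (isRoot_rv 1) ?_ x1 h1
    have : form cs isCartan (rv 4) (rv 1) = 0 := by
      rw [← sr1, form_sr_eq_zero_iff, mem_orth]
      decide +kernel
    rw [this]
  have hnv : cj v (cj s (X (rv 4))) = cj s (X (rv 4)) :=
    norm_of_form' L hs hw (isRoot_rv 10) (hf _ (rv_neg 10 (by decide +kernel))) v hv
  have hss : cj (s * s) (X (rv 4)) = X (rv 4) := by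
    refine L.stab _ _ (hs.mul hs) ?_
    rw [rep_mul_apply, hw, map_neg, hw, neg_neg]
  refine ⟨x1 * v * m * s, ?_, ?_⟩
  · show cj s (X (rv 4)) = cj (x1 * v * m * s) (X (rv 4))
    rw [cj_mul, cj_mul, cj_mul, hnm, hnv, hn1]
  · show cj (x1 * (x5 * x4) * s) (X (rv 4)) = cj (x1 * v * m * s * s) (X (rv 4))
    have e3 : x1 * v * m * s * s = x1 * v * m * (s * s) := by group
    have e4 : x5 * v = v * (m * (x6 * x5')) := by
      have : v * (m * (x6 * x5')) = v * (v⁻¹ * x5 * v) := by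
        rw [← e1, ← e2]; group
      rw [this]; group
    rw [e3, cj_mul (x1 * v * m), hss, cj_mul (x1 * (x5 * x4)), cj_mul x1, cj_mul x5, ev, ← cj_mul x5, e4, cj_mul v,
      cj_mul m, cj_mul x6, npos 5 (rv_pos 5 (by decide +kernel)) _ hx5', npos 6 (rv_pos 6 (by decide +kernel)) _ hx6, ← cj_mul v,
      ← cj_mul x1, ← mul_assoc]

end D4

end Cfsg.Agent.H939.HexOpp
end

-- part: H939/HexField
section
/-!
Cubic cyclic extensions: field facts for the short node of `³D₄(q)` (S5900).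
-/

set_option autoImplicit false
set_option linter.unusedSectionVars false

namespace Cfsg.Agent.H939.HexField

open Cfsg.Agent.SplitTwo

variable {K : Type*} [Field K] (σ : K ≃+* K) (h3 : ∀ a, σ (σ (σ a)) = a)

include h3

theorem fix_trc (a b : K) : σ (trc σ a b) = trc σ a b := by
  simp only [trc, map_add, h3]; ring

theorem fix_nrm (a : K) : σ (nrm σ a) = nrm σ a := by
  simp only [nrm, map_mul, h3]; ring

omit h3 in
theorem trc_comm (a b : K) : trc σ a b = trc σ b a := by simp only [trc, mul_comm]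

omit h3 in
theorem trc_add_right (a b c : K) : trc σ a (b + c) = trc σ a b + trc σ a c := by
  simp only [trc, mul_add, map_add]; ring

omit h3 in
theorem trc_smul {l : K} (hl : σ l = l) (a b : K) : trc σ a (l * b) = l * trc σ a b := by
  simp only [trc, map_mul, hl]; ring

theorem nrm_ne_zero {a : K} (ha : a ≠ 0) : nrm σ a ≠ 0 :=
  mul_ne_zero (mul_ne_zero ha ((map_ne_zero σ).2 ha)) ((map_ne_zero σ).2 ((map_ne_zero σ).2 ha))

variable (hnd : ∀ a : K, a ≠ 0 → ∃ b, trc σ a b ≠ 0)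

include hnd

/-- independent vectors are separated by the trace form -/
theorem exists_sep {s t : K} (hs : s ≠ 0) (hst : ∀ l : K, σ l = l → t ≠ l * s) :
    ∃ w, trc σ s w = 0 ∧ trc σ t w ≠ 0 := by
  by_contra hcon
  push Not at hcon
  obtain ⟨w₀, hw₀⟩ := hnd s hs
  set l := trc σ t w₀ / trc σ s w₀ with hl
  have hlf : σ l = l := by rw [hl, map_div₀, fix_trc σ h3, fix_trc σ h3]
  have h0 : t - l * s ≠ 0 := sub_ne_zero.2 (hst l hlf)
  obtain ⟨w, hw⟩ := hnd _ h0
  apply hw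
  have h1 : trc σ s (w - trc σ s w / trc σ s w₀ * w₀) = 0 := by
    have hc : σ (-(trc σ s w / trc σ s w₀)) = -(trc σ s w / trc σ s w₀) := by
      rw [map_neg, map_div₀, fix_trc σ h3, fix_trc σ h3]
    rw [sub_eq_add_neg, ← neg_mul, trc_add_right, trc_smul σ hc, neg_mul, div_mul_cancel₀ _ hw₀, add_neg_cancel]
  have h2 := hcon _ h1
  have hc : σ (-(trc σ s w / trc σ s w₀)) = -(trc σ s w / trc σ s w₀) := by
    rw [map_neg, map_div₀, fix_trc σ h3, fix_trc σ h3]
  rw [sub_eq_add_neg, ← neg_mul, trc_add_right, trc_smul σ hc] at h2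
  have h4 : trc σ (t - l * s) w = trc σ t w - l * trc σ s w := by
    rw [trc_comm σ (t - l * s), sub_eq_add_neg, ← neg_mul, trc_add_right,
      trc_smul σ (by rw [map_neg, hlf]), trc_comm σ w t, trc_comm σ w s]
    ring
  rw [h4, hl]
  have : trc σ t w - trc σ t w₀ / trc σ s w₀ * trc σ s w =
      trc σ t w + -(trc σ s w / trc σ s w₀) * trc σ t w₀ := by ring
  rw [this, h2]

theorem exists_two {s t : K} (hs : s ≠ 0) (hst : ∀ l : K, σ l = l → t ≠ l * s) {u v : K} (hu : σ u = u)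
    (hv : σ v = v) : ∃ w, trc σ s w = u ∧ trc σ t w = v := by
  obtain ⟨w₁, h1, h2⟩ := exists_sep σ h3 hnd hs hst
  obtain ⟨w₀, hw₀⟩ := hnd s hs
  have c1 : σ (u / trc σ s w₀) = u / trc σ s w₀ := by rw [map_div₀, fix_trc σ h3, hu]
  set c := u / trc σ s w₀ with hc
  have c2 : σ ((v - c * trc σ t w₀) / trc σ t w₁) = (v - c * trc σ t w₀) / trc σ t w₁ := by
    rw [map_div₀, fix_trc σ h3, map_sub, map_mul, fix_trc σ h3, hv, c1]
  refine ⟨c * w₀ + (v - c * trc σ t w₀) / trc σ t w₁ * w₁, ?_, ?_⟩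
  · rw [trc_add_right, trc_smul σ c1, trc_smul σ c2, h1, mul_zero, add_zero, hc, div_mul_cancel₀ _ hw₀]
  · rw [trc_add_right, trc_smul σ c1, trc_smul σ c2, div_mul_cancel₀ _ h2]
    ring

omit hnd in
theorem exists_crs {s y : K} (hs : s ≠ 0) (hy : trc σ s y = 0) : ∃ w, crs σ s w = y := by
  have hn := nrm_ne_zero σ h3 hs
  have hσs := (map_ne_zero σ).2 hs
  have hσσs := (map_ne_zero σ).2 hσs
  refine ⟨-(s * (s * y / nrm σ s)), ?_⟩
  have h1 : s * y + σ (s * y) + σ (σ (s * y)) = 0 := hy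
  have h2 : crs σ s (-(s * (s * y / nrm σ s))) =
      -(σ s * σ (σ s)) / nrm σ s * (σ (σ (s * y)) + σ (s * y)) := by
    simp only [crs, map_neg, map_mul, map_div₀, fix_nrm σ h3]
    ring
  rw [h2]
  have h5 : σ (σ (s * y)) + σ (s * y) = -(s * y) := by linear_combination h1
  rw [h5]
  unfold nrm at hn ⊢
  field_simp

theorem exists_crs_two {s t : K} (hs : s ≠ 0) (ht : t ≠ 0) (hst : ∀ l : K, σ l = l → t ≠ l * s) (y : K) :
    ∃ w w', crs σ s w + crs σ t w' = y := by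
  obtain ⟨y₁, h1, h2⟩ := exists_two σ h3 hnd hs hst (u := 0) (v := trc σ t y) (map_zero σ) (fix_trc σ h3 _ _)
  obtain ⟨w, hw⟩ := exists_crs σ h3 hs h1
  have h4 : trc σ t (y - y₁) = 0 := by
    have : trc σ t (y - y₁) = trc σ t y - trc σ t y₁ := by
      simp only [trc, mul_sub, map_sub]; ring
    rw [this, h2, sub_self]
  obtain ⟨w', hw'⟩ := exists_crs σ h3 ht h4
  exact ⟨w, w', by rw [hw, hw']; ring⟩

/-- the trilinear form is not degenerate -/
theorem eq_zero_of_crs (hσ : ∃ c : K, σ c ≠ c) {α : K} (h : ∀ u v : K, trc σ (crs σ u v) α = 0) : α = 0 := by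
  have h1 : ∀ u : K, crs σ u α = 0 := by
    intro u
    by_contra hne
    obtain ⟨v, hv⟩ := hnd _ hne
    apply hv
    have := h u v
    have e : trc σ (crs σ u v) α = trc σ (crs σ u α) v := by
      simp only [trc, crs, map_add, map_mul, h3]; ring
    rw [← e, this]
  by_contra hα
  have h2 : σ (σ α) = -σ α := by
    have := h1 1
    simp only [crs, map_one, one_mul] at this
    linear_combination this
  have h4 : α = -σ (σ α) := by
    have h5 := congrArg σ h2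
    rw [h3, map_neg] at h5
    exact h5
  have h5 : σ α = α := by
    rw [h2, neg_neg] at h4
    exact h4.symm
  have h6 : (2 : K) = 0 := by
    rw [h5, h5] at h2
    have h7 : 2 * α = 0 := by linear_combination h2
    exact (mul_eq_zero.1 h7).resolve_right hα
  obtain ⟨c, hc⟩ := hσ
  apply hc
  have h8 := h1 c
  simp only [crs, h5] at h8
  have h9 : α * (σ c + σ (σ c)) = 0 := by linear_combination h8
  have h10 := (mul_eq_zero.1 h9).resolve_left hα
  have h11 : σ (σ c) = σ c := by linear_combination h10 - σ c * h6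
  exact σ.injective h11

end Cfsg.Agent.H939.HexField
end

-- part: H939/HexColl
section
/-!
Collection in the unipotent group of `³D₄(q)` (S5900).
-/

set_option autoImplicit false
set_option linter.unusedSectionVars false

namespace Cfsg.Agent.H939.HexColl

open Cfsg.Agent.SplitTwo Cfsg.Agent.H939.HexField

variable {K : Type*} [Field K] {σ : K ≃+* K} {G : Type*} [Group G] {x1 x2 x3 x4 x5 x6 : K → G}
  (H : HexRel σ x1 x2 x3 x4 x5 x6)

include H

theorem x1_zero : x1 0 = 1 := by have := H.add1 0 0; rwa [add_zero, left_eq_mul] at this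
theorem x2_zero : x2 0 = 1 := by
  have := H.add2 0 0 (map_zero σ) (map_zero σ); rwa [add_zero, left_eq_mul] at this
theorem x3_zero : x3 0 = 1 := by have := H.add3 0 0; rwa [add_zero, left_eq_mul] at this
theorem x4_zero : x4 0 = 1 := by
  have := H.add4 0 0 (map_zero σ) (map_zero σ); rwa [add_zero, left_eq_mul] at this
theorem x5_zero : x5 0 = 1 := by have := H.add5 0 0; rwa [add_zero, left_eq_mul] at this
theorem x1_inv (a : K) : (x1 a)⁻¹ = x1 (-a) := by
  rw [inv_eq_iff_mul_eq_one, ← H.add1, add_neg_cancel, x1_zero H]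
theorem x3_inv (a : K) : (x3 a)⁻¹ = x3 (-a) := by
  rw [inv_eq_iff_mul_eq_one, ← H.add3, add_neg_cancel, x3_zero H]
theorem x5_inv (a : K) : (x5 a)⁻¹ = x5 (-a) := by
  rw [inv_eq_iff_mul_eq_one, ← H.add5, add_neg_cancel, x5_zero H]

omit H in
theorem comm_of_kk {a b : G} (h : kk a b = 1) : b * a = a * b := by
  unfold kk at h
  have : a * b = b * a * (a⁻¹ * b⁻¹ * a * b) := by group
  rw [h, mul_one] at this
  exact this.symm

omit H in
theorem swap (a b : G) : b * a = a * b * (kk a b)⁻¹ := by unfold kk; group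

/-- the middle part -/
def mm (x2 x3 x4 : K → G) (t a u : K) : G := x2 t * (x3 a * x4 u)

local notation "m" => mm x2 x3 x4

variable {t t' u u' : K}

theorem mm_add (ht : σ t = t) (ht' : σ t' = t') (hu : σ u = u) (hu' : σ u' = u') (a a' : K) :
    m t a u * m t' a' u' = m (t + t') (a + a') (u + u') := by
  have e1 := comm_of_kk (H.c23 t' a ht')
  have e2 := comm_of_kk (H.c24 t' u ht' hu)
  have e3 := comm_of_kk (H.c34 a' u hu)
  unfold mm
  rw [H.add2 _ _ ht ht', H.add3, H.add4 _ _ hu hu']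
  calc x2 t * (x3 a * x4 u) * (x2 t' * (x3 a' * x4 u')) = x2 t * x3 a * (x4 u * x2 t') * x3 a' * x4 u' := by group
    _ = x2 t * (x3 a * x2 t') * (x4 u * x3 a') * x4 u' := by rw [e2]; group
    _ = x2 t * (x2 t' * x3 a) * (x3 a' * x4 u) * x4 u' := by rw [e1, e3]
    _ = _ := by group

theorem mm_x1 (ht : σ t = t) (hu : σ u = u) (w a : K) : m t a u * x1 w = x1 w * m (t - trc σ w a) a u := by
  have e1 := comm_of_kk (H.c12 w t ht)
  have e2 := comm_of_kk (H.c14 w u hu)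
  have h1 : σ (-trc σ w a) = -trc σ w a := by rw [map_neg, fix_trc σ H.cube]
  have e3 : x3 a * x1 w = x1 w * x3 a * x2 (-trc σ w a) := by
    rw [swap (x1 w) (x3 a), H.c13]
    congr 1
    rw [inv_eq_iff_mul_eq_one, ← H.add2 _ _ (fix_trc σ H.cube _ _) h1, add_neg_cancel, x2_zero H]
  have e4 := comm_of_kk (H.c23 _ a h1)
  unfold mm
  rw [sub_eq_add_neg, H.add2 _ _ ht h1]
  calc x2 t * (x3 a * x4 u) * x1 w = x2 t * (x3 a * (x4 u * x1 w)) := by group
    _ = x2 t * ((x3 a * x1 w) * x4 u) := by rw [e2]; group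
    _ = (x2 t * x1 w) * (x3 a * x2 (-trc σ w a)) * x4 u := by rw [e3]; group
    _ = _ := by rw [e1, e4]; group

theorem x5_mm (ht : σ t = t) (hu : σ u = u) (w a : K) : x5 w * m t a u = m t a (u - trc σ a w) * x5 w := by
  have e1 := comm_of_kk (H.c25 t w ht)
  have e2 := comm_of_kk (H.c45 u w hu)
  have h1 : σ (-trc σ a w) = -trc σ a w := by rw [map_neg, fix_trc σ H.cube]
  have e3 : x5 w * x3 a = x3 a * x5 w * x4 (-trc σ a w) := by
    rw [swap (x3 a) (x5 w), H.c35]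
    congr 1
    rw [inv_eq_iff_mul_eq_one, ← H.add4 _ _ (fix_trc σ H.cube _ _) h1, add_neg_cancel, x4_zero H]
  have e4 := comm_of_kk (H.c45 _ w (by rw [map_add, h1, hu] : σ (-trc σ a w + u) = -trc σ a w + u))
  unfold mm
  have e5 : u - trc σ a w = -trc σ a w + u := by ring
  rw [e5]
  calc x5 w * (x2 t * (x3 a * x4 u)) = (x5 w * x2 t) * (x3 a * x4 u) := by group
    _ = x2 t * (x5 w * x3 a) * x4 u := by rw [e1]; group
    _ = x2 t * x3 a * (x5 w * (x4 (-trc σ a w) * x4 u)) := by rw [e3]; group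
    _ = x2 t * x3 a * (x5 w * x4 (-trc σ a w + u)) := by rw [← H.add4 _ _ h1 hu]
    _ = _ := by rw [e4]; group

theorem x5_x1 (a b : K) : ∃ u, σ u = u ∧
    x5 b * x1 a = x1 a * (m (trc σ (shp σ a) b) (-crs σ a b) u * x5 b) := by
  have h1 := fix_trc σ H.cube (shp σ a) b
  have h2 := fix_trc σ H.cube a (shp σ b)
  have h1' : σ (-trc σ (shp σ a) b) = -trc σ (shp σ a) b := by rw [map_neg, h1]
  have h2' : σ (-trc σ a (shp σ b)) = -trc σ a (shp σ b) := by rw [map_neg, h2]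
  refine ⟨-trc σ a (shp σ b) - trc σ (-crs σ a b) b, by rw [map_sub, h2', fix_trc σ H.cube], ?_⟩
  have e1 : kk (x1 a) (x5 b) = m (-trc σ (shp σ a) b) (crs σ a b) (trc σ a (shp σ b)) := by
    rw [H.c15]; unfold mm; group
  have e2 : (kk (x1 a) (x5 b))⁻¹ = m (trc σ (shp σ a) b) (-crs σ a b) (-trc σ a (shp σ b)) := by
    rw [e1, inv_eq_iff_mul_eq_one, mm_add H h1' h1 h2 h2']
    simp [mm, x2_zero H, x3_zero H, x4_zero H]
  rw [swap (x1 a) (x5 b), e2, mul_assoc, x5_mm H h1 h2']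

/-- the collected form -/
def EE (x1 x2 x3 x4 x5 : K → G) (s t a u b : K) : G := x1 s * (mm x2 x3 x4 t a u * x5 b)

local notation "E" => EE x1 x2 x3 x4 x5

theorem E_mul_x1 (ht : σ t = t) (hu : σ u = u) (s a b w : K) : ∃ u', σ u' = u' ∧
    E s t a u b * x1 w = E (s + w) (t - trc σ w a + trc σ (shp σ w) b) (a + -crs σ w b) u' b := by
  obtain ⟨v, hv, e⟩ := x5_x1 H w b
  refine ⟨u + v, by rw [map_add, hu, hv], ?_⟩
  unfold EE
  have h1 := fix_trc σ H.cube (shp σ w) b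
  have h2 : σ (t - trc σ w a) = t - trc σ w a := by rw [map_sub, ht, fix_trc σ H.cube]
  rw [← mm_add H h2 h1 hu hv, H.add1]
  calc x1 s * (m t a u * x5 b) * x1 w = x1 s * m t a u * (x5 b * x1 w) := by group
    _ = x1 s * (m t a u * x1 w) * (m (trc σ (shp σ w) b) (-crs σ w b) v * x5 b) := by rw [e]; group
    _ = _ := by rw [mm_x1 H ht hu]; group

theorem E_mul_mm (ht : σ t = t) (hu : σ u = u) (ht' : σ t' = t') (hu' : σ u' = u') (s a a' b : K) :
    E s t a u b * m t' a' u' = E s (t + t') (a + a') (u + (u' - trc σ a' b)) b := by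
  have h1 : σ (u' - trc σ a' b) = u' - trc σ a' b := by rw [map_sub, hu', fix_trc σ H.cube]
  unfold EE
  rw [← mm_add H ht ht' hu h1]
  calc x1 s * (m t a u * x5 b) * m t' a' u' = x1 s * m t a u * (x5 b * m t' a' u') := by group
    _ = _ := by rw [x5_mm H ht' hu']; group

theorem E_mul_x5 (s a b b' : K) : E s t a u b * x5 b' = E s t a u (b + b') := by
  unfold EE
  rw [H.add5]; group

theorem x1_mul_E (s a b w : K) : x1 w * E s t a u b = E (w + s) t a u b := by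
  unfold EE
  rw [H.add1]; group

/-- conjugation by `x₁(w)` -/
theorem E_conj1 (ht : σ t = t) (hu : σ u = u) (s a b w : K) : ∃ u', σ u' = u' ∧
    (x1 w)⁻¹ * E s t a u b * x1 w = E s (t - trc σ w a + trc σ (shp σ w) b) (a + -crs σ w b) u' b := by
  obtain ⟨u', hu', e⟩ := E_mul_x1 H ht hu s a b w
  refine ⟨u', hu', ?_⟩
  rw [mul_assoc, e, x1_inv H, x1_mul_E H]
  congr 1
  ring

/-- conjugation by `x₅(w)` -/
theorem E_conj5 (ht : σ t = t) (hu : σ u = u) (s a b w : K) : ∃ t' u', σ t' = t' ∧ σ u' = u' ∧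
    (x5 w)⁻¹ * E s t a u b * x5 w = E s t' (a + crs σ s w) u' b := by
  obtain ⟨v, hv, e⟩ := x5_x1 H s (-w)
  have h1 := fix_trc σ H.cube (shp σ s) (-w)
  have h2 : σ (u - trc σ a (-w)) = u - trc σ a (-w) := by rw [map_sub, hu, fix_trc σ H.cube]
  refine ⟨trc σ (shp σ s) (-w) + t, v + (u - trc σ a (-w)), by rw [map_add, h1, ht], by rw [map_add, hv, h2], ?_⟩
  have e3 : a + crs σ s w = -crs σ s (-w) + a := by
    simp only [crs, map_neg]; ring
  rw [e3]
  have e4 : E s (trc σ (shp σ s) (-w) + t) (-crs σ s (-w) + a) (v + (u - trc σ a (-w))) b =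
      x1 s * ((m (trc σ (shp σ s) (-w)) (-crs σ s (-w)) v * m t a (u - trc σ a (-w))) * x5 b) := by
    rw [mm_add H h1 ht hv h2]; rfl
  rw [e4]
  have e5 : x5 b = x5 (-w) * (x5 b * x5 w) := by
    rw [← H.add5, ← H.add5]; congr 1; ring
  rw [x5_inv H]
  calc x5 (-w) * E s t a u b * x5 w = (x5 (-w) * x1 s) * m t a u * x5 b * x5 w := by unfold EE; group
    _ = x1 s * m (trc σ (shp σ s) (-w)) (-crs σ s (-w)) v * (x5 (-w) * m t a u) * x5 b * x5 w := by rw [e]; group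
    _ = x1 s * m (trc σ (shp σ s) (-w)) (-crs σ s (-w)) v * m t a (u - trc σ a (-w)) *
        (x5 (-w) * (x5 b * x5 w)) := by rw [x5_mm H ht hu]; group
    _ = _ := by rw [← e5]; group

/-- conjugation by `x₃(w)` -/
theorem E_conj3 (ht : σ t = t) (hu : σ u = u) (s a b w : K) :
    (x3 w)⁻¹ * E s t a u b * x3 w = E s (t + trc σ s w) a (u - trc σ w b) b := by
  have h0 : σ (0 : K) = 0 := map_zero σ
  have e0 : x3 w = m 0 w 0 := by simp [mm, x2_zero H, x4_zero H]
  have h1 : σ (u + (0 - trc σ w b)) = u + (0 - trc σ w b) := by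
    rw [map_add, map_sub, hu, h0, fix_trc σ H.cube]
  have h2 := fix_trc σ H.cube s w
  have e1 : x3 (-w) * x1 s = x1 s * m (trc σ s w) (-w) 0 := by
    have := mm_x1 H h0 h0 s (-w)
    have e2 : x3 (-w) = m 0 (-w) 0 := by simp [mm, x2_zero H, x4_zero H]
    rw [e2, this]
    congr 2
    simp only [trc, mul_neg, map_neg]; ring
  rw [mul_assoc, e0, E_mul_mm H ht hu h0 h0, ← e0, x3_inv H]
  unfold EE
  rw [← mul_assoc, ← mul_assoc, e1, mul_assoc (x1 s), mm_add H h2 (by rw [add_zero, ht]) h0 h1, mul_assoc]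
  congr 3
  · ring
  · ring
  · ring

/-- conjugation by `x₆(l)` -/
theorem E_conj6 {l : K} (hl : σ l = l) (ht : σ t = t) (hu : σ u = u) (s a b : K) : ∃ t' a' u', σ t' = t' ∧
    σ u' = u' ∧ (x6 l)⁻¹ * E s t a u b * x6 l = E s t' a' u' (b - l * s) := by
  have h0 := fix_nrm σ H.cube s
  have f1 : σ (-(l * nrm σ s)) = -(l * nrm σ s) := by rw [map_neg, map_mul, hl, h0]
  have f2 : σ (l ^ 2 * nrm σ s) = l ^ 2 * nrm σ s := by rw [map_mul, map_pow, hl, h0]
  have f3 : σ (t * l) = t * l := by rw [map_mul, ht, hl]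
  have f4 : σ (t * l + u) = t * l + u := by rw [map_add, f3, hu]
  have f5 : σ (t * l + u - trc σ a (-(l * s))) = t * l + u - trc σ a (-(l * s)) := by
    rw [map_sub, f4, fix_trc σ H.cube]
  have e1 : (x6 l)⁻¹ * x1 s * x6 l = x1 s * (m (-(l * nrm σ s)) (l * shp σ s) (l ^ 2 * nrm σ s) * x5 (-(l * s))) := by
    have : (x6 l)⁻¹ * x1 s * x6 l = x1 s * kk (x1 s) (x6 l) := by unfold kk; group
    rw [this, H.c16 s l hl]
    unfold mm; group
  have e2 : (x6 l)⁻¹ * m t a u * x6 l = m t a (t * l + u) := by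
    have h1 : (x6 l)⁻¹ * x2 t * x6 l = x2 t * x4 (t * l) := by
      have : (x6 l)⁻¹ * x2 t * x6 l = x2 t * kk (x2 t) (x6 l) := by unfold kk; group
      rw [this, H.c26 t l ht hl]
    have h2 := comm_of_kk (H.c36 a l hl)
    have h3 := comm_of_kk (H.c46 u l hu hl)
    have h4 := comm_of_kk (H.c34 a (t * l) f3)
    unfold mm
    rw [H.add4 _ _ f3 hu]
    calc (x6 l)⁻¹ * (x2 t * (x3 a * x4 u)) * x6 l = (x6 l)⁻¹ * x2 t * x3 a * (x4 u * x6 l) := by group
      _ = (x6 l)⁻¹ * x2 t * (x3 a * x6 l) * x4 u := by rw [← h3]; group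
      _ = ((x6 l)⁻¹ * x2 t * x6 l) * x3 a * x4 u := by rw [← h2]; group
      _ = x2 t * (x4 (t * l) * x3 a) * x4 u := by rw [h1]; group
      _ = _ := by rw [h4]; group
  have e3 := comm_of_kk (H.c56 b l hl)
  refine ⟨-(l * nrm σ s) + t, l * shp σ s + a, l ^ 2 * nrm σ s + (t * l + u - trc σ a (-(l * s))),
    by rw [map_add, f1, ht], by rw [map_add, f2, f5], ?_⟩
  have e4 : (x6 l)⁻¹ * E s t a u b * x6 l = ((x6 l)⁻¹ * x1 s * x6 l) * ((x6 l)⁻¹ * m t a u * x6 l) * x5 b := by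
    unfold EE
    calc (x6 l)⁻¹ * (x1 s * (m t a u * x5 b)) * x6 l = (x6 l)⁻¹ * x1 s * m t a u * (x5 b * x6 l) := by group
      _ = _ := by rw [← e3]; group
  rw [e4, e1, e2]
  unfold EE
  rw [← mm_add H f1 ht f2 f5]
  have e5 : x5 (b - l * s) = x5 (-(l * s)) * x5 b := by rw [← H.add5]; congr 1; ring
  rw [e5]
  calc x1 s * (m (-(l * nrm σ s)) (l * shp σ s) (l ^ 2 * nrm σ s) * x5 (-(l * s))) * m t a (t * l + u) * x5 b =
      x1 s * m (-(l * nrm σ s)) (l * shp σ s) (l ^ 2 * nrm σ s) * (x5 (-(l * s)) * m t a (t * l + u)) * x5 b := by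
        group
    _ = _ := by rw [x5_mm H ht f4]; group

end Cfsg.Agent.H939.HexColl
end

-- part: H939/HexShort
section
/-!
The short node of `³D₄(q)` (S5900).
-/

set_option autoImplicit false
set_option linter.unusedSectionVars false
set_option linter.dupNamespace false

namespace Cfsg.Agent.H939.HexShort

open CoxeterSystem Cfsg.Agent.ChevalleyStructure.CoxeterGeom Cfsg.Agent.Tits.Roots Cfsg.Agent.Tits.Core
  Cfsg.Agent.Tits.RootComb Cfsg.Agent.Tits.Exchange Cfsg.Agent.Nodes.Reps Cfsg.Agent.Nodes.BNOf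
  Cfsg.Agent.Nodes.StabComb Cfsg.Agent.Nodes.Bruhat Cfsg.Agent.Nodes.OppDec Cfsg.Agent.Nodes.LeviDec
  Cfsg.Agent.Nodes.NormX Cfsg.Agent.Nodes.Coroot Cfsg.Agent.KFacts.RgdSL Cfsg.Agent.Nodes.PosPair
  Cfsg.Agent.H939.RgdA Cfsg.Agent.H939.RgdP Cfsg.Agent.H939.RgdU Cfsg.Agent.H939.RgdMain
  Cfsg.Agent.H939.RgdTwo Cfsg.Agent.H939.RgdV Cfsg.Agent.KFacts.RgdCharP Cfsg.Agent.Nodes.Comb
  Cfsg.Agent.H939.HexOpp Cfsg.Agent.H939.HexColl Cfsg.Agent.H939.HexField
open Cfsg.Agent.SplitTwo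
open Cfsg.Agent.Nodes.RGDTwD4 (isCartan)

local notation "A" => Cfsg.Agent.Nodes.RGDTwD4.A

variable {W : Type*} [Group W] {cs : CoxeterSystem CoxeterMatrix.G₂ W} {Y : Type*} [Group Y] {p : ℕ}
  {T : Subgroup Y} {n : Fin 2 → Y} {X : (Fin 2 → ℤ) → Subgroup Y} (R : RGD cs isCartan p T n X)
  {K : Type*} [Field K] {σ : K ≃+* K} {x1 x2 x3 x4 x5 x6 : K → Y}
  (P : HexPar σ (fun k => X (rv k)) x1 x2 x3 x4 x5 x6)

local notation "E" => EE x1 x2 x3 x4 x5

include R in
/-- conjugation of root groups -/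
theorem conj_rv (i : Fin 2) {k j : ZMod (2 * 6)} (hj : rv k - pairing A i (rv k) • sr i = rv j) {g : Y}
    (hg : g ∈ X (rv k)) : n i * g * (n i)⁻¹ ∈ X (rv j) := by
  have h1 := R.conj i (rv k) (isRoot_rv k)
  rw [rep_simple_eq, hj] at h1
  rw [← h1, mem_cj]
  have e : (n i)⁻¹ * (n i * g * (n i)⁻¹) * n i = g := by group
  rwa [e]

theorem notJ_zero : ∀ k : ZMod (2 * 6), (∀ i : Fin 2, 0 ≤ rv k i) → (∃ i : Fin 2, i ≠ 0 ∧ 0 < rv k i) →
    k ∈ ([1, 2, 3, 4, 5] : List (ZMod (2 * 6))) := by decide +kernel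

include P in
theorem eq_E {g : Y} (hg : g ∈ VJ cs isCartan X {0}) :
    ∃ s t a u b : K, σ t = t ∧ σ u = u ∧ g = E s t a u b := by
  have H := P.rel
  have h0 : σ (0 : K) = 0 := map_zero σ
  have key : ∀ y : Y, (∃ s t a u b : K, σ t = t ∧ σ u = u ∧ y = E s t a u b) →
      ∃ s t a u b : K, σ t = t ∧ σ u = u ∧ y * g = E s t a u b := by
    unfold VJ RGD.Sup at hg
    refine Subgroup.iSup_induction (C := fun g => ∀ y : Y, (∃ s t a u b : K, σ t = t ∧ σ u = u ∧ y = E s t a u b) →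
      ∃ s t a u b : K, σ t = t ∧ σ u = u ∧ y * g = E s t a u b) _ hg ?_ ?_ ?_
    · rintro ⟨v, hv, hv0, k, hk, hk'⟩ x hx y ⟨s, t, a, u, b, ht, hu, rfl⟩
      obtain ⟨j, rfl⟩ := (isRoot_iff v).1 hv
      have hj := notJ_zero j hv0 ⟨k, hk, hk'⟩
      simp only [List.mem_cons, List.not_mem_nil, or_false] at hj
      rcases hj with rfl | rfl | rfl | rfl | rfl
      · obtain ⟨c, rfl⟩ := (P.mem1 x).1 hx
        obtain ⟨u', hu', e⟩ := E_mul_x1 H ht hu s a b c
        refine ⟨_, _, _, _, _, ?_, hu', e⟩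
        rw [map_add, map_sub, ht, fix_trc σ H.cube, fix_trc σ H.cube]
      · obtain ⟨c, hc, rfl⟩ := (P.mem2 x).1 hx
        have e0 : x2 c = mm x2 x3 x4 c 0 0 := by simp [mm, x3_zero H, x4_zero H]
        refine ⟨_, _, _, _, _, ?_, ?_, by rw [e0]; exact E_mul_mm H ht hu hc h0 s a 0 b⟩
        · rw [map_add, ht, hc]
        · rw [map_add, map_sub, hu, h0, fix_trc σ H.cube]
      · obtain ⟨c, rfl⟩ := (P.mem3 x).1 hx
        have e0 : x3 c = mm x2 x3 x4 0 c 0 := by simp [mm, x2_zero H, x4_zero H]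
        refine ⟨_, _, _, _, _, ?_, ?_, by rw [e0]; exact E_mul_mm H ht hu h0 h0 s a c b⟩
        · rw [map_add, ht, h0]
        · rw [map_add, map_sub, hu, h0, fix_trc σ H.cube]
      · obtain ⟨c, hc, rfl⟩ := (P.mem4 x).1 hx
        have e0 : x4 c = mm x2 x3 x4 0 0 c := by simp [mm, x2_zero H, x3_zero H]
        refine ⟨_, _, _, _, _, ?_, ?_, by rw [e0]; exact E_mul_mm H ht hu h0 hc s a 0 b⟩
        · rw [map_add, ht, h0]
        · rw [map_add, map_sub, hu, hc, fix_trc σ H.cube]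
      · obtain ⟨c, rfl⟩ := (P.mem5 x).1 hx
        exact ⟨_, _, _, _, _, ht, hu, E_mul_x5 H s a b c⟩
    · intro y hy; rw [mul_one]; exact hy
    · intro x y ihx ihy z hz; rw [← mul_assoc]; exact ihy _ (ihx _ hz)
  have := key 1 ⟨0, 0, 0, 0, 0, h0, h0, by
    simp [EE, mm, x1_zero H, x2_zero H, x3_zero H, x4_zero H, x5_zero H]⟩
  rwa [one_mul] at this

include P in
/-- the short node -/
theorem good1 [Finite W] (hnd : ∀ a : K, a ≠ 0 → ∃ b, trc σ a b ≠ 0) (hσ : ∃ c : K, σ c ≠ c)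
    (L : Long R (rv 4) (X (rv 4))) (g0 : _root_.Cfsg.Agent.H939.RgdTwo.Good R (rv 4) (X (rv 4)) 0) : _root_.Cfsg.Agent.H939.RgdTwo.Good R (rv 4) (X (rv 4)) 1 := by
  have H := P.rel
  have h0 : σ (0 : K) = 0 := map_zero σ
  have h1 : σ (1 : K) = 1 := map_one σ
  intro u₀ hu₀ x hx
  have hDi : DD cs isCartan X u₀ ⊆ VJ cs isCartan X {0} := g0 u₀ hu₀
  by_contra hcon
  have mU : ∀ k ∈ ([1, 2, 3, 4, 5, 6] : List (ZMod (2 * 6))), ∀ g ∈ X (rv k), g ∈ RGD.Sup X (RGD.Pos cs isCartan) :=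
    fun k hk g hg => RGD.le_Sup (S := RGD.Pos cs isCartan) ⟨isRoot_rv k, rv_pos k hk⟩ hg
  have q1 : ∀ a, x1 a ∈ X (rv 1) := fun a => (P.mem1 _).2 ⟨a, rfl⟩
  have q2 : ∀ a, σ a = a → x2 a ∈ X (rv 2) := fun a ha => (P.mem2 _).2 ⟨a, ha, rfl⟩
  have q3 : ∀ a, x3 a ∈ X (rv 3) := fun a => (P.mem3 _).2 ⟨a, rfl⟩
  have q4 : ∀ a, σ a = a → x4 a ∈ X (rv 4) := fun a ha => (P.mem4 _).2 ⟨a, ha, rfl⟩
  have q5 : ∀ a, x5 a ∈ X (rv 5) := fun a => (P.mem5 _).2 ⟨a, rfl⟩
  have q6 : ∀ a, σ a = a → x6 a ∈ X (rv 6) := fun a ha => (P.mem6 _).2 ⟨a, ha, rfl⟩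
  have u1 := fun a => mU 1 (by decide +kernel) _ (q1 a)
  have u3 := fun a => mU 3 (by decide +kernel) _ (q3 a)
  have u5 := fun a => mU 5 (by decide +kernel) _ (q5 a)
  have u6 := fun a ha => mU 6 (by decide +kernel) _ (q6 a ha)
  -- the coordinate at `x₂`
  have k2 : ∀ t a u b : K, σ t = t → σ u = u → E 0 t a u b ∈ DD cs isCartan X u₀ → t = 0 := by
    intro t a u b ht hu hE
    have c2 := conj_rv R 1 (k := 2) (j := 6) (by decide +kernel) (q2 t ht)
    have c3 := conj_rv R 1 (k := 3) (j := 5) (by decide +kernel) (q3 a)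
    have c4 := conj_rv R 1 (k := 4) (j := 4) (by decide +kernel) (q4 u hu)
    have c5 := conj_rv R 1 (k := 5) (j := 3) (by decide +kernel) (q5 b)
    have e : n 1 * E 0 t a u b * (n 1)⁻¹ = (n 1 * x2 t * (n 1)⁻¹) * ((n 1 * x3 a * (n 1)⁻¹) *
        ((n 1 * x4 u * (n 1)⁻¹) * (n 1 * x5 b * (n 1)⁻¹))) := by
      unfold EE mm
      rw [x1_zero H]
      group
    have h2 : n 1 * E 0 t a u b * (n 1)⁻¹ ∈ DD cs isCartan X u₀ := by
      refine DD_conj hE ?_
      rw [e]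
      exact mul_mem (mU 6 (by decide +kernel) _ c2) (mul_mem (mU 5 (by decide +kernel) _ c3)
        (mul_mem (mU 4 (by decide +kernel) _ c4) (mU 3 (by decide +kernel) _ c5)))
    have h3 := hDi h2
    rw [e] at h3
    have v : ∀ k ∈ ([3, 4, 5] : List (ZMod (2 * 6))), ∀ g ∈ X (rv k), g ∈ VJ cs isCartan X {0} := by
      intro k hk g hg
      have h4 : ∀ k ∈ ([3, 4, 5] : List (ZMod (2 * 6))), (∀ i : Fin 2, 0 ≤ rv k i) ∧
        ∃ i : Fin 2, i ≠ 0 ∧ 0 < rv k i := by decide +kernel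
      obtain ⟨h5, i, hi, hi'⟩ := h4 k hk
      exact RGD.le_Sup (S := NotJ cs isCartan {0}) ⟨isRoot_rv k, h5, i, hi, hi'⟩ hg
    have h5 := (Subgroup.mul_mem_cancel_right _ (mul_mem (v 5 (by decide +kernel) _ c3)
      (mul_mem (v 4 (by decide +kernel) _ c4) (v 3 (by decide +kernel) _ c5)))).1 h3
    rw [← sr0] at c2
    have h6 := X_inf_VJ R c2 h5
    have h7 : x2 t = 1 := by
      have : x2 t = (n 1)⁻¹ * (n 1 * x2 t * (n 1)⁻¹) * n 1 := by group
      rw [this, h6]; group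
    rw [← x2_zero H] at h7
    exact P.inj2 _ _ ht h0 h7
  obtain ⟨s, t, a, u, b, ht, hu, rfl⟩ := eq_E P (hDi hx)
  have hs : s ≠ 0 := by
    rintro rfl
    apply hcon
    unfold EE mm
    rw [x1_zero H, one_mul]
    have v : ∀ k ∈ ([2, 3, 4, 5] : List (ZMod (2 * 6))), ∀ g ∈ X (rv k), g ∈ VJ cs isCartan X {1} := by
      intro k hk g hg
      have h4 : ∀ k ∈ ([2, 3, 4, 5] : List (ZMod (2 * 6))), (∀ i : Fin 2, 0 ≤ rv k i) ∧
        ∃ i : Fin 2, i ≠ 1 ∧ 0 < rv k i := by decide +kernel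
      obtain ⟨h5, i, hi, hi'⟩ := h4 k hk
      exact RGD.le_Sup (S := NotJ cs isCartan {1}) ⟨isRoot_rv k, h5, i, hi, hi'⟩ hg
    exact mul_mem (mul_mem (v 2 (by decide +kernel) _ (q2 t ht)) (mul_mem (v 3 (by decide +kernel) _ (q3 a))
      (v 4 (by decide +kernel) _ (q4 u hu)))) (v 5 (by decide +kernel) _ (q5 b))
  have step : ∀ {y k : Y}, y ∈ DD cs isCartan X u₀ → k ∈ RGD.Sup X (RGD.Pos cs isCartan) →
      k⁻¹ * y * k ∈ DD cs isCartan X u₀ := by
    intro y k hy hk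
    have := DD_conj (k := k⁻¹) hy (mul_mem (mul_mem (inv_mem hk) hy.1) (inv_mem (inv_mem hk)))
    rwa [inv_inv] at this
  by_cases hdep : ∃ l : K, σ l = l ∧ b = l * s
  · obtain ⟨l, hl, rfl⟩ := hdep
    obtain ⟨t', a', u', ht', hu', e⟩ := E_conj6 H hl ht hu s a (l * s)
    rw [sub_self] at e
    have hx1 := step hx (u6 l hl)
    rw [e] at hx1
    -- conjugation by `n₀`
    have c1 := conj_rv R 0 (k := 1) (j := 5) (by decide +kernel) (q1 s)
    have c2 := conj_rv R 0 (k := 2) (j := 4) (by decide +kernel) (q2 t' ht')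
    have c3 := conj_rv R 0 (k := 3) (j := 3) (by decide +kernel) (q3 a')
    have c4 := conj_rv R 0 (k := 4) (j := 2) (by decide +kernel) (q4 u' hu')
    obtain ⟨s₁, e1⟩ := (P.mem5 _).1 c1
    obtain ⟨t₁, ht₁, e2⟩ := (P.mem4 _).1 c2
    obtain ⟨a₁, e3⟩ := (P.mem3 _).1 c3
    obtain ⟨u₁, hu₁, e4⟩ := (P.mem2 _).1 c4
    have hs₁ : s₁ ≠ 0 := by
      rintro rfl
      apply hs
      rw [x5_zero H] at e1
      have : x1 s = (n 0)⁻¹ * (n 0 * x1 s * (n 0)⁻¹) * n 0 := by group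
      rw [← e1] at this
      have h2 : x1 s = x1 0 := by rw [this, x1_zero H]; group
      exact P.inj1 _ _ h2
    have e5 : n 0 * E s t' a' u' 0 * (n 0)⁻¹ = E 0 u₁ a₁ (t₁ - trc σ a₁ s₁) s₁ := by
      have e6 : n 0 * E s t' a' u' 0 * (n 0)⁻¹ = (n 0 * x1 s * (n 0)⁻¹) * ((n 0 * x2 t' * (n 0)⁻¹) *
        ((n 0 * x3 a' * (n 0)⁻¹) * (n 0 * x4 u' * (n 0)⁻¹))) := by
        unfold EE mm
        rw [x5_zero H]
        group
      rw [e6, ← e1, ← e2, ← e3, ← e4]
      unfold EE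
      rw [← x5_mm H hu₁ ht₁, x1_zero H, one_mul]
      congr 1
      unfold mm
      have f1 := comm_of_kk (H.c24 u₁ t₁ hu₁ ht₁)
      have f2 := comm_of_kk (H.c34 a₁ t₁ ht₁)
      have f3 := comm_of_kk (H.c23 u₁ a₁ hu₁)
      calc x4 t₁ * (x3 a₁ * x2 u₁) = (x4 t₁ * x3 a₁) * x2 u₁ := by group
        _ = x3 a₁ * (x4 t₁ * x2 u₁) := by rw [f2]; group
        _ = (x3 a₁ * x2 u₁) * x4 t₁ := by rw [f1]; group
        _ = _ := by rw [f3]; group
    have ht2 : σ (t₁ - trc σ a₁ s₁) = t₁ - trc σ a₁ s₁ := by rw [map_sub, ht₁, fix_trc σ H.cube]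
    have hx2 : E 0 u₁ a₁ (t₁ - trc σ a₁ s₁) s₁ ∈ DD cs isCartan X u₀ := by
      rw [← e5]
      refine DD_conj hx1 ?_
      rw [e5]
      unfold EE mm
      exact mul_mem (u1 _) (mul_mem (mul_mem (mU 2 (by decide +kernel) _ (q2 _ hu₁)) (mul_mem (u3 _)
        (mU 4 (by decide +kernel) _ (q4 _ ht2)))) (u5 _))
    have key : ∀ w : K, u₁ - trc σ w a₁ + trc σ (shp σ w) s₁ = 0 := by
      intro w
      obtain ⟨u', hu', e⟩ := E_conj1 H hu₁ ht2 0 a₁ s₁ w
      have h2 := step hx2 (u1 w)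
      rw [e] at h2
      refine k2 _ _ _ _ ?_ hu' h2
      rw [map_add, map_sub, hu₁, fix_trc σ H.cube, fix_trc σ H.cube]
    apply hs₁
    refine eq_zero_of_crs σ H.cube hnd hσ fun v w => ?_
    have f0 := key 0
    have fv := key v
    have fw := key w
    have fvw := key (v + w)
    have e1 : trc σ (crs σ v w) s₁ = trc σ (shp σ (v + w)) s₁ - trc σ (shp σ v) s₁ - trc σ (shp σ w) s₁ +
        trc σ (shp σ 0) s₁ := by
      simp only [trc, crs, shp, map_add, map_mul, map_zero]; ring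
    have e2 : trc σ (v + w) a₁ = trc σ v a₁ + trc σ w a₁ := by
      simp only [trc, add_mul, map_add]; ring
    have e3 : trc σ 0 a₁ = 0 := by simp [trc]
    rw [e1]
    rw [e2] at fvw
    rw [e3] at f0
    linear_combination f0 - fv - fw + fvw
  · push Not at hdep
    have hb : b ≠ 0 := by
      rintro rfl
      exact hdep 0 h0 (zero_mul s).symm
    obtain ⟨w, w', hww⟩ := exists_crs_two σ H.cube hnd hs hb hdep (-a)
    obtain ⟨t1, v1, ht1, hv1, e1⟩ := E_conj5 H ht hu s a b w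
    have hx1 := step hx (u5 w)
    rw [e1] at hx1
    obtain ⟨v2, hv2, e2⟩ := E_conj1 H ht1 hv1 s (a + crs σ s w) b (-w')
    have hx2 := step hx1 (u1 (-w'))
    rw [e2] at hx2
    have e3 : a + crs σ s w + -crs σ (-w') b = 0 := by
      have : crs σ (-w') b = -crs σ b w' := by
        simp only [crs, map_neg]; ring
      rw [this, neg_neg]
      linear_combination hww
    rw [e3] at hx2
    have ht2 : σ (t1 - trc σ (-w') (a + crs σ s w) + trc σ (shp σ (-w')) b) =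
        t1 - trc σ (-w') (a + crs σ s w) + trc σ (shp σ (-w')) b := by
      rw [map_add, map_sub, ht1, fix_trc σ H.cube, fix_trc σ H.cube]
    set t2 := t1 - trc σ (-w') (a + crs σ s w) + trc σ (shp σ (-w')) b with ht2'
    obtain ⟨w3, hw3, hw3'⟩ := exists_two σ H.cube hnd hs hdep (u := -t2) (v := v2 - 1) (by rw [map_neg, ht2])
      (by rw [map_sub, hv2, h1])
    have hx3 := step hx2 (u3 w3)
    rw [E_conj3 H ht2 hv2 s 0 b w3, hw3, trc_comm σ w3 b, hw3'] at hx3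
    have e4 : t2 + -t2 = 0 := by ring
    have e5 : v2 - (v2 - 1) = 1 := by ring
    rw [e4, e5] at hx3
    have e6 : E s 0 0 1 b = x1 s * (x5 b * x4 1) := by
      unfold EE mm
      rw [x2_zero H, x3_zero H, one_mul, one_mul, comm_of_kk (H.c45 1 b h1)]
    apply hu₀ _ hx3
    rw [e6]
    refine opp_E R L (q1 s) (q4 1 h1) ?_ (q5 b)
    intro h2
    rw [← x4_zero H] at h2
    exact one_ne_zero (P.inj4 _ _ h1 h0 h2)

end Cfsg.Agent.H939.HexShort
end

-- part: H939/InstD4Tw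
section
/-!
Complemented subgroup lattices (S5900): `³D₄(q)`.
-/

set_option autoImplicit false
set_option linter.unusedSectionVars false
set_option linter.dupNamespace false

namespace Cfsg.Agent.H939.InstD4Tw

open CoxeterSystem Cfsg.Agent.ChevalleyStructure.CoxeterGeom Cfsg.Agent.Tits.Roots Cfsg.Agent.Tits.Core
  Cfsg.Agent.Tits.RootComb Cfsg.Agent.Nodes.Comb Cfsg.Agent.Nodes.Reps Cfsg.Agent.Nodes.BNOf
  Cfsg.Agent.Nodes.StabComb Cfsg.Agent.Nodes.LeviDec Cfsg.Agent.Nodes.OppDec Cfsg.Agent.Nodes.Bruhat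
open Cfsg.Lie Cfsg.Agent.ChevalleyStructure
open Cfsg.Agent.ChevalleyStructure.TwistedU
open Cfsg.Agent.Nodes Cfsg.Agent.Nodes.RGDLib
open Cfsg.Agent.Nodes.RGDFold (V R R_eq)
open Cfsg.Agent.H939.RgdA Cfsg.Agent.H939.RgdTwo Cfsg.Agent.H939.ClsOf Cfsg.Agent.H939.RgdP
  Cfsg.Agent.H939.InstSL Cfsg.Agent.H939.RgdV Cfsg.Agent.KFacts.RgdLieCharP
open Cfsg.Agent.H939.HexOpp Cfsg.Agent.H939.HexColl Cfsg.Agent.H939.HexField
open Cfsg.Agent.SplitTwo
open Cfsg.Agent.Nodes.RGDTwD4 (J isCartan X)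
open scoped commutatorElement

universe u

local notation "A" => Cfsg.Agent.Nodes.RGDTwD4.A

section General

variable {Y : Type*} [Group Y] {X : (Fin 2 → ℤ) → Subgroup Y}
  {K : Type*} [Field K] {σ : K ≃+* K} {x1 x2 x3 x4 x5 x6 : K → Y}
  (P : HexPar σ (fun k => X (rv k)) x1 x2 x3 x4 x5 x6)

theorem kk_symm {G : Type*} [Group G] (a b : G) : kk b a = (kk a b)⁻¹ := by unfold kk; group

theorem kk_self {G : Type*} [Group G] {a b : G} (h : a * b = b * a) : kk a b = 1 := by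
  unfold kk
  have : a⁻¹ * b⁻¹ * a * b = (b * a)⁻¹ * (a * b) := by group
  rw [this, h, inv_mul_cancel]

include P

/-- each root group is abelian, of exponent the characteristic -/
theorem facts (k : ZMod (2 * 6)) (hk : k ∈ ([1, 2, 3, 4, 5, 6] : List (ZMod (2 * 6)))) :
    ∃ (D : K → Prop) (x : K → Y), D 0 ∧ (∀ a b, D a → D b → D (a + b)) ∧ x 0 = 1 ∧
      (∀ a b, D a → D b → x (a + b) = x a * x b) ∧ ∀ g, g ∈ X (rv k) ↔ ∃ a, D a ∧ x a = g := by
  have H := P.rel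
  have h0 : σ (0 : K) = 0 := map_zero σ
  have hadd : ∀ a b, σ a = a → σ b = b → σ (a + b) = a + b := fun a b ha hb => by rw [map_add, ha, hb]
  simp only [List.mem_cons, List.not_mem_nil, or_false] at hk
  rcases hk with rfl | rfl | rfl | rfl | rfl | rfl
  · exact ⟨fun _ => True, x1, trivial, fun _ _ _ _ => trivial, x1_zero H, fun a b _ _ => H.add1 a b, fun g => by
      rw [P.mem1 g]; simp⟩
  · exact ⟨fun a => σ a = a, x2, h0, hadd, x2_zero H, fun a b => H.add2 a b, fun g => P.mem2 g⟩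
  · exact ⟨fun _ => True, x3, trivial, fun _ _ _ _ => trivial, x3_zero H, fun a b _ _ => H.add3 a b, fun g => by
      rw [P.mem3 g]; simp⟩
  · exact ⟨fun a => σ a = a, x4, h0, hadd, x4_zero H, fun a b => H.add4 a b, fun g => P.mem4 g⟩
  · exact ⟨fun _ => True, x5, trivial, fun _ _ _ _ => trivial, x5_zero H, fun a b _ _ => H.add5 a b, fun g => by
      rw [P.mem5 g]; simp⟩
  · exact ⟨fun a => σ a = a, x6, h0, hadd, by
      have := H.add6 0 0 h0 h0; rwa [add_zero, left_eq_mul] at this, fun a b => H.add6 a b, fun g => P.mem6 g⟩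

theorem X_abel {k : ZMod (2 * 6)} (hk : k ∈ ([1, 2, 3, 4, 5, 6] : List (ZMod (2 * 6)))) {g g' : Y}
    (hg : g ∈ X (rv k)) (hg' : g' ∈ X (rv k)) : g * g' = g' * g := by
  obtain ⟨D, x, h0, h1, h2, h3, h4⟩ := facts P k hk
  obtain ⟨a, ha, rfl⟩ := (h4 g).1 hg
  obtain ⟨b, hb, rfl⟩ := (h4 g').1 hg'
  rw [← h3 a b ha hb, ← h3 b a hb ha, add_comm]

theorem X_pow {p : ℕ} [CharP K p] {k : ZMod (2 * 6)} (hk : k ∈ ([1, 2, 3, 4, 5, 6] : List (ZMod (2 * 6)))) {g : Y}
    (hg : g ∈ X (rv k)) : g ^ p = 1 := by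
  obtain ⟨D, x, h0, h1, h2, h3, h4⟩ := facts P k hk
  obtain ⟨a, ha, rfl⟩ := (h4 g).1 hg
  have key : ∀ m : ℕ, D (m * a) ∧ x a ^ m = x (m * a) := by
    intro m
    induction m with
    | zero => rw [Nat.cast_zero, zero_mul, pow_zero, h2]; exact ⟨h0, rfl⟩
    | succ m ih =>
      obtain ⟨e1, e2⟩ := ih
      rw [Nat.cast_succ, add_mul, one_mul]
      exact ⟨h1 _ _ e1 ha, by rw [pow_succ, e2, h3 _ _ e1 ha]⟩
  rw [(key p).2, CharP.cast_eq_zero, zero_mul, h2]

/-- commutators with the centre -/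
theorem kk_four {k : ZMod (2 * 6)} (hk : k ∈ ([1, 2, 3, 4, 5, 6] : List (ZMod (2 * 6)))) {g z : Y}
    (hg : g ∈ X (rv k)) (hz : z ∈ X (rv 4)) : kk g z = 1 := by
  have H := P.rel
  obtain ⟨c, hc, rfl⟩ := (P.mem4 _).1 hz
  simp only [List.mem_cons, List.not_mem_nil, or_false] at hk
  rcases hk with rfl | rfl | rfl | rfl | rfl | rfl
  · obtain ⟨a, rfl⟩ := (P.mem1 _).1 hg; exact H.c14 a c hc
  · obtain ⟨a, ha, rfl⟩ := (P.mem2 _).1 hg; exact H.c24 a c ha hc
  · obtain ⟨a, rfl⟩ := (P.mem3 _).1 hg; exact H.c34 a c hc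
  · exact kk_self (X_abel P (by decide +kernel) hg hz)
  · obtain ⟨a, rfl⟩ := (P.mem5 _).1 hg; rw [kk_symm, H.c45 c a hc, inv_one]
  · obtain ⟨a, ha, rfl⟩ := (P.mem6 _).1 hg; rw [kk_symm, H.c46 c a hc ha, inv_one]

/-- the commutators of the radical -/
theorem kk_mem {i j : ZMod (2 * 6)} (hi : i ∈ ([2, 3, 4, 5, 6] : List (ZMod (2 * 6))))
    (hj : j ∈ ([2, 3, 4, 5, 6] : List (ZMod (2 * 6)))) {g k : Y} (hg : g ∈ X (rv i)) (hk : k ∈ X (rv j)) :
    kk g k ∈ X (rv 4) := by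
  have H := P.rel
  have h1 : (1 : Y) ∈ X (rv 4) := one_mem _
  have m23 : ∀ g ∈ X (rv 2), ∀ k ∈ X (rv 3), kk g k ∈ X (rv 4) := by
    intro g hg k hk
    obtain ⟨a, ha, rfl⟩ := (P.mem2 _).1 hg; obtain ⟨b, rfl⟩ := (P.mem3 _).1 hk
    rw [H.c23 a b ha]; exact h1
  have m25 : ∀ g ∈ X (rv 2), ∀ k ∈ X (rv 5), kk g k ∈ X (rv 4) := by
    intro g hg k hk
    obtain ⟨a, ha, rfl⟩ := (P.mem2 _).1 hg; obtain ⟨b, rfl⟩ := (P.mem5 _).1 hk
    rw [H.c25 a b ha]; exact h1
  have m26 : ∀ g ∈ X (rv 2), ∀ k ∈ X (rv 6), kk g k ∈ X (rv 4) := by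
    intro g hg k hk
    obtain ⟨a, ha, rfl⟩ := (P.mem2 _).1 hg; obtain ⟨b, hb, rfl⟩ := (P.mem6 _).1 hk
    rw [H.c26 a b ha hb]; exact (P.mem4 _).2 ⟨_, by rw [map_mul, ha, hb], rfl⟩
  have m35 : ∀ g ∈ X (rv 3), ∀ k ∈ X (rv 5), kk g k ∈ X (rv 4) := by
    intro g hg k hk
    obtain ⟨a, rfl⟩ := (P.mem3 _).1 hg; obtain ⟨b, rfl⟩ := (P.mem5 _).1 hk
    rw [H.c35 a b]; exact (P.mem4 _).2 ⟨_, fix_trc σ H.cube _ _, rfl⟩
  have m36 : ∀ g ∈ X (rv 3), ∀ k ∈ X (rv 6), kk g k ∈ X (rv 4) := by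
    intro g hg k hk
    obtain ⟨a, rfl⟩ := (P.mem3 _).1 hg; obtain ⟨b, hb, rfl⟩ := (P.mem6 _).1 hk
    rw [H.c36 a b hb]; exact h1
  have m56 : ∀ g ∈ X (rv 5), ∀ k ∈ X (rv 6), kk g k ∈ X (rv 4) := by
    intro g hg k hk
    obtain ⟨a, rfl⟩ := (P.mem5 _).1 hg; obtain ⟨b, hb, rfl⟩ := (P.mem6 _).1 hk
    rw [H.c56 a b hb]; exact h1
  have m4 : ∀ (k : ZMod (2 * 6)), k ∈ ([1, 2, 3, 4, 5, 6] : List (ZMod (2 * 6))) → ∀ g ∈ X (rv k), ∀ z ∈ X (rv 4),
      kk g z ∈ X (rv 4) := by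
    intro k hk g hg z hz
    rw [kk_four P hk hg hz]; exact h1
  have ms : ∀ (k : ZMod (2 * 6)), k ∈ ([1, 2, 3, 4, 5, 6] : List (ZMod (2 * 6))) → ∀ g ∈ X (rv k), ∀ z ∈ X (rv k),
      kk g z ∈ X (rv 4) := by
    intro k hk g hg z hz
    rw [kk_self (X_abel P hk hg hz)]; exact h1
  have sy : ∀ {g k : Y}, kk g k ∈ X (rv 4) → kk k g ∈ X (rv 4) := by
    intro g k h
    rw [kk_symm]; exact inv_mem h
  simp only [List.mem_cons, List.not_mem_nil, or_false] at hi hj
  rcases hi with rfl | rfl | rfl | rfl | rfl <;> rcases hj with rfl | rfl | rfl | rfl | rfl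
  · exact ms 2 (by decide +kernel) _ hg _ hk
  · exact m23 _ hg _ hk
  · exact m4 2 (by decide +kernel) _ hg _ hk
  · exact m25 _ hg _ hk
  · exact m26 _ hg _ hk
  · exact sy (m23 _ hk _ hg)
  · exact ms 3 (by decide +kernel) _ hg _ hk
  · exact m4 3 (by decide +kernel) _ hg _ hk
  · exact m35 _ hg _ hk
  · exact m36 _ hg _ hk
  · exact sy (m4 2 (by decide +kernel) _ hk _ hg)
  · exact sy (m4 3 (by decide +kernel) _ hk _ hg)
  · exact ms 4 (by decide +kernel) _ hg _ hk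
  · exact sy (m4 5 (by decide +kernel) _ hk _ hg)
  · exact sy (m4 6 (by decide +kernel) _ hk _ hg)
  · exact sy (m25 _ hk _ hg)
  · exact sy (m35 _ hk _ hg)
  · exact m4 5 (by decide +kernel) _ hg _ hk
  · exact ms 5 (by decide +kernel) _ hg _ hk
  · exact m56 _ hg _ hk
  · exact sy (m26 _ hk _ hg)
  · exact sy (m36 _ hk _ hg)
  · exact m4 6 (by decide +kernel) _ hg _ hk
  · exact sy (m56 _ hk _ hg)
  · exact ms 6 (by decide +kernel) _ hg _ hk

variable {W : Type*} [Group W] {cs : CoxeterSystem CoxeterMatrix.G₂ W} {p : ℕ} {T : Subgroup Y} {n : Fin 2 → Y}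

omit P in
theorem r_facts : (∀ i : Fin 2, 0 ≤ pairing A i (rv 4)) ∧ (∀ i : Fin 2, pairing A i (rv 4) ≠ 0 → i = 0) ∧
    (∀ k : ZMod (2 * 6), (∀ i : Fin 2, 0 ≤ rv k i) → k ∈ ([1, 2, 3, 4, 5, 6] : List (ZMod (2 * 6)))) ∧
    (∀ k : ZMod (2 * 6), (∀ i : Fin 2, 0 ≤ rv k i) → 0 < rv k 0 → k ∈ ([2, 3, 4, 5, 6] : List (ZMod (2 * 6)))) := by
  decide +kernel

theorem cls_hex [Finite W] [Fact p.Prime] [CharP K p] (R : RGD cs isCartan p T n X) :
    RgdTwo.Cls R (rv 4) (X (rv 4)) := by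
  obtain ⟨f1, f2, f3, f4⟩ := r_facts
  have hr : IsRoot cs isCartan (rv 4) := isRoot_rv 4
  have e4 : (4 : ZMod (2 * 6)) ∈ ([1, 2, 3, 4, 5, 6] : List (ZMod (2 * 6))) := by decide +kernel
  have hN : ∀ x ∈ NotJ cs isCartan (orth cs isCartan (rv 4)), ∃ k ∈ ([2, 3, 4, 5, 6] : List (ZMod (2 * 6))),
      x = rv k := by
    rintro x ⟨hx, h0, k, hk, hk'⟩
    rw [mem_orth] at hk
    obtain ⟨j, rfl⟩ := (isRoot_iff x).1 hx
    rw [f2 k hk] at hk'
    exact ⟨j, f4 j h0 hk', rfl⟩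
  refine cls_of R hr f1 le_rfl (X_ne_bot R hr) ?_ ?_ ?_ ?_ ?_ ?_
  · intro t ht
    exact R.tor _ hr t ht
  · intro w k hk hw
    rw [R.conj_rp hk hr, hw]
  · intro x hx h0 z hz g hg
    obtain ⟨j, rfl⟩ := (isRoot_iff x).1 hx
    exact comm_of_kk (kk_four P (f3 j h0) hg hz)
  · intro x hx y hy g hg k hk
    obtain ⟨i, hi, rfl⟩ := hN x hx
    obtain ⟨j, hj, rfl⟩ := hN y hy
    have := kk_mem P hi hj (inv_mem hg) (inv_mem hk)
    have e : g * k * g⁻¹ * k⁻¹ = kk g⁻¹ k⁻¹ := by unfold kk; group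
    rwa [e]
  · intro x hx g hg
    obtain ⟨i, hi, rfl⟩ := hN x hx
    have hi' : i ∈ ([1, 2, 3, 4, 5, 6] : List (ZMod (2 * 6))) := List.mem_cons_of_mem _ hi
    rw [X_pow P hi' hg]; exact one_mem _
  · intro g hg
    exact X_pow P e4 hg

end General

theorem V_iff : ∀ s < chevD4.nroots, ∀ k : ZMod (2 * 6),
    (V chevD4 J s = rv k ↔ s ∈ Cfsg.Agent.Hexagon.TwD4RGD.L k) := by
  decide +kernel

theorem X_eq {K : Type u} [Field K] {q : ℕ} {φ : K →+* K} (hle : twistedD4 K q ≤ D4Fixed.fix φ) (k : ZMod (2 * 6)) :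
    X φ q (rv k) = Cfsg.Agent.Hexagon.TwD4RGD.X K q k := by
  have h1 : ∀ s ∈ Cfsg.Agent.Hexagon.TwD4RGD.L k, s < chevD4.nroots := by
    intro s hs
    have : chevD4.nroots = 24 := by decide +kernel
    rw [this]
    exact Cfsg.Agent.Hexagon.TwD4RGD.L_lt k s hs
  ext g
  rw [Cfsg.Agent.Hexagon.TwD4RGD.mem_X]
  show (g : GL chevD4.Idx K) ∈ R chevD4 Cfsg.Agent.Nodes.RGDTwD4.hp K J (D4Fixed.sig φ) (rv k) ↔ _
  rw [R_eq (fun s hs => V_iff s hs k) h1, Cfsg.Agent.Nodes.RGDTwD4.xG_eq]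
  constructor
  · rintro ⟨h2, -⟩
    exact h2
  · intro h2
    exact ⟨h2, hle g.2⟩

theorem walk0 : ([1, 0] : List (Fin 2)).foldr (fun i x => x - pairing A i x • sr i) (rv 4) = sr 0 := by
  decide +kernel

theorem trc_nondeg {K : Type u} [Field K] [Fintype K] {q : ℕ} {σ : K ≃+* K} (hq : 1 < q)
    (hK : Fintype.card K = q ^ 3) (hσ : ∀ x, σ x = x ^ q) (a : K) (ha : a ≠ 0) : ∃ b, trc σ a b ≠ 0 := by
  classical
  by_contra hcon
  push Not at hcon
  have h1 : ∀ z : K, z + z ^ q + z ^ (q ^ 2) = 0 := by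
    intro z
    have := hcon (a⁻¹ * z)
    rw [trc, mul_inv_cancel_left₀ ha, hσ, hσ, ← pow_mul] at this
    rw [pow_two]
    exact this
  let P : Polynomial K := Polynomial.X + Polynomial.X ^ q + Polynomial.X ^ (q ^ 2)
  have hq2 : q < q ^ 2 := by nlinarith only [hq]
  have hdeg : P.natDegree ≤ q ^ 2 := by
    refine Polynomial.natDegree_add_le_of_degree_le (Polynomial.natDegree_add_le_of_degree_le ?_ ?_) ?_
    · rw [Polynomial.natDegree_X]; omega
    · rw [Polynomial.natDegree_X_pow]; omega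
    · rw [Polynomial.natDegree_X_pow]
  have hP : P = 0 := by
    refine Polynomial.eq_zero_of_natDegree_lt_card_of_eval_eq_zero P (f := id) Function.injective_id (fun z => ?_) ?_
    · simp only [P, Polynomial.eval_add, Polynomial.eval_X, Polynomial.eval_pow, id_eq]
      exact h1 z
    · rw [hK]
      have : q ^ 2 < q ^ 3 := by nlinarith only [hq2]
      omega
  have h2 : P.coeff 1 = 1 := by
    simp only [P, Polynomial.coeff_add, Polynomial.coeff_X_one, Polynomial.coeff_X_pow]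
    rw [if_neg (by omega), if_neg (by omega), add_zero, add_zero]
  rw [hP, Polynomial.coeff_zero] at h2
  exact zero_ne_one h2

theorem exists_moved {K : Type u} [Field K] [Fintype K] {q : ℕ} {σ : K ≃+* K} (hq : 1 < q)
    (hK : Fintype.card K = q ^ 3) (hσ : ∀ x, σ x = x ^ q) : ∃ c : K, σ c ≠ c := by
  classical
  by_contra hcon
  push Not at hcon
  have h5 : Fintype.card K ≤ q := by
    have hne : (Polynomial.X ^ q - Polynomial.X : Polynomial K) ≠ 0 := FiniteField.X_pow_card_sub_X_ne_zero K hq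
    have h6 : (Finset.univ : Finset K).val ≤ (Polynomial.X ^ q - Polynomial.X : Polynomial K).roots := by
      rw [Multiset.le_iff_subset Finset.univ.nodup]
      intro c _
      rw [Polynomial.mem_roots hne, Polynomial.IsRoot.def]
      have := hcon c
      rw [hσ] at this
      simp [this]
    have h7 := Multiset.card_le_card h6
    have h8 := Polynomial.card_roots' (Polynomial.X ^ q - Polynomial.X : Polynomial K)
    rw [FiniteField.X_pow_card_sub_X_natDegree_eq K hq] at h8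
    have h9 : Multiset.card (Finset.univ : Finset K).val = Fintype.card K := rfl
    omega
  rw [hK] at h5
  have : q ^ 2 < q ^ 3 := by nlinarith only [hq]
  nlinarith only [h5, this]

theorem cl_D4 (K : Type u) [Field K] [Fintype K] {q : ℕ} (hq : IsPrimePow q) (hK : Fintype.card K = q ^ 3)
    [Finite ↥(twistedD4 K q)] [IsSimpleGroup ↥(twistedD4 K q)] : KLat.CL ↥(twistedD4 K q) := by
  by_cases hc : ∀ a b : ↥(twistedD4 K q), a * b = b * a
  · exact cl_of_comm hc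
  obtain ⟨p, hp⟩ := CharP.exists K
  have : Fact p.Prime := ⟨CharP.char_is_prime K p⟩
  obtain ⟨φ, hφ⟩ := D4Fixed.exists_frob hq hK
  set cs := (CoxeterMatrix.G₂).toCoxeterSystem with hcs
  have hWf : Finite (CoxeterMatrix.G₂).Group := RGDFold.finite_W (hp := RGDTwD4.hp) cs isCartan RGDTwD4.foldData
  set R := RGDTwD4.rgd cs hK hφ p with hR
  have hX := RGDTwD4.G1_eq_top cs hK hφ
  have hconn := conn_of_simple R hX (center_bot hc)
  have hG : GG cs isCartan (RGDTwD4.T K q) (X φ q) = ⊤ := by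
    rw [eq_top_iff, ← hX]; exact le_sup_right
  have h3 : ∀ a : K, φ (φ (φ a)) = a := by
    intro t
    rw [hφ, hφ, hφ, ← pow_mul, ← pow_mul]
    have : q * (q * q) = q ^ 3 := by ring
    rw [this, ← hK]
    exact FiniteField.pow_card t
  have hbij : Function.Bijective φ := Finite.injective_iff_bijective.1 φ.injective
  have hle := D4Fixed.twisted_le_fix hK hφ
  set σ : K ≃+* K := RingEquiv.ofBijective φ hbij with hσ
  have P := Cfsg.Agent.Hexagon.TwD4Par.hexPar (q := q) hφ hle (σ := σ) (fun x => rfl) h3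
  have hP : (fun k => X φ q (rv k)) = Cfsg.Agent.Hexagon.TwD4RGD.X K q := funext (X_eq hle)
  rw [← hP] at P
  have hσq : ∀ x, σ x = x ^ q := hφ
  have C := cls_hex (cs := cs) P R
  have g0 : _root_.Cfsg.Agent.H939.RgdTwo.Good R (rv 4) _ 0 := good_of_class C.long hG (v := cs.wordProd [1, 0]) (by rw [rep_foldr, walk0])
  have g1 := HexShort.good1 R P (trc_nondeg hq.one_lt hK hσq) (exists_moved hq.one_lt hK hσq) C.long g0
  refine cl_of_good R hX hconn C ?_
  intro i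
  fin_cases i
  · exact g0
  · exact g1

theorem cl_3D4 {G : Type*} [Group G] [Finite G] [IsSimpleGroup G] (h : Iso3D4 G) : KLat.CL G := by
  obtain ⟨F, _, _, q, hq, hF, ⟨e⟩⟩ := h
  have : Finite ↥(twistedD4 F q) := Finite.of_equiv G e.toEquiv
  have : IsSimpleGroup ↥(twistedD4 F q) := e.symm.isSimpleGroup
  exact KLat.of_equiv e.symm (cl_D4 F hq hF)

end Cfsg.Agent.H939.InstD4Tw
end

-- part: H724/AltCL
section
/-!
`A_n` (`n ≥ 4`) has a complemented subgroup lattice (row of S5900).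
-/

set_option autoImplicit false

namespace Cfsg.Agent.H724.AltCL

open Cfsg.Agent.H939.KLat MulAction

/-- the subgroup `V_4` of `A_4` -/
def V4 : Subgroup (alternatingGroup (Fin 4)) where
  carrier := {g | g * g = 1}
  mul_mem' := by
    have h : ∀ a b : alternatingGroup (Fin 4), a * a = 1 → b * b = 1 → (a * b) * (a * b) = 1 := by
      (set_option synthInstance.maxSize 9000 in open scoped Cfsg.Agent.Lib.FastPerm in decide +kernel)
    intro a b ha hb
    exact h a b ha hb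
  one_mem' := by simp only [_root_.Set.mem_ofPred_eq, _root_.mul_one]
  inv_mem' := by
    intro a ha
    have ha' : a * a = 1 := ha
    show a⁻¹ * a⁻¹ = 1
    rw [← mul_inv_rev, ha', inv_one]

theorem mem_V4 {g : alternatingGroup (Fin 4)} : g ∈ V4 ↔ g * g = 1 := Iff.rfl

def c3 : alternatingGroup (Fin 4) := 
  ⟨finRotate 4 * Equiv.swap 0 1, by rw [Equiv.Perm.mem_alternatingGroup]; decide +kernel⟩

theorem cl_A4 : CL (alternatingGroup (Fin 4)) := by
  refine of_normal_abelian (N := V4) (L := Subgroup.zpowers c3) ?_ ?_ ?_ ?_ ?_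
  · have h : ∀ a b : alternatingGroup (Fin 4), a * a = 1 → b * b = 1 → a * b = b * a := by
      (set_option synthInstance.maxSize 9000 in open scoped Cfsg.Agent.Lib.FastPerm in decide +kernel)
    intro n hn m hm
    exact h n m hn hm
  · intro g n hn
    rw [mem_V4] at hn ⊢
    have : g * n * g⁻¹ * (g * n * g⁻¹) = g * (n * n) * g⁻¹ := by group
    rw [this, hn]; simp
  · have h : ∀ k n : alternatingGroup (Fin 4), k * k = 1 → k ≠ 1 → n * n = 1 → n ≠ 1 →
        ∃ g : alternatingGroup (Fin 4), g * k * g⁻¹ = n := by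
      (set_option synthInstance.maxSize 9000 in open scoped Cfsg.Agent.Lib.FastPerm in decide +kernel)
    intro K hK hKn
    by_cases h0 : K = ⊥
    · exact Or.inl h0
    · right
      refine le_antisymm hK fun n hn => ?_
      obtain ⟨k, hk, hk1⟩ : ∃ k ∈ K, k ≠ 1 := by
        by_contra hcon
        push Not at hcon
        exact h0 ((Subgroup.eq_bot_iff_forall K).mpr hcon)
      by_cases hn1 : n = 1
      · rw [hn1]; exact K.one_mem
      obtain ⟨g, hg⟩ := h k n (hK hk) hk1 hn hn1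
      rw [← hg]
      exact hKn g k hk
  · have h : ∀ g : alternatingGroup (Fin 4), ∃ n : alternatingGroup (Fin 4), n * n = 1 ∧
        (g = n * 1 ∨ g = n * c3 ∨ g = n * (c3 * c3)) := by
      (set_option synthInstance.maxSize 9000 in open scoped Cfsg.Agent.Lib.FastPerm in decide +kernel)
    intro g
    obtain ⟨n, hn, h1 | h1 | h1⟩ := h g
    · exact ⟨n, hn, 1, Subgroup.one_mem _, h1⟩
    · exact ⟨n, hn, c3, Subgroup.mem_zpowers c3, h1⟩
    · exact ⟨n, hn, c3 * c3, Subgroup.mul_mem _ (Subgroup.mem_zpowers c3) (Subgroup.mem_zpowers c3), h1⟩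
  · apply of_prime
    rw [Nat.card_zpowers]
    have h3 : orderOf c3 = 3 := by
      have : Fact (Nat.Prime 3) := ⟨Nat.prime_three⟩
      refine orderOf_eq_prime ?_ ?_
      · have : c3 * c3 * c3 = 1 := by decide +kernel
        rw [pow_succ, pow_two]; exact this
      · decide +kernel
    rw [h3]
    exact Nat.prime_three

/-- the embedding of the alternating group of the complement of a point -/
def stabHom {α : Type*} [Fintype α] [DecidableEq α] (a : α) :
    alternatingGroup {x : α // x ≠ a} →* alternatingGroup α :=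
  ((Equiv.Perm.ofSubtype (p := fun x : α => x ≠ a)).comp (alternatingGroup {x : α // x ≠ a}).subtype).codRestrict
    (alternatingGroup α) (by
      intro x
      rw [Equiv.Perm.mem_alternatingGroup]
      simp only [MonoidHom.coe_comp, Function.comp_apply, Subgroup.coe_subtype, Equiv.Perm.sign_ofSubtype]
      exact x.2)

theorem stabHom_inj {α : Type*} [Fintype α] [DecidableEq α] (a : α) : Function.Injective (stabHom a) := by
  intro x y h
  have h1 := congrArg Subtype.val h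
  exact Subtype.ext (Equiv.Perm.ofSubtype_injective h1)

theorem stabHom_range {α : Type*} [Fintype α] [DecidableEq α] (a : α) :
    (stabHom a).range = stabilizer (alternatingGroup α) a := by
  ext g
  constructor
  · rintro ⟨x, rfl⟩
    rw [mem_stabilizer_iff]
    show Equiv.Perm.ofSubtype (x : Equiv.Perm {x : α // x ≠ a}) a = a
    exact Equiv.Perm.ofSubtype_apply_of_not_mem _ (by simp)
  · intro hg
    rw [mem_stabilizer_iff] at hg
    have hga : (g : Equiv.Perm α) a = a := hg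
    have hp : ∀ x : α, x ≠ a ↔ (g : Equiv.Perm α) x ≠ a := by
      intro x
      rw [not_iff_not]
      constructor
      · rintro rfl; exact hga
      · intro hx; exact (g : Equiv.Perm α).injective (hx.trans hga.symm)
    have hof : Equiv.Perm.ofSubtype ((g : Equiv.Perm α).subtypePerm (p := fun x : α => x ≠ a) (fun x => (hp x).symm)) = (g : Equiv.Perm α) := by
      refine Equiv.Perm.ofSubtype_subtypePerm _ ?_
      intro x hx hxa
      exact hx (by rw [hxa]; exact hga)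
    refine ⟨⟨(g : Equiv.Perm α).subtypePerm (p := fun x : α => x ≠ a) (fun x => (hp x).symm), ?_⟩, ?_⟩
    · rw [Equiv.Perm.mem_alternatingGroup, ← Equiv.Perm.sign_ofSubtype, hof]
      exact g.2
    · exact Subtype.ext hof

theorem cl_alt_aux (n : ℕ) : ∀ (α : Type) [Fintype α] [DecidableEq α], Fintype.card α = n + 4 →
    CL (alternatingGroup α) := by
  induction n with
  | zero =>
    intro α _ _ hα
    have e : Fin 4 ≃ α := (Fintype.equivFinOfCardEq (by simpa only [_root_.zero_add] using hα)).symm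
    exact of_equiv e.altCongrHom cl_A4
  | succ n ih =>
    intro α _ _ hα
    have hNc : Nat.card α = n + 5 := by rw [Nat.card_eq_fintype_card, hα]
    have hsimple : IsSimpleGroup (alternatingGroup α) := alternatingGroup.isSimpleGroup (by omega)
    have hne : Nonempty α := by
      rw [← Fintype.card_pos_iff]; omega
    obtain ⟨a⟩ := hne
    have hnt : Nontrivial α := by
      rw [← Fintype.one_lt_card_iff_nontrivial]; omega
    have hprim : IsPreprimitive (alternatingGroup α) α :=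
      alternatingGroup.isPreprimitive_of_three_le_card α (by omega)
    have hco : IsCoatom (stabilizer (alternatingGroup α) a) :=
      IsPreprimitive.isCoatom_stabilizer_of_isPreprimitive _ a
    have hcard : Fintype.card {x : α // x ≠ a} = n + 4 := by
      rw [Fintype.card_subtype_compl, Fintype.card_subtype_eq, hα]; rfl
    have hX : CL (stabilizer (alternatingGroup α) a) := by
      rw [← stabHom_range]
      exact of_equiv (MonoidHom.ofInjective (stabHom_inj a)) (ih _ hcard)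
    refine crit_unique hX hco.1 fun Y hXY hY => ?_
    by_contra hle
    exact hY (hco.2 _ (lt_of_le_of_ne hXY (fun h => hle h.ge)))

/-- **`A_n` has a complemented subgroup lattice.** -/
theorem cl_alt (n : ℕ) (hn : 5 ≤ n) : CL (alternatingGroup (Fin n)) :=
  cl_alt_aux (n - 4) (Fin n) (by simp only [_root_.Fintype.card_fin]; omega)

end Cfsg.Agent.H724.AltCL
end

-- part: H939/LieAll
section
/-!
Complemented subgroup lattices (S5900): all families.
-/

set_option autoImplicit false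
set_option linter.unusedSectionVars false

namespace Cfsg.Agent.H939.LieAll

open Cfsg.Lie

variable {G : Type} [Group G] [Finite G] [IsSimpleGroup G]

theorem transfer {Q : Type*} [Group Q] (e : G ≃* Q) (h : ∀ [Finite Q] [IsSimpleGroup Q], KLat.CL Q) : KLat.CL G := by
  have : Finite Q := Finite.of_equiv G e.toEquiv
  have : IsSimpleGroup Q := e.symm.isSimpleGroup
  exact KLat.of_equiv e.symm h

theorem exists_char (F : Type) [Field F] [Fintype F] : ∃ p : ℕ, Fact p.Prime ∧ CharP F p := by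
  obtain ⟨p, hp⟩ := CharP.exists F
  exact ⟨p, ⟨CharP.char_is_prime F p⟩, hp⟩

theorem cl_alt (h : Cfsg.IsAlternating G) : KLat.CL G := by
  obtain ⟨n, hn, ⟨e⟩⟩ := h
  exact KLat.of_equiv e.symm (H724.AltCL.cl_alt n hn)

theorem cl_PSL (h : Cfsg.IsPSL G) : KLat.CL G := by
  obtain ⟨F, _, _, n, hn, -, ⟨e⟩⟩ := h
  obtain ⟨p, _, _⟩ := exists_char F
  rcases hn.eq_or_lt with rfl | hn
  · exact H753.ClRank.cl_PSL2 e
  · obtain ⟨k, rfl⟩ : ∃ k, n = k + 1 := ⟨n - 1, by omega⟩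
    exact transfer e (InstSL.cl_PSL' k (by omega) (p := p))

theorem cl_PSp (h : Cfsg.IsPSp G) : KLat.CL G := by
  obtain ⟨F, _, _, m, hm, -, ⟨e⟩⟩ := h
  obtain ⟨p, _, _⟩ := exists_char F
  exact transfer e (InstClass.cl_PSp hm (p := p))

theorem cl_PSU (h : Cfsg.IsPSU G) : KLat.CL G := by
  obtain ⟨F, _, _, n, q, hF, hn, -, ⟨e⟩⟩ := h
  obtain ⟨p, _, _⟩ := exists_char F
  exact transfer e (InstClass.cl_PSU hF hn (p := p))

theorem cl_POdd (h : Cfsg.IsPOmegaOdd G) : KLat.CL G := by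
  obtain ⟨F, _, _, m, hm, hodd, ⟨e⟩⟩ := h
  obtain ⟨p, _, _⟩ := exists_char F
  have h2 : (2 : F) ≠ 0 := by
    intro h2
    have h3 : CharP F 2 := CharTwo.of_one_ne_zero_of_two_eq_zero one_ne_zero h2
    have h4 := (CharP.cast_eq_zero_iff F 2 (Fintype.card F)).1 (Nat.cast_card_eq_zero F)
    rw [← Nat.not_even_iff_odd] at hodd
    exact hodd (even_iff_two_dvd.2 h4)
  exact transfer e (InstClass.cl_PO_odd h2 (by omega) (p := p))

theorem cl_PPlus (h : Cfsg.IsPOmegaPlus G) : KLat.CL G := by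
  obtain ⟨F, _, _, m, hm, ⟨e⟩⟩ := h
  obtain ⟨p, _, _⟩ := exists_char F
  obtain ⟨k, rfl⟩ : ∃ k, m = k + 3 := ⟨m - 3, by omega⟩
  exact transfer e (InstSL.cl_PO_plus k (p := p))

theorem cl_PMinus (h : Cfsg.IsPOmegaMinus G) : KLat.CL G := by
  obtain ⟨F, _, _, m, a, b, hm, hab, ⟨e⟩⟩ := h
  obtain ⟨p, _, _⟩ := exists_char F
  exact transfer e (InstClass.cl_PO_minus a b hab (by omega) (p := p))

theorem cl_G2 (h : IsoChevG2 G) : KLat.CL G := by
  obtain ⟨F, _, _, hF, ⟨e⟩⟩ := h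
  obtain ⟨p, _, _⟩ := exists_char F
  exact transfer e (InstG2.cl_G2 F p (by rwa [Nat.card_eq_fintype_card]))

theorem cl_F4 (h : IsoF4 G) : KLat.CL G := by
  obtain ⟨F, _, _, ⟨e⟩⟩ := h
  obtain ⟨p, _, _⟩ := exists_char F
  exact transfer e (InstF4.cl_F4 F p)

theorem cl_E6 (h : IsoChevE6 G) : KLat.CL G := by
  obtain ⟨F, _, _, ⟨e⟩⟩ := h
  obtain ⟨p, _, _⟩ := exists_char F
  exact transfer e (InstSL.cl_E6 F p)

theorem cl_E7 (h : IsoE7 G) : KLat.CL G := by
  obtain ⟨F, _, _, ⟨e⟩⟩ := h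
  obtain ⟨p, _, _⟩ := exists_char F
  exact transfer e (InstSL.cl_E7 F p)

theorem cl_E8 (h : IsoE8 G) : KLat.CL G := by
  obtain ⟨F, _, _, ⟨e⟩⟩ := h
  obtain ⟨p, _, _⟩ := exists_char F
  exact transfer e (InstSL.cl_E8 F p)

theorem cl_2E6 (h : Iso2E6 G) : KLat.CL G := by
  obtain ⟨F, _, _, q, hq, hF, ⟨e⟩⟩ := h
  exact transfer e (InstE6Tw.cl_E6 F hq hF)

/-- all families but the Tits group -/
theorem cl_lie (hT : IsoTits G → KLat.CL G) (h : Cfsg.IsKnownSimple' G) :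
    KLat.CL G ∨ Cfsg.IsSporadicGroup G := by
  rcases h with h | h | h | h | h | h | h | h | h | h
  · exact Or.inl (KLat.of_prime h)
  · exact Or.inl (cl_alt h)
  · exact Or.inl (cl_PSL h)
  · exact Or.inl (cl_PSp h)
  · exact Or.inl (cl_PSU h)
  · exact Or.inl (cl_POdd h)
  · exact Or.inl (cl_PPlus h)
  · exact Or.inl (cl_PMinus h)
  · left
    rcases h with h | h | h | h | h | h | h | h | h | h | h
    · exact cl_G2 h
    · exact cl_F4 h
    · exact cl_E6 h
    · exact cl_E7 h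
    · exact cl_E8 h
    · exact cl_2E6 h
    · exact InstD4Tw.cl_3D4 h
    · exact H753.ClRank.cl_Suzuki h
    · exact H753.ClRank.cl_Ree h
    · exact H99.CL2F4.cl_2F4 h
    · exact hT h
  · exact Or.inr h

end Cfsg.Agent.H939.LieAll
end

private theorem dce_aa6eaa4cdce7 : _root_.True := by
  try have : _root_.True := by simp only [_root_.Cfsg.Agent.H939.HexColl.mm.eq_1]
  try have : _root_.True := by simp only [_root_.Cfsg.Agent.H939.HexColl.EE.eq_1]
  try have : _root_.True := by simp only [_root_.Cfsg.Agent.H939.HexOpp.det2.eq_1]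
  try have : _root_.True := by simp only [_root_.Cfsg.Agent.H939.InstG2.E.eq_1]
  try have : _root_.True := by simp only [_root_.Cfsg.Agent.H939.InstE6Tw.vv.eq_1]
  exact _root_.True.intro
end
end
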